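import Groth.Agent.H21Rank1.Coord
import Groth.Agent.H21Weil.NoTorus
import Groth.Prelude.Def_Red2

/-!
The additive group is smooth with connected geometric fibres and contains no torus.
-/

open CategoryTheory MonoidalCategory CartesianMonoidalCategory MonObj GrpObj AlgebraicGeometry
open CategoryTheory.Limits
open Groth.Agent.H27Witt.GaCoord (gaFn_comp gaFn_one gaFn_injective gaFn_mul gaFn_surjective)

universe u

set_option backward.isDefEq.respectTransparency false

namespace Groth.Agent.H21Rank1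

variable {S : Scheme.{u}}

theorem smooth_Ga : Smooth (Red.Ga S).hom := by
  have h : Smooth (Red.GaZ.{u}).hom := by
    change Smooth (Spec.map (CommRingCat.ofHom (algebraMap (ULift.{u} ℤ) (SymmetricAlgebra (ULift.{u} ℤ) (ULift.{u} ℤ)))))
    rw [HasRingHomProperty.Spec_iff (P := @Smooth)]
    change RingHom.Smooth (algebraMap (ULift.{u} ℤ) (SymmetricAlgebra (ULift.{u} ℤ) (ULift.{u} ℤ)))
    rw [RingHom.smooth_algebraMap]
    have : Algebra.Smooth (ULift.{u} ℤ) (MvPolynomial Unit (ULift.{u} ℤ)) := ⟨inferInstance, inferInstance⟩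
    exact Algebra.Smooth.of_equiv (SymmetricAlgebra.equivMvPolynomial (Module.Basis.singleton Unit (ULift.{u} ℤ))).symm
  change Smooth (pullback.snd (Red.GaZ.{u}).hom (specULiftZIsTerminal.from S))
  exact MorphismProperty.pullback_snd (P := @Smooth) _ _ h

theorem gaFn_pow {X : Over S} (x : X ⟶ Red.Ga S) (n : ℕ) : Red.gaFn (x ^ n) = n * Red.gaFn x := by
  induction n with
  | zero =>
    refine (congrArg Red.gaFn (pow_zero x)).trans (gaFn_one.trans ?_)
    rw [Nat.cast_zero, zero_mul]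
  | succ n ih =>
    refine (congrArg Red.gaFn (pow_succ x n)).trans ((gaFn_mul _ _).trans ?_)
    rw [ih, Nat.cast_succ, add_mul, _root_.one_mul]

theorem bcEquiv_symm_pow {S' : Scheme.{u}} (f : S' ⟶ S) (X : Over S) [GrpObj X] (T : Over S') (a : T ⟶ Red.bc f X) (n : ℕ) :
    (H21Diag.bcEquiv f X T).symm (a ^ n) = (H21Diag.bcEquiv f X T).symm a ^ n := by
  induction n with
  | zero =>
    rw [pow_zero, pow_zero]
    have h := H21Diag.bcEquiv_symm_mul f X T 1 1
    rw [_root_.one_mul] at h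
    exact left_eq_mul.mp h
  | succ n ih => rw [pow_succ, pow_succ, H21Diag.bcEquiv_symm_mul, ih]

variable {Ω : Type u} [Field Ω] [IsAlgClosed Ω] (f : Spec (CommRingCat.of Ω) ⟶ S)

theorem hasNoSubtorus_Ga : Red.HasNoSubtorus Ω (Red.bc f (Red.Ga S)) := by
  refine H21Weil.hasNoSubtorus_of_torsion _ fun D _ _ ℓ x hℓ hx => ?_
  apply (H21Diag.bcEquiv f (Red.Ga S) (H21Weil.specO Ω D)).symm.injective
  refine gaFn_injective ?_
  have h := congrArg (fun q => Red.gaFn ((H21Diag.bcEquiv f (Red.Ga S) (H21Weil.specO Ω D)).symm q)) hx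
  rw [bcEquiv_symm_pow, gaFn_pow] at h
  have e1 : (H21Diag.bcEquiv f (Red.Ga S) (H21Weil.specO Ω D)).symm 1 = 1 := by
    have := bcEquiv_symm_pow f (Red.Ga S) (H21Weil.specO Ω D) 1 0
    rwa [pow_zero, pow_zero] at this
  rw [e1, gaFn_one] at h ⊢
  have hu : IsUnit ((ℓ : ℕ) : Γ((H21Weil.specO Ω D).left, ⊤)) := by
    simpa using hℓ.map (Scheme.ΓSpecIso (CommRingCat.of D)).inv.hom
  exact hu.mul_right_eq_zero.mp h

open Polynomial in
theorem connected_Ga : ConnectedSpace (Red.bc f (Red.Ga S)).left := by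
  let Y : Over (Spec (CommRingCat.of Ω)) := Over.mk (Spec.map (CommRingCat.ofHom (algebraMap Ω (Polynomial Ω))))
  obtain ⟨u₀, hu₀⟩ := gaFn_surjective (X := (Over.map f).obj Y) (S := S)
    ((Scheme.ΓSpecIso (CommRingCat.of (Polynomial Ω))).inv Polynomial.X)
  let u := H21Diag.bcEquiv f (Red.Ga S) Y u₀
  have hsurj : Function.Surjective u.left := by
    intro p
    let κ := (Red.bc f (Red.Ga S)).left.residueField p
    let q : Spec κ ⟶ (Red.bc f (Red.Ga S)).left := (Red.bc f (Red.Ga S)).left.fromSpecResidueField p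
    let Z : Over (Spec (CommRingCat.of Ω)) := Over.mk (q ≫ (Red.bc f (Red.Ga S)).hom)
    let q' : Z ⟶ Red.bc f (Red.Ga S) := Over.homMk q rfl
    let φ := Spec.preimage (q ≫ (Red.bc f (Red.Ga S)).hom)
    let a : κ := (Scheme.ΓSpecIso κ).hom (Red.gaFn ((H21Diag.bcEquiv f (Red.Ga S) Z).symm q'))
    let ψ : CommRingCat.of (Polynomial Ω) ⟶ κ := CommRingCat.ofHom (Polynomial.eval₂RingHom φ.hom a)
    let m : Z ⟶ Y := Over.homMk (Spec.map ψ) (by
      change Spec.map ψ ≫ Spec.map _ = q ≫ _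
      rw [← Spec.map_comp, ← Spec.map_preimage (q ≫ (Red.bc f (Red.Ga S)).hom)]
      congr 1
      ext x
      simp [ψ, φ])
    have e : m ≫ u = q' := by
      rw [← (H21Diag.bcEquiv f (Red.Ga S) Z).apply_symm_apply q']
      refine ((Over.mapPullbackAdj f).homEquiv_naturality_left m u₀).symm.trans (congrArg _ (gaFn_injective ?_))
      rw [gaFn_comp, hu₀]
      have h := ConcreteCategory.congr_hom (Scheme.ΓSpecIso_inv_naturality ψ) (Polynomial.X : (Polynomial Ω))
      refine h.symm.trans ?_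
      change (Scheme.ΓSpecIso κ).inv (ψ Polynomial.X) = _
      rw [show ψ Polynomial.X = a from Polynomial.eval₂_X _ _]
      exact Iso.hom_inv_id_apply (Scheme.ΓSpecIso κ) _
    let z : Spec κ := Classical.arbitrary _
    exact ⟨(Spec.map ψ) z,
      (congrArg (fun r : Z ⟶ Red.bc f (Red.Ga S) => r.left z) e).trans (Scheme.fromSpecResidueField_apply _ _)⟩
  have : ConnectedSpace Y.left := inferInstanceAs (ConnectedSpace (PrimeSpectrum (Polynomial Ω)))
  exact hsurj.connectedSpace u.left.continuous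

omit [IsAlgClosed Ω] in
theorem not_isTrivial_Ga : ¬ Red.IsTrivialGrp (Red.bc f (Red.Ga S)) := by
  intro h
  let Y : Over (Spec (CommRingCat.of Ω)) := Over.mk (𝟙 _)
  obtain ⟨a, ha⟩ := gaFn_surjective (X := (Over.map f).obj Y) (S := S) 1
  have : IsIso (Red.bc f (Red.Ga S)).hom := h
  have e : H21Diag.bcEquiv f (Red.Ga S) Y a = H21Diag.bcEquiv f (Red.Ga S) Y 1 := by
    refine Over.OverMorphism.ext ((cancel_mono (Red.bc f (Red.Ga S)).hom).mp ?_)
    rw [Over.w, Over.w]
  have e2 := congrArg Red.gaFn ((H21Diag.bcEquiv f (Red.Ga S) Y).injective e)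
  rw [ha, gaFn_one] at e2
  have h2 := congrArg (Scheme.ΓSpecIso (CommRingCat.of Ω)).hom.hom e2
  rw [map_one, map_zero] at h2
  exact one_ne_zero h2

end Groth.Agent.H21Rank1
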