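import Groth.Agent.H19Grp.Components
import Groth.Agent.H19Grp.GrpToGrpd
import Groth.Prelude.Def_Red

/-!
An open neighbourhood of the unit generates a group scheme with irreducible fibres.
-/

open CategoryTheory MonoidalCategory CartesianMonoidalCategory MonObj GrpObj AlgebraicGeometry
open CategoryTheory.Limits

universe u

set_option backward.isDefEq.respectTransparency false

namespace Groth.Agent.H21Rank1

/-- A reductive group has geometrically irreducible fibres. -/
theorem geometricallyIrreducible_of_isReductive {S : Scheme.{u}} {G : Over S} [GrpObj G] (hG : Red.IsReductive G) :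
    GeometricallyIrreducible G.hom := by
  rw [GeometricallyIrreducible.iff_geometricallyIrreducible_fiber]
  intro s
  refine H19Grp.geometricallyIrreducible_of_algClosure _ ?_
  have : LocallyOfFiniteType G.hom := by
    have := hG.2.1
    infer_instance
  let Gk := Red.geomFibre s G
  let : GrpObj Gk := Functor.grpObjObj
  have : ConnectedSpace Gk.left := (hG.2.2 s).2.2.1
  have : LocallyOfFiniteType Gk.hom := inferInstanceAs (LocallyOfFiniteType (pullback.snd G.hom _))
  have : ConnectedSpace (H19Grp.grpToGrpd Gk).R := ‹ConnectedSpace Gk.left›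
  have hi : IrreducibleSpace Gk.left :=
    H19Grp.irreducibleSpace_of_connected (H19Grp.grpToGrpd Gk) (Iso.refl _)
  exact (pullbackLeftPullbackSndIso G.hom (S.fromSpecResidueField s) _).hom.homeomorph.irreducibleSpace_iff.mpr hi

theorem comp_translate {C : Type*} [Category C] [CartesianMonoidalCategory C] {X Y M : C} [GrpObj M] (j : Y ⟶ X)
    (a b : X ⟶ M) : j ≫ (a * b⁻¹) = (j ≫ a) * (j ≫ b)⁻¹ := by
  rw [MonObj.comp_mul, GrpObj.comp_inv]

theorem translate_self {C : Type*} [Category C] [CartesianMonoidalCategory C] {Y G : C} [GrpObj G]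
    (g : Y ⟶ G) : lift (𝟙 Y) g ≫ ((fst Y G ≫ g) * (snd Y G)⁻¹) = 1 := by
  rw [comp_translate, lift_fst_assoc, lift_snd, Category.id_comp, mul_inv_cancel]

theorem translate_split {C : Type*} [Category C] [CartesianMonoidalCategory C] {W Y G : C} [GrpObj G]
    (j : W ⟶ Y ⊗ G) (g : Y ⟶ G) :
    (j ≫ ((fst Y G ≫ g) * (snd Y G)⁻¹)) * (j ≫ snd Y G) = (j ≫ fst Y G) ≫ g := by
  rw [comp_translate, inv_mul_cancel_right, Category.assoc]

variable {S : Scheme.{u}}

theorem one_left_apply {G : Over S} [GrpObj G] {Y : Over S} (y : Y.left) :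
    (1 : Y ⟶ G).left y = η[G].left (Y.hom y) := by
  have h : (1 : Y ⟶ G).left = Y.hom ≫ η[G].left := by
    rw [Hom.one_def]; rfl
  rw [h]; rfl

/-- Every point of a group scheme with geometrically irreducible fibres is, after a flat surjective
base change, a product of two points of an open neighbourhood of the unit. -/
theorem exists_split {G : Over S} [GrpObj G] [GeometricallyIrreducible G.hom] [Flat G.hom] [UniversallyOpen G.hom]
    (U : G.left.Opens) (hU : ∀ s : S, η[G].left s ∈ U) {Y : Over S} (g : Y ⟶ G) :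
    ∃ (Y' : Over S) (p : Y' ⟶ Y) (a b : Y' ⟶ G), Flat p.left ∧ Surjective p.left ∧
      Set.range a.left ⊆ U ∧ Set.range b.left ⊆ U ∧ p ≫ g = a * b := by
  have hτ := translate_self g
  let τ : Y ⊗ G ⟶ G := (fst Y G ≫ g) * (snd Y G)⁻¹
  let W : (Y ⊗ G).left.Opens := τ.left ⁻¹ᵁ U ⊓ (snd Y G).left ⁻¹ᵁ U
  let Y' : Over S := Over.mk (W.ι ≫ (Y ⊗ G).hom)
  let j : Y' ⟶ Y ⊗ G := Over.homMk W.ι rfl
  refine ⟨Y', j ≫ fst Y G, j ≫ τ, j ≫ snd Y G, ?_, ⟨fun y => ?_⟩, ?_, ?_, (translate_split j g).symm⟩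
  · change Flat (W.ι ≫ pullback.fst Y.hom G.hom)
    infer_instance
  · have hirr : IsIrreducible ((pullback.fst Y.hom G.hom) ⁻¹' {y}) :=
      (pullback.fst Y.hom G.hom).isIrreducible_preimage (pullback.fst Y.hom G.hom).isOpenMap isIrreducible_singleton
    have h1 : (((pullback.fst Y.hom G.hom) ⁻¹' {y}) ∩ ((snd Y G).left ⁻¹ᵁ U : Set (Y ⊗ G).left)).Nonempty := by
      refine ⟨(lift (𝟙 Y) (1 : Y ⟶ G)).left y, ?_, ?_⟩
      · change ((lift (𝟙 Y) (1 : Y ⟶ G)) ≫ fst Y G).left y = y
        rw [lift_fst]; rfl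
      · change ((lift (𝟙 Y) (1 : Y ⟶ G)) ≫ snd Y G).left y ∈ U
        rw [lift_snd, one_left_apply]
        exact hU _
    have h2 : (((pullback.fst Y.hom G.hom) ⁻¹' {y}) ∩ (τ.left ⁻¹ᵁ U : Set (Y ⊗ G).left)).Nonempty := by
      refine ⟨(lift (𝟙 Y) g).left y, ?_, ?_⟩
      · change ((lift (𝟙 Y) g) ≫ fst Y G).left y = y
        rw [lift_fst]; rfl
      · change ((lift (𝟙 Y) g) ≫ τ).left y ∈ U
        rw [hτ, one_left_apply]
        exact hU _
    obtain ⟨q, hq, hqa, hqb⟩ := hirr.2 _ _ (τ.left ⁻¹ᵁ U).isOpen ((snd Y G).left ⁻¹ᵁ U).isOpen h2 h1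
    exact ⟨⟨q, hqa, hqb⟩, hq⟩
  · rintro _ ⟨q, rfl⟩; exact q.2.1
  · rintro _ ⟨q, rfl⟩; exact q.2.2

/-- Morphisms agreeing after a flat surjective base change are equal. -/
theorem eq_of_flat_surjective {X Y Z : Over S} (p : Y ⟶ X) [Flat p.left] [Surjective p.left] {a b : X ⟶ Z}
    (h : p ≫ a = p ≫ b) : a = b := by
  have : Epi p.left := Flat.epi_of_flat_of_surjective _
  ext : 1
  exact (cancel_epi p.left).mp (congrArg (fun q => q.left) h)

/-- A point factors through an open immersion containing its image. -/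
theorem exists_lift_of_range_subset {X Z G : Over S} (c : Z ⟶ G) [IsOpenImmersion c.left] (g : X ⟶ G)
    (h : Set.range g.left ⊆ Set.range c.left) : ∃ z : X ⟶ Z, z ≫ c = g := by
  refine ⟨Over.homMk (IsOpenImmersion.lift c.left g.left h) ?_, ?_⟩
  · rw [← Over.w c, IsOpenImmersion.lift_fac_assoc, Over.w g]
  · ext : 1
    exact IsOpenImmersion.lift_fac _ _ _

end Groth.Agent.H21Rank1
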