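import Groth.Agent.H21Rank1.Weight
import Groth.Agent.H21Rank1.GaProps

/-!
The root groups and the two Borel subgroups of a group of semisimple rank one are closed.
-/

open CategoryTheory MonoidalCategory CartesianMonoidalCategory MonObj GrpObj AlgebraicGeometry
open CategoryTheory.Limits

universe u

set_option backward.isDefEq.respectTransparency false
set_option linter.unusedSectionVars false
set_option linter.unusedVariables false

namespace Groth.Agent.H21Rank1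

theorem exists_lift_closedImmersion {S : Scheme.{u}} {X C G : Over S} [IsReduced X.left] (c : C ⟶ G)
    [IsClosedImmersion c.left] (g : X ⟶ G) (h : Set.range g.left ⊆ Set.range c.left) : ∃ z : X ⟶ C, z ≫ c = g := by
  have : Surjective (pullback.fst g.left c.left) := ⟨fun x => by
    obtain ⟨y, hy⟩ := h ⟨x, rfl⟩
    obtain ⟨z, hz, -⟩ := Scheme.Pullback.exists_preimage_pullback (f := g.left) (g := c.left) x y hy.symm
    exact ⟨z, hz⟩⟩
  have := isIso_of_isClosedImmersion_of_surjective (pullback.fst g.left c.left)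
  refine ⟨Over.homMk (inv (pullback.fst g.left c.left) ≫ pullback.snd g.left c.left) ?_, ?_⟩
  · rw [← Over.w c, ← Over.w g, Category.assoc, ← pullback.condition_assoc, IsIso.inv_hom_id_assoc]
  · ext : 1
    simp [← pullback.condition]

theorem isClosedImmersion_of_section {S : Scheme.{u}} {A B : Over S} (s : A ⟶ B) (r : B ⟶ A)
    [IsSeparated B.hom] (h : s ≫ r = 𝟙 A) : IsClosedImmersion s.left := by
  have : IsClosedImmersion (s.left ≫ r.left) := by
    rw [← Over.comp_left, h]; exact inferInstanceAs (IsClosedImmersion (𝟙 _))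
  have : IsSeparated (r.left ≫ A.hom) := by rw [Over.w r]; infer_instance
  have : IsSeparated r.left := IsSeparated.of_comp r.left A.hom
  exact IsClosedImmersion.of_comp _ r.left

/-- A closed subscheme of an open subscheme is closed if it is inside a closed set inside the open. -/
theorem isClosedImmersion_of_subset {S : Scheme.{u}} {A B G : Over S} (s : A ⟶ B) (ω : B ⟶ G)
    [IsClosedImmersion s.left] [IsOpenImmersion ω.left] (K : Set G.left) (hK : IsClosed K)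
    (h1 : Set.range (s ≫ ω).left ⊆ K) (h2 : K ⊆ Set.range ω.left) : IsClosedImmersion (s ≫ ω).left := by
  rw [IsClosedImmersion.iff_isPreimmersion]
  refine ⟨by rw [Over.comp_left]; infer_instance, ?_⟩
  have hr : Set.range (s ≫ ω).left = K ∩ closure (Set.range (s ≫ ω).left) := by
    refine Set.Subset.antisymm (fun x hx => ⟨h1 hx, subset_closure hx⟩) ?_
    rintro x ⟨hxK, hx⟩
    obtain ⟨b, rfl⟩ := h2 hxK
    have hb : b ∈ closure (Set.range s.left) := by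
      rw [ω.left.isOpenEmbedding.isEmbedding.closure_eq_preimage_closure_image]
      rw [← Set.range_comp]
      exact hx
    rw [s.left.isClosedEmbedding.isClosed_range.closure_eq] at hb
    obtain ⟨a, rfl⟩ := hb
    exact ⟨a, rfl⟩
  rw [hr]
  exact hK.inter isClosed_closure

theorem inv_inv_aux {S : Scheme.{u}} {X M : Over S} [GrpObj M] (a : X ⟶ M) : (a⁻¹)⁻¹ = a := _root_.inv_inv a

variable {S : Scheme.{u}} {G A C : Over S}

/-- The points over which `q` lands in the image of `c`. -/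
def forallSet (q : G ⊗ A ⟶ G) (c : C ⟶ G) : Set G.left :=
  {p | ∀ w : (G ⊗ A).left, (fst G A).left w = p → q.left w ∈ Set.range c.left}

theorem isClosed_forallSet (q : G ⊗ A ⟶ G) (c : C ⟶ G) [UniversallyOpen A.hom] [IsClosedImmersion c.left] :
    IsClosed (forallSet q c) := by
  have e : (forallSet q c)ᶜ = (fst G A).left '' (q.left ⁻¹' (Set.range c.left))ᶜ := by
    ext p
    simp [forallSet, Set.mem_image, not_forall, and_comm]
  rw [← isOpen_compl_iff, e]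
  have : UniversallyOpen (fst G A).left := MorphismProperty.pullback_fst (P := @UniversallyOpen) _ _ inferInstance
  exact (fst G A).left.isOpenMap _ (c.left.isClosedEmbedding.isClosed_range.preimage q.left.continuous).isOpen_compl

theorem exists_of_mem_forallSet (q : G ⊗ A ⟶ G) (c : C ⟶ G) [IsClosedImmersion c.left] {Z : Over S} [IsReduced Z.left]
    (g : Z ⟶ G) (h : Set.range g.left ⊆ forallSet q c) (x : Z ⟶ A) : ∃ z : Z ⟶ C, z ≫ c = lift g x ≫ q := by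
  refine exists_lift_closedImmersion c _ ?_
  rintro _ ⟨w, rfl⟩
  refine h ⟨w, rfl⟩ ((lift g x).left w) ?_
  exact congrArg (fun r : Z ⟶ G => r.left w) (lift_fst g x)

theorem subset_forallSet (q : G ⊗ A ⟶ G) (c : C ⟶ G) {B : Over S} (m : B ⟶ G) (z : B ⊗ A ⟶ C)
    (h : z ≫ c = (m ▷ A) ≫ q) : Set.range m.left ⊆ forallSet q c := by
  rintro _ ⟨b, rfl⟩ w hw
  have hp : IsPullback (m ▷ A).left (fst B A).left (fst G A).left m.left := by
    refine IsPullback.of_right ?_ (congrArg (fun r => r.left) (whiskerRight_fst m A)) (IsPullback.of_hasPullback G.hom A.hom).flip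
    rw [show (m ▷ A).left ≫ pullback.snd G.hom A.hom = pullback.snd B.hom A.hom from congrArg (fun r => r.left) (whiskerRight_snd m A)]
    rw [Over.w m]
    exact (IsPullback.of_hasPullback B.hom A.hom).flip
  obtain ⟨v, hv, -⟩ : ∃ v, (m ▷ A).left v = w ∧ (fst B A).left v = b := by
    obtain ⟨v, h1, h2⟩ := Scheme.Pullback.exists_preimage_pullback (f := (fst G A).left) (g := m.left) w b hw
    exact ⟨hp.isoPullback.inv v, by rw [← Scheme.Hom.comp_apply, hp.isoPullback_inv_fst]; exact h1,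
      by rw [← Scheme.Hom.comp_apply, hp.isoPullback_inv_snd]; exact h2⟩
  refine ⟨z.left v, ?_⟩
  rw [← hv]
  exact congrArg (fun r : B ⊗ A ⟶ G => r.left v) h

theorem cell_quot {H : Type*} [Group H] {y t x y' t' x' y'' : H} (hy : y'' = t⁻¹ * (y⁻¹ * y') * t) :
    (y * t * x)⁻¹ * (y' * t' * x') = x⁻¹ * (y'' * (t⁻¹ * t') * x') := by
  rw [hy]; group

theorem conj_move {H : Type*} [Group H] {g a b x' : H} (hg : g = a * b) (hx : g⁻¹ * a⁻¹ * g = x') :
    g = b * x'⁻¹ := by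
  rw [← hx, hg]; group

variable [GrpObj G] {T : Over S} [GrpObj T] {i : T ⟶ G} [IsMonHom i] {pp pm : Red.Ga S ⟶ G} [IsMonHom pp] [IsMonHom pm]
variable (hN : ∀ (X : Over S) (t : X ⟶ T) (y : X ⟶ Red.Ga S), ∃ y' : X ⟶ Red.Ga S,
      y' ≫ pm = (t ≫ i) * (y ≫ pm) * (t ≫ i)⁻¹)
    (hP : ∀ (X : Over S) (t : X ⟶ T) (x : X ⟶ Red.Ga S), ∃ x' : X ⟶ Red.Ga S,
      x' ≫ pp = (t ≫ i) * (x ≫ pp) * (t ≫ i)⁻¹)
    (hΩ : IsOpenImmersion (((pm ⊗ₘ i) ⊗ₘ pp) ≫ (μ[G] ▷ G) ≫ μ[G]).left)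
    (hG : Red.IsReductive G)

include hN hΩ hG in
/-- Every point is locally a product of a positive root element and a point of the cell. -/
theorem exists_form {X : Over S} (g : X ⟶ G) :
    ∃ (Y : Over S) (p : Y ⟶ X) (x₀ : Y ⟶ Red.Ga S) (w : Y ⟶ (Red.Ga S ⊗ T) ⊗ Red.Ga S), Surjective p.left ∧
      p ≫ g = (x₀ ≫ pp) * (w ≫ ((pm ⊗ₘ i) ⊗ₘ pp) ≫ (μ[G] ▷ G) ≫ μ[G]) := by
  have := hΩ
  have := geometricallyIrreducible_of_isReductive hG
  have := hG.2.1
  let U : G.left.Opens := (((pm ⊗ₘ i) ⊗ₘ pp) ≫ (μ[G] ▷ G) ≫ μ[G]).left.opensRange ⊓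
    ι[G].left ⁻¹ᵁ (((pm ⊗ₘ i) ⊗ₘ pp) ≫ (μ[G] ▷ G) ≫ μ[G]).left.opensRange
  have hU : ∀ s : S, η[G].left s ∈ U := fun s => by
    refine ⟨eta_mem_cell hΩ s, ?_⟩
    have h : η[G] ≫ ι[G] = η[G] := by
      have h1 : η[G] = (1 : 𝟙_ (Over S) ⟶ G) := (Category.id_comp _).symm.trans (lift_eta (𝟙 _))
      rw [h1, ← Hom.inv_def, inv_one]
    change (η[G] ≫ ι[G]).left s ∈ (((pm ⊗ₘ i) ⊗ₘ pp) ≫ (μ[G] ▷ G) ≫ μ[G]).left.opensRange
    rw [h]
    exact eta_mem_cell hΩ s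
  obtain ⟨Y, p, a, b, hpf, hps, ha, hb, hab⟩ := exists_split U hU g
  obtain ⟨A', hA⟩ := exists_lift_of_range_subset (((pm ⊗ₘ i) ⊗ₘ pp) ≫ (μ[G] ▷ G) ≫ μ[G]) a⁻¹
    (by rintro _ ⟨w, rfl⟩; exact (ha ⟨w, rfl⟩).2)
  obtain ⟨B', hB⟩ := exists_lift_of_range_subset (((pm ⊗ₘ i) ⊗ₘ pp) ≫ (μ[G] ▷ G) ≫ μ[G]) b
    (fun w (hw : w ∈ Set.range b.left) => (hb hw).1)
  rw [cell_point_surjective A'] at hA
  rw [cell_point_surjective B'] at hB
  obtain ⟨y'', hy⟩ := hN Y (A' ≫ fst _ _ ≫ snd _ _)⁻¹ ((A' ≫ fst _ _ ≫ fst _ _)⁻¹ * (B' ≫ fst _ _ ≫ fst _ _))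
  rw [MonObj.mul_comp, GrpObj.inv_comp, GrpObj.inv_comp, _root_.inv_inv] at hy
  refine ⟨Y, p, (A' ≫ snd _ _)⁻¹, lift (lift y'' ((A' ≫ fst _ _ ≫ snd _ _)⁻¹ * (B' ≫ fst _ _ ≫ snd _ _)))
    (B' ≫ snd _ _), hps, ?_⟩
  rw [lift_cell, MonObj.mul_comp, GrpObj.inv_comp, GrpObj.inv_comp, hab, ← _root_.inv_inv a, ← hA, ← hB]
  exact cell_quot hy

include hN hΩ hG in
/-- Points normalising the positive root group lie in the cell. -/
theorem forallSet_subset_cell (q : G ⊗ Red.Ga S ⟶ G) (c : C ⟶ G) [IsClosedImmersion c.left]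
    (hq : ∀ {Z : Over S} (g : Z ⟶ G) (x : Z ⟶ Red.Ga S) (z : Z ⟶ C), z ≫ c = lift g x ≫ q →
      ∃ x' : Z ⟶ Red.Ga S, g⁻¹ * (x ≫ pp) * g = x' ≫ pp) :
    forallSet q c ⊆ Set.range (((pm ⊗ₘ i) ⊗ₘ pp) ≫ (μ[G] ▷ G) ≫ μ[G]).left := by
  intro pt hpt
  let g : Over.mk (G.left.fromSpecResidueField pt ≫ G.hom) ⟶ G := Over.homMk (G.left.fromSpecResidueField pt) rfl
  obtain ⟨Y, p, x₀, w, hps, hw⟩ := exists_form (pp := pp) hN hΩ hG g
  obtain ⟨y, hy⟩ := p.left.surjective (Classical.arbitrary (Spec (G.left.residueField pt)))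
  let Z : Over S := Over.mk (Y.left.fromSpecResidueField y ≫ Y.hom)
  let j : Z ⟶ Y := Over.homMk (Y.left.fromSpecResidueField y) rfl
  have : IsReduced Z.left := inferInstanceAs (IsReduced (Spec (Y.left.residueField y)))
  have hrange : ∀ v : Z.left, (j ≫ p ≫ g).left v = pt := fun v => by
    change G.left.fromSpecResidueField pt _ = pt
    exact Scheme.fromSpecResidueField_apply _ _
  obtain ⟨z, hz⟩ := exists_of_mem_forallSet q c (j ≫ p ≫ g)
    (by rintro _ ⟨v, rfl⟩; rw [hrange]; exact hpt) (j ≫ x₀⁻¹)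
  obtain ⟨x', hx'⟩ := hq _ _ z hz
  have e := congrArg (j ≫ ·) hw
  simp only [MonObj.comp_mul] at e
  rw [cell_point_surjective w, comp_mul3] at e
  have hx'' : (j ≫ p ≫ g)⁻¹ * (j ≫ x₀ ≫ pp)⁻¹ * (j ≫ p ≫ g) = x' ≫ pp := by
    rw [← hx', Category.assoc, GrpObj.inv_comp, GrpObj.comp_inv]
  have e' := conj_move e hx''
  let v : Z ⟶ (Red.Ga S ⊗ T) ⊗ Red.Ga S := lift (j ≫ w ≫ fst _ _) ((j ≫ w ≫ snd _ _) * x'⁻¹)
  have hv : v ≫ ((pm ⊗ₘ i) ⊗ₘ pp) ≫ (μ[G] ▷ G) ≫ μ[G] = j ≫ p ≫ g := by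
    rw [cell_point_surjective v, e']
    simp only [v, lift_fst_assoc, lift_snd, Category.assoc, MonObj.mul_comp, GrpObj.inv_comp, _root_.mul_assoc]
  obtain ⟨v₀⟩ : Nonempty Z.left := inferInstanceAs (Nonempty (Spec (Y.left.residueField y)))
  refine ⟨v.left v₀, ?_⟩
  exact (congrArg (fun r : Z ⟶ G => r.left v₀) hv).trans (hrange _)

include hN hP hΩ hG in
/-- The positive root group and the positive Borel subgroup are closed. -/
theorem closed_pos (hT : Red.IsTorus T) [IsSeparated G.hom] :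
    IsClosedImmersion pp.left ∧ IsClosedImmersion ((i ⊗ₘ pp) ≫ μ[G]).left := by
  have := hΩ
  have := smooth_Ga (S := S)
  have : IsSeparated (Red.Ga S).hom := by
    change IsSeparated (Limits.pullback.snd (Red.GaZ.{u}).hom (specULiftZIsTerminal.from S))
    exact MorphismProperty.pullback_snd (P := @IsSeparated) _ _ (inferInstanceAs (IsSeparated (Spec.map _)))
  have : IsAffineHom T.hom := H21Diag.isAffineHom_of_multTypeFT (H21Diag.isMultTypeFT_of_isTorus hT)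
  have hd1 : IsSeparated (Red.Ga S ⊗ T).hom := by
    change IsSeparated (pullback.fst (Red.Ga S).hom T.hom ≫ (Red.Ga S).hom)
    infer_instance
  have hd : IsSeparated ((Red.Ga S ⊗ T) ⊗ Red.Ga S).hom := by
    change IsSeparated (pullback.fst (Red.Ga S ⊗ T).hom (Red.Ga S).hom ≫ (Red.Ga S ⊗ T).hom)
    infer_instance
  have heta : IsClosedImmersion η[G].left := by
    refine isClosedImmersion_of_section η[G] (toUnit G) (toUnit_unique _ _)
  -- the root group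
  let q₁ : G ⊗ Red.Ga S ⟶ G :=
    fst _ _ * (snd _ _ ≫ pp) * (fst _ _)⁻¹ * (snd _ _ ≫ pp)⁻¹
  have hsub₁ := forallSet_subset_cell (pp := pp) hN hΩ hG q₁ η[G] (fun {Z} g x z hz => ⟨x, by
    rw [toUnit_unique z (toUnit Z), ← Hom.one_def] at hz
    simp only [q₁, MonObj.comp_mul, GrpObj.comp_inv, lift_fst, lift_snd_assoc] at hz
    have h : g * (x ≫ pp) = (x ≫ pp) * g := by
      rw [eq_comm, mul_inv_eq_one, mul_inv_eq_iff_eq_mul] at hz
      exact hz
    rw [_root_.mul_assoc, ← h, inv_mul_cancel_left]⟩)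
  have hU : Set.range pp.left ⊆ forallSet q₁ η[G] := by
    refine subset_forallSet q₁ η[G] pp (toUnit _) ?_
    rw [← Hom.one_def]
    simp only [q₁, MonObj.comp_mul, GrpObj.comp_inv, whiskerRight_fst, whiskerRight_snd_assoc]
    symm
    have hc : fst (Red.Ga S) (Red.Ga S) * snd _ _ = snd _ _ * fst _ _ :=
      H27Witt.GaCoord.gaFn_injective ((H27Witt.GaCoord.gaFn_mul _ _).trans ((add_comm _ _).trans
        (H27Witt.GaCoord.gaFn_mul _ _).symm))
    rw [mul_inv_eq_one, mul_inv_eq_iff_eq_mul, ← MonObj.mul_comp _ _ pp, ← MonObj.mul_comp _ _ pp, hc]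
  let s₁ : Red.Ga S ⟶ (Red.Ga S ⊗ T) ⊗ Red.Ga S := lift (lift 1 1) (𝟙 _)
  have hs₁ : IsClosedImmersion s₁.left := isClosedImmersion_of_section s₁ (snd _ _) (lift_snd _ _)
  have e₁ : s₁ ≫ ((pm ⊗ₘ i) ⊗ₘ pp) ≫ (μ[G] ▷ G) ≫ μ[G] = pp := by
    rw [lift_cell, MonObj.one_comp, MonObj.one_comp, _root_.one_mul, _root_.one_mul, Category.id_comp]
  have hpc : IsClosedImmersion pp.left := by
    rw [← e₁]
    exact isClosedImmersion_of_subset s₁ _ _ (isClosed_forallSet q₁ η[G]) (by rw [e₁]; exact hU) hsub₁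
  refine ⟨hpc, ?_⟩
  -- the Borel subgroup
  let q₂ : G ⊗ Red.Ga S ⟶ G := (fst _ _)⁻¹ * (snd _ _ ≫ pp) * fst _ _
  have hsub₂ := forallSet_subset_cell (pp := pp) hN hΩ hG q₂ pp (fun {Z} g x z hz => ⟨z, by
    simp only [q₂, MonObj.comp_mul, GrpObj.comp_inv, lift_fst, lift_snd_assoc] at hz
    exact hz.symm⟩)
  let m : T ⊗ Red.Ga S ⟶ G := (i ⊗ₘ pp) ≫ μ[G]
  have hm : m = (fst _ _ ≫ i) * (snd _ _ ≫ pp) := by
    show (i ⊗ₘ pp) ≫ μ[G] = _
    rw [MonObj.mul_eq_mul (M := G), MonObj.comp_mul, tensorHom_fst, tensorHom_snd]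
  obtain ⟨x', hx'⟩ := hP _ (fst (T ⊗ Red.Ga S) (Red.Ga S) ≫ fst _ _)⁻¹ (snd _ _)
  have hB : Set.range m.left ⊆ forallSet q₂ pp := by
    refine subset_forallSet q₂ pp m ((fst _ _ ≫ snd _ _)⁻¹ * x' * (fst _ _ ≫ snd _ _)) ?_
    rw [MonObj.mul_comp, MonObj.mul_comp, GrpObj.inv_comp, hx', GrpObj.inv_comp]
    simp only [q₂, hm, MonObj.comp_mul, GrpObj.comp_inv, whiskerRight_fst, whiskerRight_snd_assoc, Category.assoc]
    group
  let s₂ : T ⊗ Red.Ga S ⟶ (Red.Ga S ⊗ T) ⊗ Red.Ga S := lift (lift 1 (fst _ _)) (snd _ _)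
  have hs₂ : IsClosedImmersion s₂.left := isClosedImmersion_of_section s₂ (lift (fst _ _ ≫ snd _ _) (snd _ _))
    (by ext <;> simp [s₂])
  have e₂ : s₂ ≫ ((pm ⊗ₘ i) ⊗ₘ pp) ≫ (μ[G] ▷ G) ≫ μ[G] = m := by
    rw [lift_cell, MonObj.one_comp, _root_.one_mul, hm]
  show IsClosedImmersion m.left
  rw [← e₂]
  exact isClosedImmersion_of_subset s₂ _ _ (isClosed_forallSet q₂ pp) (by rw [e₂]; exact hB) hsub₂

include hΩ in
/-- The cell with the roles of the root groups exchanged. -/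
theorem isOpenImmersion_swap : IsOpenImmersion (((pp ⊗ₘ i) ⊗ₘ pm) ≫ (μ[G] ▷ G) ≫ μ[G]).left := by
  let φ : (Red.Ga S ⊗ T) ⊗ Red.Ga S ⟶ (Red.Ga S ⊗ T) ⊗ Red.Ga S :=
    lift (lift (snd _ _)⁻¹ (fst _ _ ≫ snd _ _)⁻¹) (fst _ _ ≫ fst _ _)⁻¹
  have hφ : φ ≫ φ = 𝟙 _ := by
    apply CartesianMonoidalCategory.hom_ext
    · apply CartesianMonoidalCategory.hom_ext <;> simp [φ, GrpObj.comp_inv] <;> exact inv_inv_aux _
    · simp [φ, GrpObj.comp_inv]; exact inv_inv_aux _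
  have : IsIso φ.left := ⟨φ.left, congrArg (fun r => r.left) hφ, congrArg (fun r => r.left) hφ⟩
  have : IsIso ι[G].left := inferInstanceAs (IsIso ((Over.forget S).map ι[G]))
  have e : ((pp ⊗ₘ i) ⊗ₘ pm) ≫ (μ[G] ▷ G) ≫ μ[G] = (φ ≫ ((pm ⊗ₘ i) ⊗ₘ pp) ≫ (μ[G] ▷ G) ≫ μ[G]) ≫ ι[G] := by
    rw [← Hom.inv_def, cell_point_surjective φ]
    refine (Category.id_comp _).symm.trans ((cell_point_surjective (pp := pm) (pm := pp) (i := i) (𝟙 _)).trans ?_)
    simp [φ, GrpObj.inv_comp, _root_.mul_assoc]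
  rw [e, Over.comp_left, Over.comp_left]
  infer_instance

end Groth.Agent.H21Rank1
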