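import Groth.Agent.H21Rank1.Alg

/-!
The Bruhat decomposition in rank one and the centralizer of a power of the coroot, in an abstract group.
-/

namespace Groth.Agent.H21Rank1

namespace R1

variable {H A Tp : Type*} [Group H] [CommRing A] [Group Tp] (r : R1 H A Tp)

/-- Unique coordinates in the cell. -/
def CellInj : Prop :=
  ∀ (y y' : A) (t t' : Tp) (x x' : A), r.N y * r.C t * r.P x = r.N y' * r.C t' * r.P x' → y = y' ∧ t = t' ∧ x = x'

/-- `w x` conjugates the positive root group element to the negative one. -/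
def Conj : Prop := ∀ x : Aˣ, r.w x * r.P ↑x * (r.w x)⁻¹ = r.N (-↑x⁻¹)

variable {r}

theorem w_conj_N (hc : r.Conj) (x : Aˣ) : r.N (-↑x⁻¹) * r.w x = r.w x * r.P ↑x := (mul_inv_eq_iff_eq_mul.mp (hc x)).symm

variable (r) in
theorem w_inv_conj (x : Aˣ) (t : Tp) :
    (r.w x)⁻¹ * r.C t * r.w x = (r.C (r.V (r.χ t)))⁻¹ * r.C t := by
  have h := r.w_conj (-x) t
  rw [← r.w_inv, _root_.inv_inv] at h
  exact h

theorem w_one_conj_P (hc : r.Conj) (a : Aˣ) : r.w 1 * r.P ↑a = r.N (-↑a) * r.w 1 := by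
  have h := w_conj_N hc a
  have e : r.w a = r.C (r.V a) * r.w 1 := by rw [← r.w_mul_left, mul_one]
  rw [e] at h
  have h2 := r.NC (r.V a) (-↑a)
  rw [r.χV_inv] at h2
  have e2 : (↑a⁻¹ : A) * ↑a⁻¹ * -↑a = -↑a⁻¹ := by
    linear_combination -(↑a⁻¹ : A) * a.inv_mul
  rw [e2] at h2
  rw [← mul_right_inj (r.C (r.V a)), ← mul_assoc, ← h, ← mul_assoc (r.C _), h2, mul_assoc]

variable (r) in
/-- The Bruhat normal forms. -/
def Normal (g : H) : Prop :=
  (∃ t a, g = r.C t * r.P a) ∨ ∃ a t b, g = r.P a * r.w 1 * r.C t * r.P b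

theorem normal_P (a : A) {g : H} (hg : r.Normal g) : r.Normal (r.P a * g) := by
  obtain ⟨t, b, rfl⟩ | ⟨a', t, b, rfl⟩ := hg
  · exact .inl ⟨t, ↑(r.χ t)⁻¹ * a + b, by rw [r.P_add, ← mul_assoc, ← mul_assoc, r.PC]⟩
  · exact .inr ⟨a + a', t, b, by rw [r.P_add]; group⟩

theorem normal_C (s : Tp) {g : H} (hg : r.Normal g) : r.Normal (r.C s * g) := by
  obtain ⟨t, b, rfl⟩ | ⟨a', t, b, rfl⟩ := hg
  · exact .inl ⟨s * t, b, by rw [map_mul, mul_assoc]⟩
  · refine .inr ⟨↑(r.χ s) * a', (r.V (r.χ s))⁻¹ * s * t, b, ?_⟩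
    rw [map_mul, map_mul, map_inv, ← r.w_inv_conj 1 s, ← mul_assoc, ← mul_assoc, ← mul_assoc, r.CP]
    group

theorem normal_wCP (t : Tp) (b : A) : r.Normal (r.w 1 * (r.C t * r.P b)) :=
  .inr ⟨0, t, b, by rw [r.P_zero, one_mul, mul_assoc]⟩

theorem w_split (u : Aˣ) : r.N (-↑u) = r.P (-↑u⁻¹) * (r.C (r.V u⁻¹) * r.w 1) * r.P (-↑u⁻¹) := by
  rw [← r.w_mul_left, mul_one, w, r.P_neg, inv_inv]
  group

theorem normal_w (hA : ∀ a : A, a = 0 ∨ IsUnit a) (hc : r.Conj) {g : H} (hg : r.Normal g) :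
    r.Normal (r.w 1 * g) := by
  obtain ⟨t, b, rfl⟩ | ⟨a, t, b, rfl⟩ := hg
  · exact normal_wCP t b
  · by_cases ha : a = 0
    · exact .inl ⟨r.V (-1) * t, b, by rw [ha, r.P_zero, one_mul, map_mul, ← r.w_sq 1]; group⟩
    · obtain ⟨u, rfl⟩ : ∃ u : Aˣ, (u : A) = a := (hA a).resolve_left ha
      have e : r.w 1 * (r.P ↑u * r.w 1 * r.C t * r.P b) =
          r.P (-↑u⁻¹) * (r.C (r.V u⁻¹) * (r.w 1 * (r.C (r.V (-1) * t) * r.P (↑(r.χ (r.V (-1) * t))⁻¹ * -↑u⁻¹ + b)))) := by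
        rw [r.P_add, ← mul_assoc (r.C (r.V (-1) * t)), ← r.PC, map_mul]
        calc r.w 1 * (r.P ↑u * r.w 1 * r.C t * r.P b) = r.w 1 * r.P ↑u * r.w 1 * r.C t * r.P b := by group
          _ = r.N (-↑u) * (r.w 1 * r.w 1) * r.C t * r.P b := by rw [w_one_conj_P hc u]; group
          _ = _ := by rw [w_split, r.w_sq]; group
      rw [e]
      exact normal_P _ (normal_C _ (normal_wCP _ _))

theorem normal_N (hA : ∀ a : A, a = 0 ∨ IsUnit a) (hc : r.Conj) (y : A) {g : H} (hg : r.Normal g) :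
    r.Normal (r.N y * g) := by
  by_cases hy : y = 0
  · rw [hy, r.N_zero, one_mul]; exact hg
  · obtain ⟨u, hu⟩ : ∃ u : Aˣ, (u : A) = -y := (hA (-y)).resolve_left (neg_ne_zero.mpr hy)
    have e : y = -↑u := by rw [hu, neg_neg]
    rw [e, w_split, mul_assoc, mul_assoc, mul_assoc]
    exact normal_P _ (normal_C _ (normal_w hA hc (normal_P _ hg)))

theorem normal_cell_mul_cell (hA : ∀ a : A, a = 0 ∨ IsUnit a) (hc : r.Conj) (y x y' x' : A) (t t' : Tp) :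
    r.Normal ((r.N y * r.C t * r.P x) * (r.N y' * r.C t' * r.P x')) := by
  have h : r.Normal (r.C t' * r.P x') := .inl ⟨t', x', rfl⟩
  simp only [mul_assoc]
  exact normal_N hA hc _ (normal_C _ (normal_P _ (normal_N hA hc _ h)))

variable (r) in
theorem P_cell (hi : r.CellInj) {t t' : Tp} {x x' : A} (h : r.C t * r.P x = r.C t' * r.P x') : t = t' ∧ x = x' :=
  (hi 0 0 t t' x x' (by rw [r.N_zero, one_mul, one_mul, h])).2

/-- Commuting with a power of the coroot kills the root coordinates. -/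
theorem cell_centralizer (hi : r.CellInj) (hcomm : ∀ s t : Tp, s * t = t * s) (e : Tp)
    (he : IsUnit (((r.χ e : Aˣ) : A) - 1)) {y x : A} {t : Tp}
    (h : r.C e * (r.N y * r.C t * r.P x) = (r.N y * r.C t * r.P x) * r.C e) : y = 0 ∧ x = 0 := by
  have h1 : r.N (↑(r.χ e)⁻¹ * y) * r.C t * r.P (↑(r.χ e) * x) = r.N y * r.C t * r.P x := by
    rw [← mul_left_inj (r.C e), ← h]
    calc r.N (↑(r.χ e)⁻¹ * y) * r.C t * r.P (↑(r.χ e) * x) * r.C e
        = r.N (↑(r.χ e)⁻¹ * y) * r.C (t * e) * r.P x := by rw [mul_assoc _ (r.P _), ← r.CP, map_mul]; group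
      _ = r.N (↑(r.χ e)⁻¹ * y) * r.C e * r.C t * r.P x := by rw [hcomm t e, map_mul]; group
      _ = _ := by rw [← r.NC]; group
  obtain ⟨hy, -, hx⟩ := hi _ _ _ _ _ _ h1
  constructor
  · rw [← he.mul_right_eq_zero]
    linear_combination -(↑(r.χ e) : A) * hy + y * (r.χ e).mul_inv
  · rw [← he.mul_right_eq_zero]
    linear_combination hx

/-- The centralizer of a power of the coroot is the torus. -/
theorem centralizer_pow (hA : ∀ a : A, a = 0 ∨ IsUnit a) (hc : r.Conj) (hi : r.CellInj)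
    (hcomm : ∀ s t : Tp, s * t = t * s) (z : Aˣ) (n : ℤ)
    (hz : ((z * z) ^ n * (z * z) ^ n : Aˣ) ≠ 1) {g : H} (hg : r.Normal g)
    (h : r.C (r.V z ^ n) * g = g * r.C (r.V z ^ n)) : ∃ t, g = r.C t := by
  have hχ : r.χ (r.V z ^ n) = (z * z) ^ n := by rw [map_zpow, r.hV]
  obtain ⟨t, a, rfl⟩ | ⟨a, t, b, rfl⟩ := hg
  · refine ⟨t, ?_⟩
    have hne : ((r.χ (r.V z ^ n) : Aˣ) : A) ≠ 1 := fun h1 => hz (by
      rw [← hχ, Units.ext (h1.trans Units.val_one.symm), mul_one])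
    have := (cell_centralizer hi hcomm (r.V z ^ n) ((hA _).resolve_left (sub_ne_zero.mpr hne))
      (y := 0) (x := a) (t := t) (by rw [r.N_zero, one_mul]; exact h)).2
    rw [this, r.P_zero, mul_one]
  · exfalso
    have hw : r.C (r.V z ^ n) * r.w 1 = r.w 1 * r.C ((r.V z ^ n)⁻¹) := by
      have h1 := r.w_inv_conj 1 (r.V z ^ n)
      rw [hχ, map_zpow r.V, map_mul r.V, (Commute.refl (r.V z)).mul_zpow, map_mul, mul_inv_rev,
        inv_mul_cancel_right, ← map_inv] at h1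
      rw [← h1]; group
    -- move `w` to the right of the cell
    have hform : ∀ (a b : A) (t : Tp), r.P a * r.w 1 * r.C t * r.P b =
        r.P a * r.C ((r.V (r.χ t))⁻¹ * t) * r.N (-b) * r.w 1 := by
      intro a b t
      rw [map_mul, map_inv, ← r.w_conj 1 t]
      have hb : r.w 1 * r.P b = r.N (-b) * r.w 1 := by
        by_cases hb : b = 0
        · rw [hb, neg_zero, r.P_zero, r.N_zero, one_mul, mul_one]
        · obtain ⟨v, rfl⟩ := (hA b).resolve_left hb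
          exact w_one_conj_P hc v
      calc r.P a * r.w 1 * r.C t * r.P b = r.P a * (r.w 1 * r.C t * (r.w 1)⁻¹) * (r.w 1 * r.P b) := by group
        _ = _ := by rw [hb]; group
    have h2 : r.C (r.V z ^ n) * (r.P a * r.w 1 * r.C t * r.P b) * (r.C (r.V z ^ n))⁻¹ =
        r.P (↑(r.χ (r.V z ^ n)) * a) * r.w 1 * r.C ((r.V z ^ n)⁻¹ * t * (r.V z ^ n)⁻¹) *
          r.P (↑(r.χ (r.V z ^ n)) * b) := by
      calc r.C (r.V z ^ n) * (r.P a * r.w 1 * r.C t * r.P b) * (r.C (r.V z ^ n))⁻¹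
          = r.C (r.V z ^ n) * r.P a * r.w 1 * r.C t * (r.P b * r.C ((r.V z ^ n)⁻¹)) := by rw [map_inv]; group
        _ = r.P (↑(r.χ (r.V z ^ n)) * a) * (r.C (r.V z ^ n) * r.w 1) * r.C t * (r.C ((r.V z ^ n)⁻¹) *
              r.P (↑(r.χ (r.V z ^ n)) * b)) := by
            rw [r.PC (r.V z ^ n)⁻¹ b, map_inv r.χ, inv_inv, r.CP]; group
        _ = _ := by rw [hw, map_mul, map_mul]; group
    rw [mul_inv_eq_of_eq_mul h, hform, hform, mul_left_inj] at h2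
    have h3 := congrArg Inv.inv h2
    simp only [mul_inv_rev, ← r.P_neg, ← r.N_neg, ← map_inv, neg_neg, ← mul_assoc] at h3
    obtain ⟨-, ht, -⟩ := hi _ _ _ _ _ _ h3
    have ht2 := congrArg r.χ ht
    simp only [map_inv, map_mul, r.hV, hχ, _root_.inv_inv, mul_inv_rev] at ht2
    have key : ∀ (τ ζ : Aˣ), τ⁻¹ * (τ * τ) = ζ * τ⁻¹ * ζ * (ζ⁻¹ * ζ⁻¹ * (τ * τ) * (ζ⁻¹ * ζ⁻¹)) → ζ * ζ = 1 := by
      intro τ ζ h
      have h' : τ = τ * (ζ⁻¹ * ζ⁻¹) := by
        rw [inv_mul_cancel_left] at h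
        conv_lhs => rw [h]
        rw [mul_comm ζ τ⁻¹, mul_assoc τ⁻¹ ζ ζ, ← mul_assoc, ← mul_assoc (τ⁻¹ * (ζ * ζ)),
          mul_assoc τ⁻¹ (ζ * ζ), ← mul_inv_rev, mul_inv_cancel, mul_one, inv_mul_cancel_left]
      rw [← inv_inj, mul_inv_rev, inv_one]
      exact (left_eq_mul.mp h')
    exact hz (key _ _ ht2)

end R1

end Groth.Agent.H21Rank1
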