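import Groth.Agent.H21Rank1.Braid
import Groth.Agent.H21Rank1.Bruhat
import Groth.Agent.H21Rank1.Generate
import Groth.Agent.H21Diag.Conjugate

/-!
Points of the cell, and the centralizer of a power of the coroot in a group of semisimple rank one.
-/

open CategoryTheory MonoidalCategory CartesianMonoidalCategory MonObj GrpObj AlgebraicGeometry

universe u

set_option backward.isDefEq.respectTransparency false

namespace Groth.Agent.H21Rank1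

theorem lift_cell {C : Type*} [Category C] [CartesianMonoidalCategory C] {X A B D G : C} [GrpObj G]
    (f : A ⟶ G) (g : B ⟶ G) (h : D ⟶ G) (a : X ⟶ A) (b : X ⟶ B) (d : X ⟶ D) :
    lift (lift a b) d ≫ ((f ⊗ₘ g) ⊗ₘ h) ≫ (μ[G] ▷ G) ≫ μ[G] = (a ≫ f) * (b ≫ g) * (d ≫ h) := by
  rw [lift_map_assoc, lift_map, lift_whiskerRight_assoc]
  rfl

theorem lift_eta {C : Type*} [Category C] [CartesianMonoidalCategory C] {X M : C} [GrpObj M] (f : X ⟶ 𝟙_ C) :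
    f ≫ η[M] = 1 := by
  rw [Hom.one_def, toUnit_unique f (toUnit X)]

set_option linter.unusedSectionVars false
set_option linter.unusedVariables false

variable {S : Scheme.{u}} {G T : Over S} [GrpObj G] [GrpObj T] {i : T ⟶ G} [IsMonHom i]
    {α : T ⟶ Red.Gm S} [IsMonHom α] {pp pm : Red.Ga S ⟶ G} [IsMonHom pp] [IsMonHom pm]

theorem cell_point_surjective {X : Over S} (z : X ⟶ (Red.Ga S ⊗ T) ⊗ Red.Ga S) :
    z ≫ ((pm ⊗ₘ i) ⊗ₘ pp) ≫ (μ[G] ▷ G) ≫ μ[G] =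
      ((z ≫ fst _ _ ≫ fst _ _) ≫ pm) * ((z ≫ fst _ _ ≫ snd _ _) ≫ i) * ((z ≫ snd _ _) ≫ pp) := by
  rw [← lift_cell]
  congr 1
  apply CartesianMonoidalCategory.hom_ext
  · apply CartesianMonoidalCategory.hom_ext <;> simp
  · simp

/-- The unit lies in the cell. -/
theorem eta_mem_cell (hΩ : IsOpenImmersion (((pm ⊗ₘ i) ⊗ₘ pp) ≫ (μ[G] ▷ G) ≫ μ[G]).left) (s : S) :
    η[G].left s ∈ (((pm ⊗ₘ i) ⊗ₘ pp) ≫ (μ[G] ▷ G) ≫ μ[G]).left.opensRange := by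
  have h : lift (lift η[Red.Ga S] η[T]) η[Red.Ga S] ≫ ((pm ⊗ₘ i) ⊗ₘ pp) ≫ (μ[G] ▷ G) ≫ μ[G] = η[G] := by
    rw [lift_cell, IsMonHom.one_hom, IsMonHom.one_hom, IsMonHom.one_hom]
    have h1 : η[G] = (1 : 𝟙_ (Over S) ⟶ G) := (Category.id_comp _).symm.trans (lift_eta (𝟙 _))
    rw [h1, _root_.mul_one, _root_.mul_one]
  exact ⟨(lift (lift η[Red.Ga S] η[T]) η[Red.Ga S]).left s,
    congrArg (fun q : 𝟙_ (Over S) ⟶ G => q.left s) h⟩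

variable (hpp : ∀ (X : Over S) (t : X ⟶ T) (x : X ⟶ Red.Ga S), ∃ x' : X ⟶ Red.Ga S,
      x' ≫ pp = (t ≫ i) * (x ≫ pp) * (t ≫ i)⁻¹ ∧ Red.gaFn x' = Red.gmFn (t ≫ α) * Red.gaFn x)
    (hpm : ∀ (X : Over S) (t : X ⟶ T) (y : X ⟶ Red.Ga S), ∃ y' : X ⟶ Red.Ga S,
      y' ≫ pm = (t ≫ i) * (y ≫ pm) * (t ≫ i)⁻¹ ∧ Red.gaFn y' * Red.gmFn (t ≫ α) = Red.gaFn y)
    (hΩ : IsOpenImmersion (((pm ⊗ₘ i) ⊗ₘ pp) ≫ (μ[G] ▷ G) ≫ μ[G]).left)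
    {av : Red.Gm S ⟶ T} [IsMonHom av] (h2 : av ≫ α = (𝟙 (Red.Gm S)) ^ 2)
    (hF : ∀ (X : Over S) (x y : X ⟶ Red.Ga S), IsUnit (1 + Red.gaFn x * Red.gaFn y) →
      ∃ (x' y' : X ⟶ Red.Ga S) (z : X ⟶ Red.Gm S), Red.gmFn z = 1 + Red.gaFn x * Red.gaFn y ∧
        Red.gaFn x' * Red.gmFn z = Red.gaFn x ∧ Red.gaFn y' * Red.gmFn z = Red.gaFn y ∧
        (x ≫ pp) * (y ≫ pm) = (y' ≫ pm) * (z ≫ av ≫ i) * (x' ≫ pp))

include hΩ in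
theorem cell_inj {X : Over S} : (data G T i α pp pm hpp hpm av h2 hF X).CellInj := by
  intro y y' t t' x x' h
  have : Mono (((pm ⊗ₘ i) ⊗ₘ pp) ≫ (μ[G] ▷ G) ≫ μ[G]) := by
    have := hΩ
    exact (Over.forget S).mono_of_mono_map (f := ((pm ⊗ₘ i) ⊗ₘ pp) ≫ (μ[G] ▷ G) ≫ μ[G]) (inferInstanceAs (Mono (((pm ⊗ₘ i) ⊗ₘ pp) ≫ (μ[G] ▷ G) ≫ μ[G]).left))
  have h1 : lift (lift (gaPt y) t) (gaPt x) = lift (lift (gaPt y') t') (gaPt x') := by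
    rw [← cancel_mono (((pm ⊗ₘ i) ⊗ₘ pp) ≫ (μ[G] ▷ G) ≫ μ[G]), lift_cell, lift_cell]
    exact h
  have h2 := congrArg (fun q => q ≫ snd _ _) h1
  have h3 := congrArg (fun q => q ≫ fst _ _ ≫ snd _ _) h1
  have h4 := congrArg (fun q => q ≫ fst _ _ ≫ fst _ _) h1
  simp only [lift_snd, lift_fst_assoc, lift_fst] at h2 h3 h4
  refine ⟨?_, h3, ?_⟩
  · rw [← gaFn_gaPt (X := X) y, h4, gaFn_gaPt]
  · rw [← gaFn_gaPt (X := X) x, h2, gaFn_gaPt]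

theorem isTorus_comm (hT : Red.IsTorus T) {X : Over S} (s t : X ⟶ T) : s * t = t * s :=
  H21Diag.mult_comm (H21Diag.isMultTypeFT_of_isTorus hT) s t

end Groth.Agent.H21Rank1
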