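import Groth.Agent.H27Witt.GaCoord
import Groth.Agent.H21Diag.Points

/-!
Coordinates of points of the multiplicative and the additive group.
-/

open CategoryTheory MonoidalCategory CartesianMonoidalCategory MonObj GrpObj AlgebraicGeometry
open CategoryTheory.Limits

universe u

set_option backward.isDefEq.respectTransparency false

namespace Groth.Agent.H21Rank1

variable {S : Scheme.{u}}

theorem gmFn_comp {X Y : Over S} (f : Y ⟶ X) (t : X ⟶ Red.Gm S) :
    Red.gmFn (f ≫ t) = f.left.appTop (Red.gmFn t) := rfl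

theorem gmFn_eq {X : Over S} (t : X ⟶ Red.Gm S) :
    Red.gmFn t = (((Scheme.ΓSpecIso (CommRingCat.of (MonoidAlgebra (ULift.{u} ℤ) (Multiplicative ℤ)))).inv ≫
      (t.left ≫ pullback.fst _ _).appTop).hom) (MonoidAlgebra.single (Multiplicative.ofAdd (1 : ℤ)) 1) := rfl

theorem isUnit_gmFn {X : Over S} (t : X ⟶ Red.Gm S) : IsUnit (Red.gmFn t) := by
  rw [gmFn_eq]
  exact ((Group.isUnit (Multiplicative.ofAdd (1 : ℤ))).map (MonoidAlgebra.of (ULift.{u} ℤ) (Multiplicative ℤ))).map _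

theorem gmFn_injective {X : Over S} {x y : X ⟶ Red.Gm S} (h : Red.gmFn x = Red.gmFn y) : x = y := by
  refine H21Diag.bc_ext ?_
  have : IsAffine (Spec (CommRingCat.of (MonoidAlgebra (ULift.{u} ℤ) (Multiplicative ℤ)))) := inferInstance
  refine @ext_of_isAffine _ _ this _ _ ?_
  rw [← cancel_epi (Scheme.ΓSpecIso (CommRingCat.of (MonoidAlgebra (ULift.{u} ℤ) (Multiplicative ℤ)))).inv]
  refine CommRingCat.hom_ext (H21Diag.charRingHom_ext fun m => ?_)
  let F : (X ⟶ Red.Gm S) → (Multiplicative ℤ →* Γ(X.left, ⊤)) := fun z =>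
    (((Scheme.ΓSpecIso (CommRingCat.of (MonoidAlgebra (ULift.{u} ℤ) (Multiplicative ℤ)))).inv ≫
      (z.left ≫ pullback.fst _ _).appTop).hom.toMonoidHom).comp (MonoidAlgebra.of _ _)
  change F x m = F y m
  let U : (X ⟶ Red.Gm S) → (Multiplicative ℤ →* (Γ(X.left, ⊤) : Type u)ˣ) := fun z => (F z).toHomUnits
  have hU : U x = U y := MonoidHom.ext_mint (Units.ext (by
    simpa [U, F, gmFn_eq] using h))
  exact congrArg (fun u : (Γ(X.left, ⊤) : Type u)ˣ => (u : Γ(X.left, ⊤))) (DFunLike.congr_fun hU m)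

theorem gmFn_surjective {X : Over S} (a : Γ(X.left, ⊤)) (ha : IsUnit a) :
    ∃ t : X ⟶ Red.Gm S, Red.gmFn t = a := by
  let χ : Multiplicative ℤ →* Γ(X.left, ⊤) := (Units.coeHom _).comp (zpowersHom _ ha.unit)
  let f : X.left ⟶ Spec (CommRingCat.of (MonoidAlgebra (ULift.{u} ℤ) (Multiplicative ℤ))) :=
    X.left.toSpecΓ ≫ Spec.map (CommRingCat.ofHom (H21Diag.charRingHom χ))
  refine ⟨Over.homMk (pullback.lift f X.hom (specULiftZIsTerminal.hom_ext _ _)) (pullback.lift_snd _ _ _), ?_⟩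
  refine (congrArg (fun m => Scheme.Hom.appTop m Red.gmCoord)
    (pullback.lift_fst f X.hom (specULiftZIsTerminal.hom_ext _ _))).trans ?_
  have h2 : (Scheme.ΓSpecIso (CommRingCat.of (MonoidAlgebra (ULift.{u} ℤ) (Multiplicative ℤ)))).inv ≫
      f.appTop = CommRingCat.ofHom (H21Diag.charRingHom χ) := by
    simp [f]
  refine (ConcreteCategory.congr_hom h2 (MonoidAlgebra.single (Multiplicative.ofAdd (1 : ℤ)) 1)).trans ?_
  simp [χ]

theorem gmFn_dpt {B : Type u} [CommRing B] (y : Spec (CommRingCat.of B) ⟶ S) (χ : Multiplicative ℤ →* B) :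
    (Scheme.ΓSpecIso (CommRingCat.of B)).hom (Red.gmFn (H21Diag.dpt y χ)) = χ (Multiplicative.ofAdd 1) := by
  unfold Red.gmFn
  rw [H21Diag.dpt_fst]
  have := Scheme.ΓSpecIso_naturality (CommRingCat.ofHom (H21Diag.charRingHom χ))
  refine (ConcreteCategory.congr_hom this Red.gmCoord).trans ?_
  refine (congrArg (H21Diag.charRingHom χ) (Iso.inv_hom_id_apply (Scheme.ΓSpecIso _) _)).trans ?_
  exact H21Diag.charRingHom_single χ _

theorem hom_ext_chart {X Z : Over S} {x y : X ⟶ Z}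
    (h : ∀ (B : Type u) [CommRing B] (t : Spec (CommRingCat.of B) ⟶ S) (j : Over.mk t ⟶ X),
      j ≫ x = j ≫ y) : x = y := by
  ext : 1
  refine Scheme.hom_ext_of_forall _ _ fun p => ?_
  obtain ⟨U, hU, hpU, -⟩ := exists_isAffineOpen_mem_and_subset (X := X.left) (x := p) (U := ⊤) trivial
  refine ⟨U, hpU, ?_⟩
  have h2 : hU.fromSpec ≫ x.left = hU.fromSpec ≫ y.left :=
    congrArg (fun z => z.left) (h Γ(X.left, U) (hU.fromSpec ≫ X.hom) (Over.homMk hU.fromSpec rfl))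
  rw [← hU.isoSpec_inv_ι, Category.assoc, Category.assoc] at h2
  exact (cancel_epi _).mp h2

theorem gmFn_mul_dpt {B : Type u} [CommRing B] (y : Spec (CommRingCat.of B) ⟶ S) (a b : Multiplicative ℤ →* B) :
    Red.gmFn (H21Diag.dpt y a * H21Diag.dpt y b) = Red.gmFn (H21Diag.dpt y a) * Red.gmFn (H21Diag.dpt y b) := by
  rw [← H21Diag.dpt_mul]
  apply (Scheme.ΓSpecIso (CommRingCat.of B)).commRingCatIsoToRingEquiv.injective
  refine (gmFn_dpt y (a * b)).trans ?_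
  rw [map_mul]
  exact (congrArg₂ (· * ·) (gmFn_dpt y a) (gmFn_dpt y b)).symm

theorem gmFn_mul_spec {B : Type u} [CommRing B] {t : Spec (CommRingCat.of B) ⟶ S} (x y : Over.mk t ⟶ Red.Gm S) :
    Red.gmFn (x * y) = Red.gmFn x * Red.gmFn y := by
  obtain ⟨a, rfl⟩ := H21Diag.dpt_surjective _ x
  obtain ⟨b, rfl⟩ := H21Diag.dpt_surjective _ y
  exact gmFn_mul_dpt t a b

theorem gmFn_comp_mul {X : Over S} {B : Type u} [CommRing B] {t : Spec (CommRingCat.of B) ⟶ S} (j : Over.mk t ⟶ X)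
    (x y z : X ⟶ Red.Gm S) (hz : Red.gmFn z = Red.gmFn x * Red.gmFn y) :
    Red.gmFn ((j ≫ x) * (j ≫ y)) = Red.gmFn (j ≫ z) := by
  rw [gmFn_mul_spec, gmFn_comp, gmFn_comp, gmFn_comp, hz]
  simp only [map_mul]

theorem gmFn_mul {X : Over S} (x y : X ⟶ Red.Gm S) : Red.gmFn (x * y) = Red.gmFn x * Red.gmFn y := by
  obtain ⟨z, hz⟩ := gmFn_surjective _ ((isUnit_gmFn x).mul (isUnit_gmFn y))
  rw [← hz]
  refine congrArg Red.gmFn (hom_ext_chart fun B _ t j => ?_)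
  refine gmFn_injective ?_
  rw [MonObj.comp_mul]
  exact @gmFn_comp_mul S X B _ t j x y z hz

theorem gmFn_one {X : Over S} : Red.gmFn (1 : X ⟶ Red.Gm S) = 1 := by
  have h := gmFn_mul (1 : X ⟶ Red.Gm S) 1
  have h2 := @_root_.one_mul (X ⟶ Red.Gm S) Monoid.toMulOneClass (1 : X ⟶ Red.Gm S)
  exact (isUnit_gmFn _).mul_eq_left.mp (h.symm.trans (congrArg Red.gmFn h2))

theorem gmFn_inv_mul {X : Over S} (t : X ⟶ Red.Gm S) : Red.gmFn t⁻¹ * Red.gmFn t = 1 :=
  ((gmFn_mul t⁻¹ t).symm.trans (congrArg Red.gmFn (inv_mul_cancel t))).trans gmFn_one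

theorem gaFn_inv {X : Over S} (x : X ⟶ Red.Ga S) : Red.gaFn x⁻¹ = - Red.gaFn x :=
  eq_neg_of_add_eq_zero_left
    (((H27Witt.GaCoord.gaFn_mul x⁻¹ x).symm.trans (congrArg Red.gaFn (inv_mul_cancel x))).trans
      H27Witt.GaCoord.gaFn_one)

end Groth.Agent.H21Rank1
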