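import Groth.Agent.H21Rank1.Alg
import Groth.Agent.H21Rank1.Coord

/-!
The rank-one commutation rule on the points with values in a scheme.
-/

open CategoryTheory MonoidalCategory CartesianMonoidalCategory MonObj GrpObj AlgebraicGeometry
open CategoryTheory.Limits
open Groth.Agent.H27Witt.GaCoord (gaFn_comp gaFn_surjective gaFn_injective gaFn_mul)

universe u

set_option backward.isDefEq.respectTransparency false

namespace Groth.Agent.H21Rank1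

variable {S : Scheme.{u}}

/-- A point of the additive group with a given coordinate. -/
noncomputable def gaPt {X : Over S} (a : Γ(X.left, ⊤)) : X ⟶ Red.Ga S := (gaFn_surjective a).choose

theorem gaFn_gaPt {X : Over S} (a : Γ(X.left, ⊤)) : Red.gaFn (gaPt (X := X) a) = a :=
  (gaFn_surjective a).choose_spec

theorem eq_gaPt {X : Over S} {x : X ⟶ Red.Ga S} {a : Γ(X.left, ⊤)} (h : Red.gaFn x = a) : x = gaPt a :=
  gaFn_injective (h.trans (gaFn_gaPt a).symm)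

theorem gaPt_add {X : Over S} (a b : Γ(X.left, ⊤)) : gaPt (X := X) (a + b) = gaPt a * gaPt b :=
  (eq_gaPt ((gaFn_mul _ _).trans (congrArg₂ (· + ·) (gaFn_gaPt a) (gaFn_gaPt b)))).symm

theorem gaPt_comp {X Y : Over S} (f : Y ⟶ X) (a : Γ(X.left, ⊤)) : f ≫ gaPt a = gaPt (f.left.appTop a) :=
  eq_gaPt ((gaFn_comp f _).trans (congrArg _ (gaFn_gaPt a)))

/-- A point of the multiplicative group with a given coordinate. -/
noncomputable def gmPt {X : Over S} (a : (Γ(X.left, ⊤) : Type u)ˣ) : X ⟶ Red.Gm S :=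
  (gmFn_surjective _ a.isUnit).choose

theorem gmFn_gmPt {X : Over S} (a : (Γ(X.left, ⊤) : Type u)ˣ) : Red.gmFn (gmPt (X := X) a) = ↑a :=
  (gmFn_surjective _ a.isUnit).choose_spec

theorem eq_gmPt {X : Over S} {x : X ⟶ Red.Gm S} {a : (Γ(X.left, ⊤) : Type u)ˣ} (h : Red.gmFn x = ↑a) :
    x = gmPt a :=
  gmFn_injective (h.trans (gmFn_gmPt a).symm)

theorem gmPt_mul {X : Over S} (a b : (Γ(X.left, ⊤) : Type u)ˣ) : gmPt (X := X) (a * b) = gmPt a * gmPt b :=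
  (eq_gmPt ((gmFn_mul _ _).trans ((congrArg₂ (· * ·) (gmFn_gmPt a) (gmFn_gmPt b)).trans
    (Units.val_mul a b).symm))).symm

/-- The coordinate as a unit. -/
noncomputable def gmU {X : Over S} (t : X ⟶ Red.Gm S) : (Γ(X.left, ⊤) : Type u)ˣ := (isUnit_gmFn t).unit

theorem val_gmU {X : Over S} (t : X ⟶ Red.Gm S) : ↑(gmU t) = Red.gmFn t := rfl

theorem gmU_mul {X : Over S} (s t : X ⟶ Red.Gm S) : gmU (s * t) = gmU s * gmU t :=
  Units.ext (gmFn_mul s t)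

theorem gmPt_gmU {X : Over S} (t : X ⟶ Red.Gm S) : gmPt (gmU t) = t := (eq_gmPt rfl).symm

theorem gmU_gmPt {X : Over S} (a : (Γ(X.left, ⊤) : Type u)ˣ) : gmU (gmPt (X := X) a) = a :=
  Units.ext (gmFn_gmPt a)

/-- Multiplicative maps on points as homomorphisms. -/
noncomputable def postHom {A B : Over S} [GrpObj A] [GrpObj B] (f : A ⟶ B) [IsMonHom f] (X : Over S) :
    (X ⟶ A) →* (X ⟶ B) :=
  MonoidHom.mk' (fun t => t ≫ f) (fun a b => MonObj.mul_comp a b f)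

theorem postHom_apply {A B : Over S} [GrpObj A] [GrpObj B] (f : A ⟶ B) [IsMonHom f] {X : Over S} (t : X ⟶ A) :
    postHom f X t = t ≫ f := rfl

variable (G T : Over S) [GrpObj G] [GrpObj T] (i : T ⟶ G) [IsMonHom i]
    (α : T ⟶ Red.Gm S) [IsMonHom α]
    (pp pm : Red.Ga S ⟶ G) [IsMonHom pp] [IsMonHom pm]

theorem comp_sq {C : Type*} [Category C] [CartesianMonoidalCategory C] {X M : C} [GrpObj M] (z : X ⟶ M) :
    z ≫ (𝟙 M) ^ 2 = z * z := by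
  rw [pow_two, MonObj.comp_mul, Category.comp_id]

theorem sq_eq {X : Over S} (z : X ⟶ Red.Gm S) : z ≫ (𝟙 (Red.Gm S)) ^ 2 = z * z :=
  @comp_sq _ _ _ _ (Red.Gm S) _ z

theorem unit_val_mul_inv_eq {A : Type*} [CommRing A] {x a : A} {z : Aˣ} (h : x * z = a) : x = ↑z⁻¹ * a := by
  rw [← h, _root_.mul_comm x, ← _root_.mul_assoc, Units.inv_mul, _root_.one_mul]

theorem grp_conj {H : Type*} [Group H] {a b c : H} (h : a = c * b * c⁻¹) : c * b = a * c := by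
  rw [h, inv_mul_cancel_right]

theorem hP_aux {G T : Over S} [GrpObj G] [GrpObj T] {i : T ⟶ G} {α : T ⟶ Red.Gm S} {pp : Red.Ga S ⟶ G}
    (hpp : ∀ (X : Over S) (t : X ⟶ T) (x : X ⟶ Red.Ga S), ∃ x' : X ⟶ Red.Ga S,
      x' ≫ pp = (t ≫ i) * (x ≫ pp) * (t ≫ i)⁻¹ ∧ Red.gaFn x' = Red.gmFn (t ≫ α) * Red.gaFn x)
    {X : Over S} (t : X ⟶ T) (a : Γ(X.left, ⊤)) :
    (t ≫ i) * (gaPt a ≫ pp) = (gaPt ((gmU (t ≫ α)).val * a) ≫ pp) * (t ≫ i) := by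
  obtain ⟨x', h1, h3⟩ := hpp X t (gaPt a)
  have e : x' = gaPt ((gmU (t ≫ α)).val * a) :=
    eq_gaPt (h3.trans (congrArg₂ (· * ·) (val_gmU (t ≫ α)).symm (gaFn_gaPt a)))
  exact grp_conj (a := gaPt ((gmU (t ≫ α)).val * a) ≫ pp) ((congrArg (· ≫ pp) e).symm.trans h1)

theorem hN_aux {G T : Over S} [GrpObj G] [GrpObj T] {i : T ⟶ G} {α : T ⟶ Red.Gm S} {pm : Red.Ga S ⟶ G}
    (hpm : ∀ (X : Over S) (t : X ⟶ T) (y : X ⟶ Red.Ga S), ∃ y' : X ⟶ Red.Ga S,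
      y' ≫ pm = (t ≫ i) * (y ≫ pm) * (t ≫ i)⁻¹ ∧ Red.gaFn y' * Red.gmFn (t ≫ α) = Red.gaFn y)
    {X : Over S} (t : X ⟶ T) (a : Γ(X.left, ⊤)) :
    (t ≫ i) * (gaPt ((gmU (t ≫ α)).val * a) ≫ pm) = (gaPt a ≫ pm) * (t ≫ i) := by
  obtain ⟨y', h1, h3⟩ := hpm X t (gaPt ((gmU (t ≫ α)).val * a))
  have h5 : Red.gaFn y' * Red.gmFn (t ≫ α) = a * Red.gmFn (t ≫ α) := by
    refine h3.trans ((gaFn_gaPt _).trans ?_)
    rw [val_gmU]
    exact _root_.mul_comm (G := Γ(X.left, ⊤)) _ _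
  have e : y' = gaPt a := eq_gaPt ((isUnit_gmFn (t ≫ α)).mul_right_cancel h5)
  exact grp_conj ((congrArg (· ≫ pm) e).symm.trans h1)

theorem F_aux {G T : Over S} [GrpObj G] {i : T ⟶ G} {pp pm : Red.Ga S ⟶ G} {av : Red.Gm S ⟶ T}
    (hF : ∀ (X : Over S) (x y : X ⟶ Red.Ga S), IsUnit (1 + Red.gaFn x * Red.gaFn y) →
      ∃ (x' y' : X ⟶ Red.Ga S) (z : X ⟶ Red.Gm S), Red.gmFn z = 1 + Red.gaFn x * Red.gaFn y ∧
        Red.gaFn x' * Red.gmFn z = Red.gaFn x ∧ Red.gaFn y' * Red.gmFn z = Red.gaFn y ∧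
        (x ≫ pp) * (y ≫ pm) = (y' ≫ pm) * (z ≫ av ≫ i) * (x' ≫ pp))
    {X : Over S} (a b : Γ(X.left, ⊤)) (z : (Γ(X.left, ⊤) : Type u)ˣ) (hz : (z : Γ(X.left, ⊤)) = 1 + a * b) :
    (gaPt a ≫ pp) * (gaPt b ≫ pm) =
      (gaPt ((z⁻¹).val * b) ≫ pm) * ((gmPt z ≫ av) ≫ i) * (gaPt ((z⁻¹).val * a) ≫ pp) := by
  have hu : 1 + Red.gaFn (gaPt (X := X) a) * Red.gaFn (gaPt (X := X) b) = ↑z :=
    ((congrArg₂ (fun u v => 1 + u * v) (gaFn_gaPt a) (gaFn_gaPt b))).trans hz.symm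
  obtain ⟨x', y', m, hm, hx', hy', h⟩ := hF X (gaPt a) (gaPt b) ⟨z, hu.symm⟩
  have hm' : Red.gmFn m = ↑z := hm.trans hu
  have ex : x' = gaPt ((z⁻¹).val * a) := eq_gaPt (unit_val_mul_inv_eq
    ((congrArg (Red.gaFn x' * ·) hm').symm.trans (hx'.trans (gaFn_gaPt a))))
  have ey : y' = gaPt ((z⁻¹).val * b) := eq_gaPt (unit_val_mul_inv_eq
    ((congrArg (Red.gaFn y' * ·) hm').symm.trans (hy'.trans (gaFn_gaPt b))))
  have ez : m = gmPt z := eq_gmPt hm'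
  subst ex ey ez
  exact h.trans (congrArg (fun q => _ * q * _) (Category.assoc (gmPt z) av i).symm)

theorem hV_aux {T : Over S} {α : T ⟶ Red.Gm S} {av : Red.Gm S ⟶ T} (h2 : av ≫ α = (𝟙 (Red.Gm S)) ^ 2)
    {X : Over S} (a : (Γ(X.left, ⊤) : Type u)ˣ) : gmU ((gmPt (X := X) a ≫ av) ≫ α) = a * a := by
  have e : (gmPt (X := X) a ≫ av) ≫ α = gmPt a * gmPt a :=
    (Category.assoc _ _ _).trans ((congrArg (fun q => gmPt (X := X) a ≫ q) h2).trans (sq_eq _))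
  exact (congrArg gmU e).trans ((gmU_mul _ _).trans (congrArg₂ (· * ·) (gmU_gmPt a) (gmU_gmPt a)))

/-- The character on points. -/
noncomputable def chiHom {X : Over S} : (X ⟶ T) →* (Γ(X.left, ⊤) : Type u)ˣ :=
  MonoidHom.mk' (fun t => gmU (t ≫ α)) (fun a b =>
    (congrArg gmU (MonObj.mul_comp a b α)).trans (gmU_mul _ _))

/-- The coroot on units. -/
noncomputable def avHom (av : Red.Gm S ⟶ T) [IsMonHom av] {X : Over S} : (Γ(X.left, ⊤) : Type u)ˣ →* (X ⟶ T) :=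
  MonoidHom.mk' (fun a => gmPt a ≫ av) (fun a b =>
    (congrArg (· ≫ av) (gmPt_mul a b)).trans (MonObj.mul_comp _ _ av))

/-- The rank-one commutation rule on points with values in `X`. -/
noncomputable def data
    (hpp : ∀ (X : Over S) (t : X ⟶ T) (x : X ⟶ Red.Ga S), ∃ x' : X ⟶ Red.Ga S,
      x' ≫ pp = (t ≫ i) * (x ≫ pp) * (t ≫ i)⁻¹ ∧ Red.gaFn x' = Red.gmFn (t ≫ α) * Red.gaFn x)
    (hpm : ∀ (X : Over S) (t : X ⟶ T) (y : X ⟶ Red.Ga S), ∃ y' : X ⟶ Red.Ga S,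
      y' ≫ pm = (t ≫ i) * (y ≫ pm) * (t ≫ i)⁻¹ ∧ Red.gaFn y' * Red.gmFn (t ≫ α) = Red.gaFn y)
    (av : Red.Gm S ⟶ T) [IsMonHom av] (h2 : av ≫ α = (𝟙 (Red.Gm S)) ^ 2)
    (hF : ∀ (X : Over S) (x y : X ⟶ Red.Ga S), IsUnit (1 + Red.gaFn x * Red.gaFn y) →
      ∃ (x' y' : X ⟶ Red.Ga S) (z : X ⟶ Red.Gm S), Red.gmFn z = 1 + Red.gaFn x * Red.gaFn y ∧
        Red.gaFn x' * Red.gmFn z = Red.gaFn x ∧ Red.gaFn y' * Red.gmFn z = Red.gaFn y ∧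
        (x ≫ pp) * (y ≫ pm) = (y' ≫ pm) * (z ≫ av ≫ i) * (x' ≫ pp))
    (X : Over S) : R1 (X ⟶ G) Γ(X.left, ⊤) (X ⟶ T) where
  P a := gaPt a ≫ pp
  N a := gaPt a ≫ pm
  C := postHom i X
  χ := chiHom T α
  V := avHom T av
  P_add a b := (congrArg (· ≫ pp) (gaPt_add a b)).trans (MonObj.mul_comp _ _ pp)
  N_add a b := (congrArg (· ≫ pm) (gaPt_add a b)).trans (MonObj.mul_comp _ _ pm)
  hV a := hV_aux h2 a
  hP t a := hP_aux hpp t a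
  hN t a := hN_aux hpm t a
  F a b z hz := F_aux hF a b z hz

variable {G T i α pp pm}
variable {hpp : ∀ (X : Over S) (t : X ⟶ T) (x : X ⟶ Red.Ga S), ∃ x' : X ⟶ Red.Ga S,
      x' ≫ pp = (t ≫ i) * (x ≫ pp) * (t ≫ i)⁻¹ ∧ Red.gaFn x' = Red.gmFn (t ≫ α) * Red.gaFn x}
    {hpm : ∀ (X : Over S) (t : X ⟶ T) (y : X ⟶ Red.Ga S), ∃ y' : X ⟶ Red.Ga S,
      y' ≫ pm = (t ≫ i) * (y ≫ pm) * (t ≫ i)⁻¹ ∧ Red.gaFn y' * Red.gmFn (t ≫ α) = Red.gaFn y}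
    {av : Red.Gm S ⟶ T} [IsMonHom av] {h2 : av ≫ α = (𝟙 (Red.Gm S)) ^ 2}
    {hF : ∀ (X : Over S) (x y : X ⟶ Red.Ga S), IsUnit (1 + Red.gaFn x * Red.gaFn y) →
      ∃ (x' y' : X ⟶ Red.Ga S) (z : X ⟶ Red.Gm S), Red.gmFn z = 1 + Red.gaFn x * Red.gaFn y ∧
        Red.gaFn x' * Red.gmFn z = Red.gaFn x ∧ Red.gaFn y' * Red.gmFn z = Red.gaFn y ∧
        (x ≫ pp) * (y ≫ pm) = (y' ≫ pm) * (z ≫ av ≫ i) * (x' ≫ pp)}
    {X : Over S}

theorem data_P {x : X ⟶ Red.Ga S} {a : Γ(X.left, ⊤)} (h : Red.gaFn x = a) :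
    (data G T i α pp pm hpp hpm av h2 hF X).P a = x ≫ pp := by rw [eq_gaPt h]; rfl

theorem data_N {x : X ⟶ Red.Ga S} {a : Γ(X.left, ⊤)} (h : Red.gaFn x = a) :
    (data G T i α pp pm hpp hpm av h2 hF X).N a = x ≫ pm := by rw [eq_gaPt h]; rfl

theorem data_V {z : X ⟶ Red.Gm S} {a : (Γ(X.left, ⊤) : Type u)ˣ} (h : Red.gmFn z = ↑a) :
    (data G T i α pp pm hpp hpm av h2 hF X).C ((data G T i α pp pm hpp hpm av h2 hF X).V a) = z ≫ av ≫ i := by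
  rw [eq_gmPt h, ← Category.assoc]; rfl

theorem data_C (t : X ⟶ T) : (data G T i α pp pm hpp hpm av h2 hF X).C t = t ≫ i := rfl

theorem data_χ (t : X ⟶ T) : (data G T i α pp pm hpp hpm av h2 hF X).χ t = gmU (t ≫ α) := rfl

theorem data_w {x x' : X ⟶ Red.Ga S} (a : (Γ(X.left, ⊤) : Type u)ˣ) (hx : Red.gaFn x = ↑a)
    (hx' : Red.gaFn x' = -↑a⁻¹) :
    (data G T i α pp pm hpp hpm av h2 hF X).w a = (x ≫ pp) * (x' ≫ pm) * (x ≫ pp) := by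
  rw [R1.w, data_P hx, data_N hx']

/-- Two coordinates with product `-1`. -/
theorem exists_unit {x x' : X ⟶ Red.Ga S} (h : Red.gaFn x' * Red.gaFn x = -1) :
    ∃ a : (Γ(X.left, ⊤) : Type u)ˣ, Red.gaFn x = ↑a ∧ Red.gaFn x' = -↑a⁻¹ :=
  ⟨⟨Red.gaFn x, - Red.gaFn x', by rw [mul_neg, mul_comm, h, neg_neg], by rw [neg_mul, h, neg_neg]⟩, rfl,
    (neg_neg _).symm⟩

end Groth.Agent.H21Rank1
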