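import Groth.Agent.H21Rank1.Coord
import Groth.Agent.H21Rank1.Data
import Groth.Agent.H21Rank1.CellPts
import Groth.Agent.H21Diag.Points
import Mathlib.AlgebraicGeometry.AlgClosed.Basic
import Mathlib.AlgebraicGeometry.Morphisms.FlatMono
import Mathlib.AlgebraicGeometry.Morphisms.Etale

/-!
Connectedness of tori over a field; étale normal subgroups of a torus semidirect the additive group.
-/

open CategoryTheory MonoidalCategory CartesianMonoidalCategory MonObj GrpObj AlgebraicGeometry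
open CategoryTheory.Limits
open Groth.Agent.H27Witt.GaCoord (gaFn_comp gaFn_one gaFn_injective)

universe u

set_option backward.isDefEq.respectTransparency false

namespace Groth.Agent.H21Rank1

/-- A torus over a field is irreducible. -/
theorem irreducibleSpace_of_isTorus {K : Type u} [Field K] {T : Over (Spec (CommRingCat.of K))} [GrpObj T]
    (hT : Red.IsTorus T) : IrreducibleSpace T.left := by
  obtain ⟨S', f, hfl, hs, -, hloc⟩ := hT
  obtain ⟨s'⟩ : Nonempty S' := ⟨(hs.surj (Classical.arbitrary _)).choose⟩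
  obtain ⟨U, hsU, r, ⟨e⟩⟩ := hloc s'
  let L := (U : Scheme.{u}).residueField ⟨s', hsU⟩
  let y : Spec (CommRingCat.of L) ⟶ (U : Scheme.{u}) := (U : Scheme.{u}).fromSpecResidueField ⟨s', hsU⟩
  let g₁ : (L : Type u) →+* MonoidAlgebra L (Multiplicative (Fin r → ℤ)) := MonoidAlgebra.singleOneRingHom
  let ξ := H21Diag.gpt e (Spec.map (CommRingCat.ofHom g₁) ≫ y) (MonoidAlgebra.of L (Multiplicative (Fin r → ℤ)))
  have hsurj : Function.Surjective ξ.left := by
    intro p
    let x : Spec (CommRingCat.of L) ⟶ Spec (CommRingCat.of K) := y ≫ U.ι ≫ f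
    obtain ⟨q, hq, -⟩ := Scheme.Pullback.exists_preimage_pullback (f := T.hom) (g := x) p (Classical.arbitrary _)
      (Subsingleton.elim _ _)
    let P : Scheme.{u} := pullback T.hom x
    let z : Spec (P.residueField q) ⟶ P := P.fromSpecResidueField q
    let ψ := Spec.preimage (z ≫ pullback.snd T.hom x)
    let pt : Over.mk ((Spec.map (CommRingCat.ofHom ψ.hom) ≫ y) ≫ U.ι ≫ f) ⟶ T := Over.homMk (z ≫ pullback.fst T.hom x) (by
      change (z ≫ pullback.fst T.hom x) ≫ T.hom = (Spec.map ψ ≫ y) ≫ U.ι ≫ f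
      rw [Category.assoc, pullback.condition, Spec.map_preimage]
      exact (Category.assoc _ _ _).symm.trans (Category.assoc _ _ _).symm)
    obtain ⟨χ, hχ⟩ := H21Diag.gpt_surjective e _ pt
    let φ : MonoidAlgebra L (Multiplicative (Fin r → ℤ)) →+* P.residueField q :=
      MonoidAlgebra.liftNCRingHom ψ.hom χ fun _ _ => Commute.all _ _
    have e1 : φ.comp g₁ = ψ.hom := RingHom.ext fun l => by simp [φ, g₁]
    have e2 : φ.toMonoidHom.comp (MonoidAlgebra.of L (Multiplicative (Fin r → ℤ))) = χ :=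
      MonoidHom.ext fun m => by simp [φ]
    have h := H21Diag.gpt_comp e (Spec.map (CommRingCat.ofHom g₁) ≫ y) (MonoidAlgebra.of L _) φ
    have hg : ∀ {B : Type u} [CommRing B] (y₁ y₂ : Spec (CommRingCat.of B) ⟶ (U : Scheme.{u})) (c : Multiplicative (Fin r → ℤ) →* B),
        y₁ = y₂ → (H21Diag.gpt e y₁ c).left = (H21Diag.gpt e y₂ c).left := fun {B} _ y₁ y₂ c hy => by subst hy; rfl
    have hy : Spec.map (CommRingCat.ofHom φ) ≫ Spec.map (CommRingCat.ofHom g₁) ≫ y =
        Spec.map (CommRingCat.ofHom ψ.hom) ≫ y := by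
      rw [← Category.assoc, ← Spec.map_comp, ← CommRingCat.ofHom_comp, e1]
    rw [e2, hg _ _ χ hy, hχ] at h
    let v : Spec (P.residueField q) := Classical.arbitrary _
    refine ⟨(Spec.map (CommRingCat.ofHom φ)) v, ?_⟩
    refine (congrArg (fun k : Spec (P.residueField q) ⟶ T.left => k v) h).symm.trans ?_
    exact (congrArg (pullback.fst T.hom x) (Scheme.fromSpecResidueField_apply _ _)).trans hq
  have : IsDomain (MonoidAlgebra L (Multiplicative (Fin r → ℤ))) := NoZeroDivisors.to_isDomain _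
  have : IrreducibleSpace (PrimeSpectrum (MonoidAlgebra L (Multiplicative (Fin r → ℤ)))) := inferInstance
  exact @Function.Surjective.irreducibleSpace _ _ _ _ ξ.left ξ.left.continuous hsurj
    (inferInstanceAs (IrreducibleSpace (PrimeSpectrum (MonoidAlgebra L (Multiplicative (Fin r → ℤ))))))

local instance {K : Type u} [Field K] : Subsingleton (𝟙_ (Over (Spec (CommRingCat.of K)))).left :=
  inferInstanceAs (Subsingleton (PrimeSpectrum K))

local instance {K : Type u} [Field K] : Nonempty (𝟙_ (Over (Spec (CommRingCat.of K)))).left :=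
  inferInstanceAs (Nonempty (PrimeSpectrum K))

theorem one_hom_aux {S : Scheme.{u}} {M N : Over S} [GrpObj M] [GrpObj N] (g : M ⟶ N) [IsMonHom g] :
    η[M] ≫ g = (1 : 𝟙_ (Over S) ⟶ N) := by
  rw [IsMonHom.one_hom, Hom.one_def, toUnit_unique (toUnit _) (𝟙 _), Category.id_comp]

/-- An étale scheme over an algebraically closed field receives only constant maps from a connected one. -/
theorem exists_eq_const {K : Type u} [Field K] [IsAlgClosed K] {N X : Over (Spec (CommRingCat.of K))} [Etale N.hom]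
    [ConnectedSpace X.left] (g : X ⟶ N) : ∃ m : 𝟙_ (Over (Spec (CommRingCat.of K))) ⟶ N, g = toUnit X ≫ m := by
  have hsec : ∀ m : 𝟙_ (Over (Spec (CommRingCat.of K))) ⟶ N, IsOpenImmersion m.left := by
    intro m
    have hm : m.left ≫ N.hom = 𝟙 _ := Over.w m
    have : Etale (m.left ≫ N.hom) := by rw [hm]; infer_instance
    have : Etale m.left := Etale.of_comp m.left N.hom
    have : Mono m.left := mono_of_mono_fac hm
    exact IsOpenImmersion.of_flat_of_mono m.left
  have hrange : ∀ (m : 𝟙_ (Over (Spec (CommRingCat.of K))) ⟶ N), Set.range m.left = {m.left (Classical.arbitrary _)} :=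
    fun m => Set.ext fun n => ⟨fun ⟨a, ha⟩ => ha ▸ congrArg m.left (Subsingleton.elim a _), fun h => ⟨_, h.symm⟩⟩
  have hpts : ∀ n : N.left, ∃ m : 𝟙_ (Over (Spec (CommRingCat.of K))) ⟶ N, m.left (Classical.arbitrary _) = n := by
    let O : Set N.left := ⋃ m : 𝟙_ (Over (Spec (CommRingCat.of K))) ⟶ N, Set.range m.left
    have hO : IsOpen O := isOpen_iUnion fun m => by
      have := hsec m
      exact m.left.isOpenEmbedding.isOpen_range
    have : JacobsonSpace N.left := LocallyOfFiniteType.jacobsonSpace N.hom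
    have hclosed : closedPoints N.left ⊆ O := fun n hn => Set.mem_iUnion.mpr
      ⟨Over.homMk (pointOfClosedPoint N.hom n hn) (pointOfClosedPoint_comp _ _ _), Classical.arbitrary _,
        pointOfClosedPoint_apply _ _ _ _⟩
    intro n
    by_contra hn
    have hne : (Oᶜ).Nonempty := ⟨n, fun h => by
      obtain ⟨m, a, ha⟩ := Set.mem_iUnion.mp h
      exact hn ⟨m, (congrArg m.left (Subsingleton.elim _ a)).trans ha⟩⟩
    obtain ⟨c, hcO, hc⟩ := nonempty_inter_closedPoints hne hO.isClosed_compl.isLocallyClosed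
    exact hcO (hclosed hc)
  have hopen : ∀ n : N.left, IsOpen ({n} : Set N.left) := fun n => by
    obtain ⟨m, rfl⟩ := hpts n
    have := hsec m
    rw [← hrange m]
    exact m.left.isOpenEmbedding.isOpen_range
  have : DiscreteTopology N.left := discreteTopology_iff_isOpen_singleton.mpr hopen
  obtain ⟨x⟩ : Nonempty X.left := inferInstance
  obtain ⟨m, hm⟩ := hpts (g.left x)
  have := hsec m
  have hsub : Set.range g.left ⊆ Set.range m.left := by
    rintro _ ⟨x', rfl⟩
    rw [hrange m, Set.mem_singleton_iff, hm]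
    exact PreconnectedSpace.constant inferInstance g.left.continuous
  refine ⟨m, Over.OverMorphism.ext ?_⟩
  have hl := IsOpenImmersion.lift_fac m.left g.left hsub
  have hl' : IsOpenImmersion.lift m.left g.left hsub = (toUnit X).left := by
    have h1 := congrArg (· ≫ N.hom) hl
    simp only [Category.assoc, Over.w] at h1
    exact (Category.comp_id _).symm.trans (h1.trans ((Category.comp_id _).symm.trans (Over.w (toUnit X))).symm)
  rw [hl'] at hl
  exact hl.symm

theorem isTrivialGrp_of_forall_eq_one {K : Type u} [Field K] [IsAlgClosed K] {N : Over (Spec (CommRingCat.of K))}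
    [GrpObj N] [Etale N.hom] (h : ∀ m : 𝟙_ (Over (Spec (CommRingCat.of K))) ⟶ N, m = 1) : Red.IsTrivialGrp N := by
  have key : ∀ n : N.left, n = (η[N]).left (N.hom n) := by
    intro n
    let Z : Over (Spec (CommRingCat.of K)) := Over.mk (N.left.fromSpecResidueField n ≫ N.hom)
    have : ConnectedSpace Z.left := inferInstanceAs (ConnectedSpace (PrimeSpectrum (N.left.residueField n)))
    obtain ⟨m, hm⟩ := exists_eq_const (X := Z) (Over.homMk (N.left.fromSpecResidueField n) rfl : Z ⟶ N)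
    obtain ⟨v⟩ : Nonempty (Spec (N.left.residueField n)) := inferInstance
    have h1 : (1 : Z ⟶ N).left v = n := by
      rw [← MonObj.comp_one (toUnit Z), ← h m, ← hm]
      exact Scheme.fromSpecResidueField_apply _ _
    have h2 : (1 : Z ⟶ N).left v = (η[N]).left ((toUnit Z).left v) := by rw [Hom.one_def]; rfl
    exact h1.symm.trans (h2.trans (congrArg η[N].left (Subsingleton.elim _ _)))
  have hη : η[N].left ≫ N.hom = 𝟙 _ := Over.w η[N]
  have : Etale (η[N].left ≫ N.hom) := by rw [hη]; infer_instance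
  have : Etale η[N].left := Etale.of_comp η[N].left N.hom
  have : Mono η[N].left := mono_of_mono_fac hη
  have : IsOpenImmersion η[N].left := IsOpenImmersion.of_flat_of_mono η[N].left
  have : Surjective η[N].left := ⟨fun n => ⟨_, (key n).symm⟩⟩
  have : IsIso η[N].left := isIso_of_isOpenImmersion_of_opensRange_eq_top η[N].left
    (TopologicalSpace.Opens.ext (Set.range_eq_univ.mpr (η[N].left.surjective)))
  exact ⟨η[N].left, by rw [← cancel_epi η[N].left, ← Category.assoc, hη, Category.id_comp, Category.comp_id], hη⟩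

variable {K : Type u} [Field K] [IsAlgClosed K]

/-- Étale normal subgroups meeting the torus trivially are trivial. -/
theorem isTrivialGrp_of_normal {T P N : Over (Spec (CommRingCat.of K))} [GrpObj T] [GrpObj P] [GrpObj N]
    (hT : Red.IsTorus T) (α : T ⟶ Red.Gm (Spec (CommRingCat.of K))) [IsMonHom α] (hα : α ≠ 1)
    (jT : T ⟶ P) [IsMonHom jT] (jU : Red.Ga (Spec (CommRingCat.of K)) ⟶ P) [IsMonHom jU]
    (hiso : IsIso ((jT ⊗ₘ jU) ≫ μ[P]))
    (hconj : ∀ (X : Over (Spec (CommRingCat.of K))) (t : X ⟶ T) (x x' : X ⟶ Red.Ga (Spec (CommRingCat.of K))),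
      Red.gaFn x' = Red.gmFn (t ≫ α) * Red.gaFn x → (t ≫ jT) * (x ≫ jU) * (t ≫ jT)⁻¹ = x' ≫ jU)
    (n : N ⟶ P) [IsMonHom n] [Mono n] (hn : AlgGrp.IsNormalHom n) [Etale N.hom]
    (hNT : ∀ (X : Over (Spec (CommRingCat.of K))) (t : X ⟶ T) (m : X ⟶ N), t ≫ jT = m ≫ n → m = 1) :
    Red.IsTrivialGrp N := by
  have := irreducibleSpace_of_isTorus hT
  refine isTrivialGrp_of_forall_eq_one fun m => ?_
  have hpair : ∀ {X : Over (Spec (CommRingCat.of K))} (t : X ⟶ T) (x : X ⟶ Red.Ga _),
      lift t x ≫ (jT ⊗ₘ jU) ≫ μ[P] = (t ≫ jT) * (x ≫ jU) := fun t x => by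
    rw [lift_map_assoc, MonObj.mul_eq_mul (M := P), MonObj.comp_mul, lift_fst, lift_snd]
  obtain ⟨z, hz⟩ : ∃ z, z ≫ (jT ⊗ₘ jU) ≫ μ[P] = m ≫ n :=
    ⟨(m ≫ n) ≫ inv ((jT ⊗ₘ jU) ≫ μ[P]), by rw [Category.assoc, IsIso.inv_hom_id, Category.comp_id]⟩
  obtain ⟨t, x, rfl⟩ : ∃ t x, z = lift t x := ⟨z ≫ fst _ _, z ≫ snd _ _, (lift_comp_fst_snd z).symm⟩
  rw [hpair] at hz
  let k := toUnit T
  obtain ⟨m', hm'⟩ := hn T jT (k ≫ m)
  have : ConnectedSpace T.left := inferInstance
  obtain ⟨m₀, hm₀⟩ := exists_eq_const m'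
  let x' : T ⟶ Red.Ga _ := gaPt (Red.gmFn α * Red.gaFn (k ≫ x))
  have hx' : jT * ((k ≫ x) ≫ jU) * jT⁻¹ = x' ≫ jU := by
    have h := hconj T (𝟙 T) (k ≫ x) x' ((gaFn_gaPt _).trans (by rw [Category.id_comp]))
    rwa [Category.id_comp] at h
  have hc : jT * ((k ≫ t) ≫ jT) = ((k ≫ t) ≫ jT) * jT := by
    have h := isTorus_comm hT (𝟙 T) (k ≫ t)
    have h' := congrArg (· ≫ jT) h
    simpa only [MonObj.mul_comp, Category.id_comp] using h'
  have e : lift (k ≫ t) x' ≫ (jT ⊗ₘ jU) ≫ μ[P] = (k ≫ m₀) ≫ n := by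
    rw [hpair, ← hx', ← hm₀, ← hm', Category.assoc k m n, ← hz, MonObj.comp_mul, ← Category.assoc k t,
      ← Category.assoc k x]
    generalize (k ≫ x) ≫ jU = b
    calc ((k ≫ t) ≫ jT) * (jT * b * jT⁻¹) = ((k ≫ t) ≫ jT * jT) * b * jT⁻¹ := by group
      _ = _ := by rw [← hc]; group
  obtain ⟨z₀, hz₀⟩ : ∃ z, z ≫ (jT ⊗ₘ jU) ≫ μ[P] = m₀ ≫ n :=
    ⟨(m₀ ≫ n) ≫ inv ((jT ⊗ₘ jU) ≫ μ[P]), by rw [Category.assoc, IsIso.inv_hom_id, Category.comp_id]⟩
  have e2 : lift (k ≫ t) x' = k ≫ z₀ := by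
    rw [← cancel_mono ((jT ⊗ₘ jU) ≫ μ[P]), e, Category.assoc, Category.assoc, hz₀]
  have ex : x' = k ≫ z₀ ≫ snd _ _ := by rw [← Category.assoc, ← e2, lift_snd]
  by_cases h0 : Red.gaFn x = 0
  · have hx1 : x = 1 := gaFn_injective (h0.trans gaFn_one.symm)
    rw [hx1, MonObj.one_comp, _root_.mul_one] at hz
    exact hNT _ t m hz
  exfalso
  apply hα
  refine gmFn_injective (Eq.trans ?_ gmFn_one.symm)
  have h1 := congrArg (fun q => η[T] ≫ q) ex
  have h2 := congrArg Red.gaFn ex
  rw [gaFn_gaPt, gaFn_comp] at h2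
  have hk : η[T] ≫ k = 𝟙 _ := toUnit_unique _ _
  have h3 : Red.gaFn (z₀ ≫ snd _ _) = Red.gaFn x := by
    rw [← Category.id_comp (z₀ ≫ snd _ _), ← hk, Category.assoc, ← h1]
    rw [show x' = gaPt (Red.gmFn α * Red.gaFn (k ≫ x)) from rfl, gaFn_comp, gaFn_gaPt]
    refine (map_mul η[T].left.appTop.hom _ _).trans ?_
    have ea : η[T].left.appTop (Red.gmFn α) = 1 :=
      (gmFn_comp η[T] α).symm.trans
        ((congrArg Red.gmFn (@one_hom_aux _ T (Red.Gm _) _ _ α _)).trans gmFn_one)
    refine (congrArg₂ (· * ·) ea ((gaFn_comp _ _).symm.trans ?_)).trans (_root_.one_mul _)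
    rw [← Category.assoc, hk, Category.id_comp]
  rw [gaFn_comp, h3] at h2
  let F := (Scheme.ΓSpecIso (CommRingCat.of K)).commRingCatIsoToRingEquiv
  have hu : IsUnit (Red.gaFn x) := by
    have : IsUnit (F (Red.gaFn x)) := isUnit_iff_ne_zero.mpr fun h => h0 (F.injective (h.trans (map_zero F).symm))
    simpa using this.map F.symm
  exact (hu.map k.left.appTop.hom).mul_eq_right.mp h2

end Groth.Agent.H21Rank1
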