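import Groth.Agent.H21Rank1.Generate
import Groth.Agent.H21Diag.Conj
import Mathlib.AlgebraicGeometry.Sites.Fpqc

/-!
Extending a multiplicative morphism from an open neighbourhood of the unit to a homomorphism.
-/

open CategoryTheory MonoidalCategory CartesianMonoidalCategory MonObj GrpObj AlgebraicGeometry
open CategoryTheory.Limits

universe u

set_option backward.isDefEq.respectTransparency false

namespace Groth.Agent.H21Rank1

section Abstract

variable {C : Type*} [Category C] [CartesianMonoidalCategory C] {G : C} [GrpObj G]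

/-- The shearing automorphism `(a, c) ↦ (a c⁻¹, c)`. -/
def shear : G ⊗ G ≅ G ⊗ G where
  hom := lift (fst G G * (snd G G)⁻¹) (snd G G)
  inv := lift (fst G G * snd G G) (snd G G)
  hom_inv_id := by
    rw [comp_lift, lift_snd, MonObj.comp_mul, lift_fst, lift_snd, inv_mul_cancel_right, lift_fst_snd]
  inv_hom_id := by
    rw [comp_lift, lift_snd, comp_translate, lift_fst, lift_snd, mul_inv_cancel_right, lift_fst_snd]

variable {Ω : C} (ω : Ω ⟶ G)

theorem pair_translate {X : C} (a c : X ⟶ Ω) :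
    lift a c ≫ ((fst Ω Ω ≫ ω) * (snd Ω Ω ≫ ω)⁻¹) = (a ≫ ω) * (c ≫ ω)⁻¹ := by
  rw [comp_translate, lift_fst_assoc, lift_snd_assoc]

theorem translate_eq : (fst Ω Ω ≫ ω) * (snd Ω Ω ≫ ω)⁻¹ = (ω ⊗ₘ ω) ≫ shear.hom ≫ fst G G := by
  rw [shear, lift_fst, comp_translate, tensorHom_fst, tensorHom_snd]

end Abstract

variable {S : Scheme.{u}}

/-- A morphism over `S` which is a flat quasi-compact surjection is an effective epimorphism. -/
theorem exists_descend {W X Z : Over S} (p : W ⟶ X) [Flat p.left] [Surjective p.left] [QuasiCompact p.left] (f : W ⟶ Z)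
    (h : ∀ (Y : Over S) (a b : Y ⟶ W), a ≫ p = b ≫ p → a ≫ f = b ≫ f) : ∃ g : X ⟶ Z, p ≫ g = f := by
  have hc : ∀ {Y : Scheme.{u}} (a b : Y ⟶ W.left), a ≫ p.left = b ≫ p.left → a ≫ f.left = b ≫ f.left := by
    intro Y a b e
    have hw : b ≫ W.hom = a ≫ W.hom := by
      rw [← Over.w p, reassoc_of% e]
    exact congrArg (fun q => q.left) (h (Over.mk (a ≫ W.hom)) (Over.homMk a rfl) (Over.homMk b hw)
      (Over.OverMorphism.ext e))
  refine ⟨Over.homMk (EffectiveEpi.desc p.left f.left hc) ?_, Over.OverMorphism.ext (EffectiveEpi.fac p.left f.left hc)⟩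
  have : Epi p.left := Flat.epi_of_flat_of_surjective _
  rw [← cancel_epi p.left, EffectiveEpi.fac_assoc, Over.w f, Over.w p]

variable {G Ω : Over S} [GrpObj G] (ω : Ω ⟶ G) [IsOpenImmersion ω.left]
  [GeometricallyIrreducible G.hom] [Flat G.hom] [UniversallyOpen G.hom]

omit [Flat G.hom] in
/-- Finitely many translates of a neighbourhood of the unit meet every fibre. -/
theorem exists_inter_fibre (hη : ∀ s : S, η[G].left s ∈ ω.left.opensRange) {Y : Over S}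
    {n : ℕ} (g : Fin n → (Y ⟶ G)) (y : Y.left) :
    ∃ q : (Y ⊗ G).left, pullback.fst Y.hom G.hom q = y ∧ ∀ k, ((fst Y G ≫ g k) * snd Y G).left q ∈ ω.left.opensRange := by
  have hirr : IsIrreducible ((pullback.fst Y.hom G.hom) ⁻¹' {y}) :=
    (pullback.fst Y.hom G.hom).isIrreducible_preimage (pullback.fst Y.hom G.hom).isOpenMap isIrreducible_singleton
  have hne : ∀ k, (((pullback.fst Y.hom G.hom) ⁻¹' {y}) ∩
      (((fst Y G ≫ g k) * snd Y G).left ⁻¹ᵁ ω.left.opensRange : Set (Y ⊗ G).left)).Nonempty := by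
    intro k
    refine ⟨(lift (𝟙 Y) (g k)⁻¹).left y, ?_, ?_⟩
    · change ((lift (𝟙 Y) (g k)⁻¹) ≫ fst Y G).left y = y
      rw [lift_fst]; rfl
    · change ((lift (𝟙 Y) (g k)⁻¹) ≫ ((fst Y G ≫ g k) * snd Y G)).left y ∈ ω.left.opensRange
      rw [MonObj.comp_mul, lift_fst_assoc, lift_snd, Category.id_comp, mul_inv_cancel, one_left_apply]
      exact hη _
  classical
  obtain ⟨q, hq1, hq2⟩ := isIrreducible_iff_sInter.mp hirr
    (Finset.univ.image fun k => ((((fst Y G ≫ g k) * snd Y G).left ⁻¹ᵁ ω.left.opensRange : (Y ⊗ G).left.Opens) : Set (Y ⊗ G).left))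
    (fun u hu => by
      obtain ⟨k, -, rfl⟩ := Finset.mem_image.mp hu
      exact TopologicalSpace.Opens.isOpen _)
    (fun u hu => by
      obtain ⟨k, -, rfl⟩ := Finset.mem_image.mp hu
      exact hne k)
  exact ⟨q, hq1, fun k => Set.mem_sInter.mp hq2 _ (Finset.mem_coe.mpr (Finset.mem_image.mpr ⟨k, Finset.mem_univ k, rfl⟩))⟩

/-- After a flat surjective base change, finitely many points can be moved into the neighbourhood of the unit by a
single point of that neighbourhood. -/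
theorem exists_common (hη : ∀ s : S, η[G].left s ∈ ω.left.opensRange) {Y : Over S} {n : ℕ} (g : Fin n → (Y ⟶ G)) :
    ∃ (Y' : Over S) (p : Y' ⟶ Y) (e : Y' ⟶ Ω) (k : Fin n → (Y' ⟶ Ω)), Flat p.left ∧ Surjective p.left ∧
      ∀ i, k i ≫ ω = (p ≫ g i) * (e ≫ ω) := by
  let g' : Fin (n + 1) → (Y ⟶ G) := Fin.cons 1 g
  let W : (Y ⊗ G).left.Opens := ⟨⋂ i, ((((fst Y G ≫ g' i) * snd Y G).left ⁻¹ᵁ ω.left.opensRange : (Y ⊗ G).left.Opens) : Set (Y ⊗ G).left),
    isOpen_iInter_of_finite fun i => TopologicalSpace.Opens.isOpen _⟩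
  let Y' : Over S := Over.mk (W.ι ≫ (Y ⊗ G).hom)
  let j : Y' ⟶ Y ⊗ G := Over.homMk W.ι rfl
  have hlift : ∀ i, ∃ k : Y' ⟶ Ω, k ≫ ω = (j ≫ fst Y G ≫ g' i) * (j ≫ snd Y G) := by
    intro i
    refine exists_lift_of_range_subset ω _ ?_
    rintro _ ⟨q, rfl⟩
    have hq : W.ι q ∈ W := q.2
    have := Set.mem_iInter.mp hq i
    rw [← MonObj.comp_mul]
    exact this
  choose k hk using hlift
  refine ⟨Y', j ≫ fst Y G, k 0, fun i => k i.succ, ?_, ⟨fun y => ?_⟩, fun i => ?_⟩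
  · change Flat (W.ι ≫ pullback.fst Y.hom G.hom)
    infer_instance
  · obtain ⟨q, hq1, hq2⟩ := exists_inter_fibre ω hη g' y
    have hW : q ∈ W := Set.mem_iInter.mpr hq2
    exact ⟨⟨q, hW⟩, hq1⟩
  · rw [hk, hk]
    simp [g', MonObj.comp_one, Category.assoc]

/-- The translation morphism `(a, c) ↦ a c⁻¹` from the neighbourhood is flat and surjective. -/
theorem translate_props (hη : ∀ s : S, η[G].left s ∈ ω.left.opensRange) [QuasiCompact Ω.hom] [QuasiSeparated G.hom] :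
    Flat ((fst Ω Ω ≫ ω) * (snd Ω Ω ≫ ω)⁻¹).left ∧ Surjective ((fst Ω Ω ≫ ω) * (snd Ω Ω ≫ ω)⁻¹).left ∧
      QuasiCompact ((fst Ω Ω ≫ ω) * (snd Ω Ω ≫ ω)⁻¹).left := by
  refine ⟨?_, ⟨fun x => ?_⟩, ?_⟩
  · rw [translate_eq, Over.comp_left, Over.comp_left]
    have : IsOpenImmersion (ω ⊗ₘ ω).left := by rw [Over.tensorHom_left]; infer_instance
    have : Flat (fst G G).left := inferInstanceAs (Flat (pullback.fst G.hom G.hom))
    have : IsIso (shear (G := G)).hom.left := inferInstanceAs (IsIso ((Over.forget S).map (shear (G := G)).hom))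
    infer_instance
  · let X : Over S := Over.mk (G.left.fromSpecResidueField x ≫ G.hom)
    let xp : X ⟶ G := Over.homMk (G.left.fromSpecResidueField x) rfl
    obtain ⟨Y, p, e, k, hf, hs, hk⟩ := exists_common ω hη (Y := X) (fun _ : Fin 1 => xp)
    have h : lift (k 0) e ≫ ((fst Ω Ω ≫ ω) * (snd Ω Ω ≫ ω)⁻¹) = p ≫ xp := by
      rw [pair_translate, hk, mul_inv_cancel_right]
    obtain ⟨y, hy⟩ := hs.surj (default : PrimeSpectrum (G.left.residueField x))
    refine ⟨(lift (k 0) e).left y, (congrArg (fun q : Y ⟶ G => q.left y) h).trans ?_⟩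
    change xp.left (p.left y) = x
    exact (congrArg xp.left hy).trans (Scheme.fromSpecResidueField_apply _ _)
  · have h1 : QuasiCompact (Ω ⊗ Ω).hom := inferInstanceAs (QuasiCompact (pullback.fst Ω.hom Ω.hom ≫ Ω.hom))
    have : QuasiCompact (((fst Ω Ω ≫ ω) * (snd Ω Ω ≫ ω)⁻¹).left ≫ G.hom) := by
      rw [Over.w ((fst Ω Ω ≫ ω) * (snd Ω Ω ≫ ω)⁻¹)]; exact h1
    exact QuasiCompact.of_comp _ G.hom

variable {H : Over S} [GrpObj H] (φ : Ω ⟶ H)

/-- Well-definedness of the extension. -/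
theorem ext_welldef (hη : ∀ s : S, η[G].left s ∈ ω.left.opensRange)
    (hmul : ∀ (X : Over S) (a b c : X ⟶ Ω), (a ≫ ω) * (b ≫ ω) = c ≫ ω → (a ≫ φ) * (b ≫ φ) = c ≫ φ)
    {Y : Over S} (a c a' c' : Y ⟶ Ω) (h : (a ≫ ω) * (c ≫ ω)⁻¹ = (a' ≫ ω) * (c' ≫ ω)⁻¹) :
    (a ≫ φ) * (c ≫ φ)⁻¹ = (a' ≫ φ) * (c' ≫ φ)⁻¹ := by
  obtain ⟨Y', p, e, k, hf, hs, hk⟩ := exists_common ω hη ![(c ≫ ω)⁻¹, (c' ≫ ω)⁻¹, (a ≫ ω) * (c ≫ ω)⁻¹]
  have h0 : k 0 ≫ ω = ((p ≫ c) ≫ ω)⁻¹ * (e ≫ ω) := by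
    rw [hk, Category.assoc, ← GrpObj.comp_inv]; rfl
  have h1 : k 1 ≫ ω = ((p ≫ c') ≫ ω)⁻¹ * (e ≫ ω) := by
    rw [hk, Category.assoc, ← GrpObj.comp_inv]; rfl
  have h2 : k 2 ≫ ω = (((p ≫ a) ≫ ω) * ((p ≫ c) ≫ ω)⁻¹) * (e ≫ ω) := by
    rw [hk]
    change (p ≫ ((a ≫ ω) * (c ≫ ω)⁻¹)) * _ = _
    rw [comp_translate, Category.assoc, Category.assoc]
  have h2' : k 2 ≫ ω = (((p ≫ a') ≫ ω) * ((p ≫ c') ≫ ω)⁻¹) * (e ≫ ω) := by
    rw [hk]
    change (p ≫ ((a ≫ ω) * (c ≫ ω)⁻¹)) * _ = _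
    rw [h, comp_translate, Category.assoc, Category.assoc]
  have e0 := hmul Y' (p ≫ c) (k 0) e (by rw [h0, mul_inv_cancel_left])
  have e1 := hmul Y' (p ≫ c') (k 1) e (by rw [h1, mul_inv_cancel_left])
  have e2 := hmul Y' (p ≫ a) (k 0) (k 2) (by rw [h0, h2, _root_.mul_assoc])
  have e2' := hmul Y' (p ≫ a') (k 1) (k 2) (by rw [h1, h2', _root_.mul_assoc])
  refine eq_of_flat_surjective p ?_
  rw [comp_translate, comp_translate, ← Category.assoc, ← Category.assoc, ← Category.assoc, ← Category.assoc]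
  rw [← eq_inv_mul_iff_mul_eq] at e0 e1
  rw [e0] at e2
  rw [e1] at e2'
  exact mul_right_cancel (b := e ≫ φ) (by rw [_root_.mul_assoc, _root_.mul_assoc]; exact e2.trans e2'.symm)

omit [IsOpenImmersion ω.left] in
/-- Homomorphisms agreeing on an open neighbourhood of the unit are equal. -/
theorem hom_ext_of_cell [IsOpenImmersion ω.left] (hη : ∀ s : S, η[G].left s ∈ ω.left.opensRange)
    (F F' : G ⟶ H) [IsMonHom F] [IsMonHom F'] (h : ω ≫ F = ω ≫ F') : F = F' := by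
  obtain ⟨Y, p, e, k, hf, hs, hk⟩ := exists_common ω hη (Y := G) (fun _ : Fin 1 => 𝟙 G)
  refine eq_of_flat_surjective p ?_
  have hg : p = (k 0 ≫ ω) * (e ≫ ω)⁻¹ := by rw [hk, mul_inv_cancel_right, Category.comp_id]
  rw [hg, MonObj.mul_comp, MonObj.mul_comp, GrpObj.inv_comp, GrpObj.inv_comp]
  simp only [Category.assoc, h]

/-- A morphism on an open neighbourhood of the unit, multiplicative where defined, extends to a homomorphism. -/
theorem exists_extend (hη : ∀ s : S, η[G].left s ∈ ω.left.opensRange) [QuasiCompact Ω.hom] [QuasiSeparated G.hom]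
    (hmul : ∀ (X : Over S) (a b c : X ⟶ Ω), (a ≫ ω) * (b ≫ ω) = c ≫ ω → (a ≫ φ) * (b ≫ φ) = c ≫ φ) :
    ∃! F : G ⟶ H, IsMonHom F ∧ ω ≫ F = φ := by
  obtain ⟨hflat, hsurj, hqc⟩ := translate_props ω hη
  obtain ⟨F, hF⟩ := exists_descend ((fst Ω Ω ≫ ω) * (snd Ω Ω ≫ ω)⁻¹) ((fst Ω Ω ≫ φ) * (snd Ω Ω ≫ φ)⁻¹) (fun Y a b e => by
    rw [comp_translate, comp_translate, ← Category.assoc, ← Category.assoc, ← Category.assoc, ← Category.assoc] at e ⊢
    exact ext_welldef ω φ hη hmul _ _ _ _ e)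
  have hval : ∀ {Y : Over S} (a c : Y ⟶ Ω), ((a ≫ ω) * (c ≫ ω)⁻¹) ≫ F = (a ≫ φ) * (c ≫ φ)⁻¹ := fun a c => by
    rw [← pair_translate ω, ← pair_translate φ, Category.assoc, hF]
  have hm : IsMonHom F := by
    refine H21Diag.isMonHom_of_mul F fun {Z} g g' => ?_
    obtain ⟨Y, p, e, k, hf, hs, hk⟩ := exists_common ω hη ![g', g * g']
    refine eq_of_flat_surjective p ?_
    rw [MonObj.comp_mul, ← Category.assoc, ← Category.assoc, ← Category.assoc,
      show p ≫ (g * g') = (k 1 ≫ ω) * (e ≫ ω)⁻¹ by rw [hk, mul_inv_cancel_right]; rfl,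
      show p ≫ g' = (k 0 ≫ ω) * (e ≫ ω)⁻¹ by rw [hk, mul_inv_cancel_right]; rfl,
      show p ≫ g = (k 1 ≫ ω) * (k 0 ≫ ω)⁻¹ by
        rw [hk, hk]
        change p ≫ g = (p ≫ (g * g')) * (e ≫ ω) * ((p ≫ g') * (e ≫ ω))⁻¹
        rw [MonObj.comp_mul]; group]
    rw [hval, hval, hval]
    group
  refine ⟨F, ⟨hm, ?_⟩, fun F' hF' => ?_⟩
  · obtain ⟨Y, p, e, k, hf, hs, hk⟩ := exists_common ω hη ![ω]
    refine eq_of_flat_surjective p ?_
    rw [← Category.assoc, show p ≫ ω = (k 0 ≫ ω) * (e ≫ ω)⁻¹ by rw [hk, mul_inv_cancel_right]; rfl, hval,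
      ← hmul Y p e (k 0) (hk 0).symm, mul_inv_cancel_right]
  · have := hF'.1
    have : Epi ((fst Ω Ω ≫ ω) * (snd Ω Ω ≫ ω)⁻¹).left := Flat.epi_of_flat_of_surjective _
    refine eq_of_flat_surjective ((fst Ω Ω ≫ ω) * (snd Ω Ω ≫ ω)⁻¹) ?_
    rw [hF, MonObj.mul_comp, GrpObj.inv_comp, Category.assoc, Category.assoc, hF'.2]

end Groth.Agent.H21Rank1
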