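import Groth.Agent.H21Rank1.IsoIso
import Groth.Agent.H06EGA9.FlatDescentAtPoint

/-!
Homomorphisms of rank-one systems inducing a faithfully flat map on tori.
-/

open CategoryTheory MonoidalCategory CartesianMonoidalCategory MonObj GrpObj AlgebraicGeometry
open Groth.Agent.H27Witt.GaCoord (gaFn_comp gaFn_one gaFn_mul gaFn_injective)

universe u

set_option backward.isDefEq.respectTransparency false
set_option linter.unusedSectionVars false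
set_option linter.unusedVariables false

namespace Groth.Agent.H21Rank1

variable {S : Scheme.{u}}

theorem flat_tensorHom {A B A' B' : Over S} (a : A ⟶ A') (b : B ⟶ B') [Flat a.left] [Flat b.left] :
    Flat (a ⊗ₘ b).left := by
  rw [Over.tensorHom_left]
  exact MorphismProperty.pullbackMap (P := @Flat) (inferInstanceAs (Flat a.left))
      (inferInstanceAs (Flat b.left)) (Over.w a).symm (Over.w b).symm

theorem surjective_tensorHom {A B A' B' : Over S} (a : A ⟶ A') (b : B ⟶ B') [Surjective a.left] [Surjective b.left] :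
    Surjective (a ⊗ₘ b).left := by
  rw [Over.tensorHom_left]
  exact MorphismProperty.pullbackMap (P := @Surjective) (inferInstanceAs (Surjective a.left))
      (inferInstanceAs (Surjective b.left)) (Over.w a).symm (Over.w b).symm

theorem one_comp_aux {M N P : Over S} [GrpObj M] [GrpObj N] (f : M ⟶ N) [IsMonHom f] : (1 : P ⟶ M) ≫ f = 1 :=
  MonObj.one_comp f

theorem powScale_inv (c d : 𝟙_ (Over S) ⟶ Red.Gm S)
    (h : ∀ X : Over S, Red.gmFn (toUnit X ≫ d) * Red.gmFn (toUnit X ≫ c) = 1) :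
    powScale 1 c ≫ powScale 1 d = 𝟙 (Red.Ga S) := by
  refine gaFn_injective ?_
  rw [comp_powScale, pow_one, show powScale 1 c = 𝟙 _ ≫ powScale 1 c from (Category.id_comp _).symm, comp_powScale,
    pow_one, ← _root_.mul_assoc, h, _root_.one_mul]

theorem isIso_powScale (c : 𝟙_ (Over S) ⟶ Red.Gm S) : IsIso (powScale 1 c) ∧ IsIso (powScale 1 c⁻¹) := by
  have h1 := powScale_inv c c⁻¹ (fun X => gmFn_inv_val c)
  have h2 := powScale_inv c⁻¹ c (fun X => (_root_.mul_comm _ _).trans (gmFn_inv_val c))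
  exact ⟨⟨_, h1, h2⟩, ⟨_, h2, h1⟩⟩

variable {G T : Over S} [GrpObj G] [GrpObj T] {i : T ⟶ G} [IsMonHom i]
    {α : T ⟶ Red.Gm S} [IsMonHom α] {pp pm : Red.Ga S ⟶ G} [IsMonHom pp] [IsMonHom pm]
variable (hpp : ∀ (X : Over S) (t : X ⟶ T) (x : X ⟶ Red.Ga S), ∃ x' : X ⟶ Red.Ga S,
      x' ≫ pp = (t ≫ i) * (x ≫ pp) * (t ≫ i)⁻¹ ∧ Red.gaFn x' = Red.gmFn (t ≫ α) * Red.gaFn x)
    (hpm : ∀ (X : Over S) (t : X ⟶ T) (y : X ⟶ Red.Ga S), ∃ y' : X ⟶ Red.Ga S,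
      y' ≫ pm = (t ≫ i) * (y ≫ pm) * (t ≫ i)⁻¹ ∧ Red.gaFn y' * Red.gmFn (t ≫ α) = Red.gaFn y)
    {av : Red.Gm S ⟶ T} [IsMonHom av] (h2 : av ≫ α = (𝟙 (Red.Gm S)) ^ 2)
    (hF : ∀ (X : Over S) (x y : X ⟶ Red.Ga S), IsUnit (1 + Red.gaFn x * Red.gaFn y) →
      ∃ (x' y' : X ⟶ Red.Ga S) (z : X ⟶ Red.Gm S), Red.gmFn z = 1 + Red.gaFn x * Red.gaFn y ∧
        Red.gaFn x' * Red.gmFn z = Red.gaFn x ∧ Red.gaFn y' * Red.gmFn z = Red.gaFn y ∧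
        (x ≫ pp) * (y ≫ pm) = (y' ≫ pm) * (z ≫ av ≫ i) * (x' ≫ pp))
variable {G' T' : Over S} [GrpObj G'] [GrpObj T'] {i' : T' ⟶ G'} [IsMonHom i'] [Mono i']
    {α' : T' ⟶ Red.Gm S} [IsMonHom α'] {pp' pm' : Red.Ga S ⟶ G'} [IsMonHom pp'] [IsMonHom pm']
variable (hpp' : ∀ (X : Over S) (t : X ⟶ T') (x : X ⟶ Red.Ga S), ∃ x' : X ⟶ Red.Ga S,
      x' ≫ pp' = (t ≫ i') * (x ≫ pp') * (t ≫ i')⁻¹ ∧ Red.gaFn x' = Red.gmFn (t ≫ α') * Red.gaFn x)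
    (hpm' : ∀ (X : Over S) (t : X ⟶ T') (y : X ⟶ Red.Ga S), ∃ y' : X ⟶ Red.Ga S,
      y' ≫ pm' = (t ≫ i') * (y ≫ pm') * (t ≫ i')⁻¹ ∧ Red.gaFn y' * Red.gmFn (t ≫ α') = Red.gaFn y)
    (hΩ : IsOpenImmersion (((pm ⊗ₘ i) ⊗ₘ pp) ≫ (μ[G] ▷ G) ≫ μ[G]).left)
    (hT : Red.IsTorus T) (hG : Red.IsReductive G)
    (hΩ' : IsOpenImmersion (((pm' ⊗ₘ i') ⊗ₘ pp') ≫ (μ[G'] ▷ G') ≫ μ[G']).left)
    (hT' : Red.IsTorus T') (hG' : Red.IsReductive G')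
    {av' : Red.Gm S ⟶ T'} [IsMonHom av'] (h2' : av' ≫ α' = (𝟙 (Red.Gm S)) ^ 2)
    (hF' : ∀ (X : Over S) (x y : X ⟶ Red.Ga S), IsUnit (1 + Red.gaFn x * Red.gaFn y) →
      ∃ (x' y' : X ⟶ Red.Ga S) (z : X ⟶ Red.Gm S), Red.gmFn z = 1 + Red.gaFn x * Red.gaFn y ∧
        Red.gaFn x' * Red.gmFn z = Red.gaFn x ∧ Red.gaFn y' * Red.gmFn z = Red.gaFn y ∧
        (x ≫ pp') * (y ≫ pm') = (y' ≫ pm') * (z ≫ av' ≫ i') * (x' ≫ pp'))


variable (c : 𝟙_ (Over S) ⟶ Red.Gm S) (fT : T ⟶ T') [IsMonHom fT] (hfl : Flat fT.left) (hsu : Surjective fT.left)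
    (hfTα : fT ≫ α' = α) (hfTav : av ≫ fT = av') (f : G ⟶ G') [IsMonHom f] (hfT : i ≫ f = fT ≫ i')
    (hf : ∀ (X : Over S) (x y : X ⟶ Red.Ga S), Red.gaFn y = Red.gmFn (toUnit X ≫ c) * Red.gaFn x →
      (x ≫ pp) ≫ f = y ≫ pp')

include hpp hpm h2 hF hpp' hpm' h2' hF' hΩ hT hG hΩ' hT' hG' hfTα hfTav hfT hf in
theorem cell_map :
    (((pm ⊗ₘ i) ⊗ₘ pp) ≫ (μ[G] ▷ G) ≫ μ[G]) ≫ f =
      ((powScale 1 c⁻¹ ⊗ₘ fT) ⊗ₘ powScale 1 c) ≫ ((pm' ⊗ₘ i') ⊗ₘ pp') ≫ (μ[G'] ▷ G') ≫ μ[G'] := by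
  have h11 : ∀ (X : Over S) (a b : Γ(X.left, ⊤)), (a + b) ^ 1 = a ^ 1 + b ^ 1 := fun X a b => by
    rw [pow_one, pow_one, pow_one]
  have hf1 : ∀ (X : Over S) (x y : X ⟶ Red.Ga S), Red.gaFn y = Red.gmFn (toUnit X ≫ c) * Red.gaFn x ^ 1 →
      (x ≫ pp) ≫ f = y ≫ pp' := fun X x y h => hf X x y (by rw [h, pow_one])
  have hneg := (existsUnique_hom hpp hpm h2 hF hpp' hpm' hΩ hT hG hΩ' hT' hG' h2' hF' 1 one_pos h11 c fT
    (hfTα.trans (@pow_one_hom _ _ _ _ (Red.Gm S) _ α).symm) (hfTav.trans (pow_one_hom av').symm)).2 f inferInstance hfT hf1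
  have ep : pp ≫ f = powScale 1 c ≫ pp' := by
    have h := hf1 (Red.Ga S) (𝟙 _) (powScale 1 c) (by rw [← comp_powScale 1 c (𝟙 _), Category.id_comp])
    rwa [Category.id_comp] at h
  have em : pm ≫ f = powScale 1 c⁻¹ ≫ pm' := by
    have h := hneg (Red.Ga S) (𝟙 _) (powScale 1 c⁻¹) (by
      rw [show powScale 1 c⁻¹ = 𝟙 _ ≫ powScale 1 c⁻¹ from (Category.id_comp _).symm, comp_powScale]
      linear_combination (Red.gaFn (𝟙 (Red.Ga S)) ^ 1) * gmFn_inv_val (X := Red.Ga S) c)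
    rwa [Category.id_comp] at h
  have e := cell_point_surjective (pp := pp) (pm := pm) (i := i) (𝟙 ((Red.Ga S ⊗ T) ⊗ Red.Ga S))
  refine (congrArg (· ≫ f) ((Category.id_comp _).symm.trans e)).trans ?_
  rw [cell_point_surjective ((powScale 1 c⁻¹ ⊗ₘ fT) ⊗ₘ powScale 1 c), MonObj.mul_comp, MonObj.mul_comp]
  simp only [Category.assoc, Category.id_comp, tensorHom_fst_assoc, tensorHom_snd_assoc, em, ep, hfT]

include hpp hpm h2 hF hpp' hpm' h2' hF' hΩ hT hG hΩ' hT' hG' hfl hsu hfTα hfTav hfT hf in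
theorem flat_surjective_qc : Flat f.left ∧ Surjective f.left ∧ QuasiCompact f.left := by
  have := hΩ
  have := hΩ'
  have := geometricallyIrreducible_of_isReductive hG
  have := hG.2.1
  have := geometricallyIrreducible_of_isReductive hG'
  have := hG'.2.1
  have := hG.1
  have := hG'.1
  obtain ⟨hq1, hq2⟩ := cell_qc (pp := pp) (pm := pm) hΩ hG hT
  obtain ⟨hq1', hq2'⟩ := cell_qc (pp := pp') (pm := pm') hΩ' hG' hT'
  obtain ⟨pf, ps, -⟩ := translate_props (((pm ⊗ₘ i) ⊗ₘ pp) ≫ (μ[G] ▷ G) ≫ μ[G]) (eta_mem_cell hΩ)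
  obtain ⟨pf', ps', -⟩ := translate_props (((pm' ⊗ₘ i') ⊗ₘ pp') ≫ (μ[G'] ▷ G') ≫ μ[G']) (eta_mem_cell hΩ')
  obtain ⟨hi1, hi2⟩ := isIso_powScale (S := S) c
  have hl1 : IsIso (powScale 1 c).left := inferInstanceAs (IsIso ((Over.forget S).map (powScale 1 c)))
  have hl2 : IsIso (powScale 1 c⁻¹).left := inferInstanceAs (IsIso ((Over.forget S).map (powScale 1 c⁻¹)))
  let φ := (powScale 1 c⁻¹ ⊗ₘ fT) ⊗ₘ powScale 1 c
  have : Flat (powScale 1 c⁻¹ ⊗ₘ fT).left := flat_tensorHom _ _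
  have : Surjective (powScale 1 c⁻¹ ⊗ₘ fT).left := surjective_tensorHom _ _
  have hφf : Flat φ.left := flat_tensorHom _ _
  have hφs : Surjective φ.left := surjective_tensorHom _ _
  have : Flat (φ ⊗ₘ φ).left := flat_tensorHom _ _
  have : Surjective (φ ⊗ₘ φ).left := surjective_tensorHom _ _
  let ω := ((pm ⊗ₘ i) ⊗ₘ pp) ≫ (μ[G] ▷ G) ≫ μ[G]
  let ω' := ((pm' ⊗ₘ i') ⊗ₘ pp') ≫ (μ[G'] ▷ G') ≫ μ[G']
  have hm : ω ≫ f = φ ≫ ω' := cell_map hpp hpm h2 hF hpp' hpm' hΩ hT hG hΩ' hT' hG' h2' hF' c fT hfTα hfTav f hfT hf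
  have e : ((fst _ _ ≫ ω) * (snd _ _ ≫ ω)⁻¹) ≫ f = (φ ⊗ₘ φ) ≫ ((fst _ _ ≫ ω') * (snd _ _ ≫ ω')⁻¹) := by
    rw [MonObj.mul_comp, GrpObj.inv_comp, comp_translate, tensorHom_fst_assoc, tensorHom_snd_assoc, Category.assoc _ ω f,
      Category.assoc _ ω f, hm]
  have e' : ((fst _ _ ≫ ω) * (snd _ _ ≫ ω)⁻¹).left ≫ f.left = (φ ⊗ₘ φ).left ≫ ((fst _ _ ≫ ω') * (snd _ _ ≫ ω')⁻¹).left :=
    congrArg (fun r => r.left) e
  have hflat : Flat (((fst _ _ ≫ ω) * (snd _ _ ≫ ω)⁻¹).left ≫ f.left) := by rw [e']; infer_instance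
  have hsurj : Surjective (((fst _ _ ≫ ω) * (snd _ _ ≫ ω)⁻¹).left ≫ f.left) := by rw [e']; infer_instance
  refine ⟨H06EGA9.flat_of_comp_surjective_flat ((fst _ _ ≫ ω) * (snd _ _ ≫ ω)⁻¹).left f.left,
    Surjective.of_comp ((fst _ _ ≫ ω) * (snd _ _ ≫ ω)⁻¹).left f.left, ?_⟩
  have : QuasiCompact (f.left ≫ G'.hom) := by rw [Over.w f]; infer_instance
  exact QuasiCompact.of_comp _ G'.hom

include hpp hpm h2 hF hpp' hpm' h2' hF' hΩ hT hG hΩ' hT' hG' hfTα hfTav hfT hf in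
theorem kernel_point {X : Over S} (g : X ⟶ G) (hg : g ≫ f = 1) : ∃ t : X ⟶ T, t ≫ i = g ∧ t ≫ fT = 1 := by
  have := hΩ
  have := mono_cell (i := i') (pp := pp') (pm := pm') hΩ'
  have := geometricallyIrreducible_of_isReductive hG
  have := hG.2.1
  obtain ⟨hi1, hi2⟩ := isIso_powScale (S := S) c
  have hm1 : Mono (powScale 1 c) := @IsIso.mono_of_iso _ _ _ _ (powScale 1 c) hi1
  have hm2 : Mono (powScale 1 c⁻¹) := @IsIso.mono_of_iso _ _ _ _ (powScale 1 c⁻¹) hi2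
  obtain ⟨Y, p, e, k, hfl', hsu', hk⟩ := exists_common (((pm ⊗ₘ i) ⊗ₘ pp) ≫ (μ[G] ▷ G) ≫ μ[G]) (eta_mem_cell hΩ)
    (Y := X) (fun _ : Fin 1 => g)
  have hk' := congrArg (· ≫ f) (hk 0)
  have hm := cell_map hpp hpm h2 hF hpp' hpm' hΩ hT hG hΩ' hT' hG' h2' hF' c fT hfTα hfTav f hfT hf
  generalize ((pm ⊗ₘ i) ⊗ₘ pp) ≫ (μ[G] ▷ G) ≫ μ[G] = w at hm hk'
  rw [MonObj.mul_comp, Category.assoc p g f, hg, MonObj.comp_one, _root_.one_mul, Category.assoc _ w f, Category.assoc _ w f,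
    hm, ← Category.assoc (k 0), ← Category.assoc e, cancel_mono] at hk'
  have hy : k 0 ≫ fst _ _ ≫ fst _ _ = e ≫ fst _ _ ≫ fst _ _ := by
    refine (@cancel_mono _ _ _ _ _ (powScale 1 c⁻¹) hm2 _ _).1 ?_
    simpa using congrArg (fun r => r ≫ fst _ _ ≫ fst _ _) hk'
  have hx : k 0 ≫ snd _ _ = e ≫ snd _ _ := by
    refine (@cancel_mono _ _ _ _ _ (powScale 1 c) hm1 _ _).1 ?_
    simpa using congrArg (fun r => r ≫ snd _ _) hk'
  have ht : (k 0 ≫ fst _ _ ≫ snd _ _) ≫ fT = (e ≫ fst _ _ ≫ snd _ _) ≫ fT := by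
    simpa using congrArg (fun r => r ≫ fst _ _ ≫ snd _ _) hk'
  let d := (k 0 ≫ fst _ _ ≫ snd _ _) * (e ≫ fst _ _ ≫ snd _ _)⁻¹
  have hd : d ≫ fT = 1 := by rw [MonObj.mul_comp, GrpObj.inv_comp, ht, mul_inv_cancel]
  have hdα : d ≫ α = 1 := (congrArg (d ≫ ·) hfTα).symm.trans (((Category.assoc _ _ _).symm.trans
    (congrArg (· ≫ α') hd)).trans (@one_comp_aux S T' (Red.Gm S) _ _ _ α' _))
  have hdg : d ≫ i = p ≫ g := by
    have hc := ker_comm_cell hpp hpm hT d hdα (e ≫ fst _ _ ≫ fst _ _) 1 1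
    simp only [MonObj.one_comp, _root_.mul_one] at hc
    rw [eq_mul_inv_of_mul_eq (hk 0).symm, cell_point_surjective (k 0), cell_point_surjective e, hy, hx, ← mul_inv_cancel_right (d ≫ i) ((e ≫ fst _ _ ≫ fst _ _) ≫ pm), hc,
      MonObj.mul_comp, GrpObj.inv_comp]
    group
  obtain ⟨v, hv⟩ := exists_lift_of_range_subset (((pm ⊗ₘ i) ⊗ₘ pp) ≫ (μ[G] ▷ G) ≫ μ[G]) g
    (range_subset_of_cover _ g p (lift (lift 1 d) 1) (by
      rw [lift_cell, MonObj.one_comp, MonObj.one_comp, _root_.one_mul, _root_.mul_one, hdg]))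
  rw [cell_point_surjective v] at hv
  have h := congrArg (p ≫ ·) hv
  simp only [comp_mul3] at h
  rw [← hdg, ← Category.assoc p (v ≫ _) pm, ← Category.assoc p (v ≫ _) i, ← Category.assoc p (v ≫ _) pp,
    show d ≫ i = ((1 : Y ⟶ Red.Ga S) ≫ pm) * (d ≫ i) * ((1 : Y ⟶ Red.Ga S) ≫ pp) by
      rw [MonObj.one_comp, MonObj.one_comp, _root_.one_mul, _root_.mul_one]] at h
  obtain ⟨e1, e2, e3⟩ := cell_cancel hΩ h
  have e1' : v ≫ fst _ _ ≫ fst _ _ = 1 := eq_of_flat_surjective p (e1.trans (MonObj.comp_one p).symm)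
  have e3' : v ≫ snd _ _ = 1 := eq_of_flat_surjective p (e3.trans (MonObj.comp_one p).symm)
  rw [e1', e3', MonObj.one_comp, MonObj.one_comp, _root_.one_mul, _root_.mul_one] at hv
  refine ⟨_, hv, eq_of_flat_surjective p ?_⟩
  rw [← Category.assoc, e2, hd, MonObj.comp_one]

include hpp hpm h2 hF hpp' hpm' h2' hF' hΩ hT hG hΩ' hT' hG' hfTα hfTav hfT hf in
theorem kernel_isPullback [Mono i] {Q : Over S} (k : Q ⟶ T) (hk : AlgGrp.IsKernel k fT) :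
    AlgGrp.IsKernel (k ≫ i) f := by
  have hw : (k ≫ i) ≫ f = toUnit Q ≫ η[G'] := by
    rw [Category.assoc, hfT, ← Category.assoc, hk.w, Category.assoc, IsMonHom.one_hom]
  have key : ∀ (c : Limits.PullbackCone f η[G']), ∃! n : c.pt ⟶ Q, n ≫ k ≫ i = c.fst := fun c => by
    have hc : c.fst ≫ f = 1 := by rw [c.condition, toUnit_unique c.snd (toUnit _)]; rfl
    obtain ⟨t, ht, ht'⟩ := kernel_point hpp hpm h2 hF hpp' hpm' hΩ hT hG hΩ' hT' hG' h2' hF' _ fT hfTα hfTav f hfT hf c.fst hc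
    let n := hk.lift t (toUnit _) (by rw [ht']; rfl)
    refine ⟨n, by show n ≫ k ≫ i = c.fst; rw [← Category.assoc, hk.lift_fst, ht], fun m hm => hk.hom_ext ?_ (toUnit_unique _ _)⟩
    rw [hk.lift_fst, ← cancel_mono i, Category.assoc, hm, ht]
  exact ⟨⟨hw⟩, ⟨Limits.PullbackCone.IsLimit.mk hw (fun c => (key c).choose) (fun c => (key c).choose_spec.1)
    (fun c => toUnit_unique _ _) (fun c m hm _ => (key c).choose_spec.2 m hm)⟩⟩

end Groth.Agent.H21Rank1
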