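import Groth.Agent.H21Rank1.Cover

/-!
The braid relation in rank one.
-/

open CategoryTheory MonoidalCategory CartesianMonoidalCategory MonObj GrpObj AlgebraicGeometry

universe u

set_option backward.isDefEq.respectTransparency false

namespace Groth.Agent.H21Rank1

namespace R1

variable {H A Tp : Type*} [Group H] [CommRing A] [Group Tp] (r : R1 H A Tp)
  (hc : ∀ x : Aˣ, r.w x * r.P ↑x * (r.w x)⁻¹ = r.N (-↑x⁻¹))

include hc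

theorem braid (x : Aˣ) : r.w x = r.N (-↑x⁻¹) * r.P ↑x * r.N (-↑x⁻¹) := by
  have h := mul_inv_eq_iff_eq_mul.mp (hc x)
  rw [w] at h ⊢
  simp only [← _root_.mul_assoc] at h ⊢
  exact mul_right_cancel h

theorem w_minus (y : Aˣ) : r.N ↑y * r.P (-↑y⁻¹) * r.N ↑y = r.w (-y⁻¹) := by
  rw [r.braid hc (-y⁻¹)]; simp [inv_neg]

theorem w_inv_eq (x : Aˣ) : r.N ↑x⁻¹ * r.P (-↑x) * r.N ↑x⁻¹ = (r.w x)⁻¹ := by
  have h := r.w_minus hc x⁻¹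
  simp only [_root_.inv_inv] at h
  rw [h, r.w_inv]

theorem w_mul_w_minus (x y : Aˣ) : r.w x * (r.N ↑y * r.P (-↑y⁻¹) * r.N ↑y) = r.C (r.V (x * y)) := by
  rw [r.w_minus hc, r.w_mul_w]
  simp [inv_neg]

theorem w_P_cube (x : Aˣ) : (r.w x * r.P ↑x) ^ 3 = 1 := by
  have e : r.w x * r.P ↑x = r.N (-↑x⁻¹) * r.w x := mul_inv_eq_iff_eq_mul.mp (hc x)
  have hV : r.P ↑x * r.C (r.V (-1)) = r.C (r.V (-1)) * r.P ↑x := by
    rw [r.PC, r.χV_inv]; simp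
  have hz : r.C (r.V (-1)) * r.w x = (r.w x)⁻¹ := by
    rw [r.w_inv, ← r.w_mul_left, neg_one_mul]
  calc (r.w x * r.P ↑x) ^ 3 = r.w x * r.P ↑x * (r.w x * r.P ↑x) * (r.w x * r.P ↑x) := by
        rw [pow_succ, pow_two]
    _ = r.N (-↑x⁻¹) * (r.w x * r.w x) * r.P ↑x * (r.w x * r.P ↑x) := by
        conv_lhs => arg 1; arg 1; rw [e]
        group
    _ = r.N (-↑x⁻¹) * r.P ↑x * r.N (-↑x⁻¹) * (r.C (r.V (-1)) * r.w x) := by
        rw [r.w_sq, e, _root_.mul_assoc (r.N _) (r.C _), ← hV]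
        have hN : r.C (r.V (-1)) * r.N (-↑x⁻¹) = r.N (-↑x⁻¹) * r.C (r.V (-1)) := by
          rw [r.NC, r.χV_inv]; simp
        simp only [_root_.mul_assoc]
        rw [← _root_.mul_assoc (r.C (r.V (-1))) (r.N _), hN, _root_.mul_assoc]
    _ = 1 := by rw [hz, ← r.braid hc, mul_inv_cancel]

end R1

theorem gaFn_gaPt_unit_mul {S : Scheme.{u}} {X : Over S} (a : (Γ(X.left, ⊤) : Type u)ˣ) :
    Red.gaFn (gaPt (X := X) (-(a⁻¹).val)) * Red.gaFn (gaPt (X := X) a.val) = -1 :=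
  (congrArg₂ (· * ·) (gaFn_gaPt _) (gaFn_gaPt _)).trans
    ((neg_mul _ _).trans (congrArg Neg.neg (Units.inv_mul a)))

variable {S : Scheme.{u}} {G T : Over S} [GrpObj G] [GrpObj T] {i : T ⟶ G} [IsMonHom i]
    {α : T ⟶ Red.Gm S} [IsMonHom α] {pp pm : Red.Ga S ⟶ G} [IsMonHom pp] [IsMonHom pm]
variable (hpp : ∀ (X : Over S) (t : X ⟶ T) (x : X ⟶ Red.Ga S), ∃ x' : X ⟶ Red.Ga S,
      x' ≫ pp = (t ≫ i) * (x ≫ pp) * (t ≫ i)⁻¹ ∧ Red.gaFn x' = Red.gmFn (t ≫ α) * Red.gaFn x)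
    (hpm : ∀ (X : Over S) (t : X ⟶ T) (y : X ⟶ Red.Ga S), ∃ y' : X ⟶ Red.Ga S,
      y' ≫ pm = (t ≫ i) * (y ≫ pm) * (t ≫ i)⁻¹ ∧ Red.gaFn y' * Red.gmFn (t ≫ α) = Red.gaFn y)
    {av : Red.Gm S ⟶ T} [IsMonHom av] (h2 : av ≫ α = (𝟙 (Red.Gm S)) ^ 2)
    (hF : ∀ (X : Over S) (x y : X ⟶ Red.Ga S), IsUnit (1 + Red.gaFn x * Red.gaFn y) →
      ∃ (x' y' : X ⟶ Red.Ga S) (z : X ⟶ Red.Gm S), Red.gmFn z = 1 + Red.gaFn x * Red.gaFn y ∧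
        Red.gaFn x' * Red.gmFn z = Red.gaFn x ∧ Red.gaFn y' * Red.gmFn z = Red.gaFn y ∧
        (x ≫ pp) * (y ≫ pm) = (y' ≫ pm) * (z ≫ av ≫ i) * (x' ≫ pp))
    {X : Over S}

include hpp hpm h2 hF

theorem data_conj (a : (Γ(X.left, ⊤) : Type u)ˣ) :
    (data G T i α pp pm hpp hpm av h2 hF X).w a * (data G T i α pp pm hpp hpm av h2 hF X).P a.val *
      ((data G T i α pp pm hpp hpm av h2 hF X).w a)⁻¹ = (data G T i α pp pm hpp hpm av h2 hF X).N (-(a⁻¹).val) :=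
  w_conj_pp hpp hpm h2 hF (gaPt a.val) (gaPt (-(a⁻¹).val)) (gaFn_gaPt_unit_mul a)

theorem conj_and_cube (x x' : X ⟶ Red.Ga S) (hx : Red.gaFn x' * Red.gaFn x = -1) :
    ((x ≫ pp) * (x' ≫ pm) * (x ≫ pp)) * (x ≫ pp) * ((x ≫ pp) * (x' ≫ pm) * (x ≫ pp))⁻¹ = x' ≫ pm ∧
      (((x ≫ pp) * (x' ≫ pm) * (x ≫ pp)) * (x ≫ pp)) ^ 3 = 1 := by
  refine ⟨w_conj_pp hpp hpm h2 hF x x' hx, ?_⟩
  obtain ⟨a, ha, ha'⟩ := exists_unit hx
  have h := (data G T i α pp pm hpp hpm av h2 hF X).w_P_cube (data_conj hpp hpm h2 hF) a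
  rw [data_w a ha ha', data_P ha] at h
  exact h

theorem w_minus_rules (x x' nx nx' y y' : X ⟶ Red.Ga S) (hx : Red.gaFn x' * Red.gaFn x = -1)
    (hnx : Red.gaFn nx = - Red.gaFn x) (hnx' : Red.gaFn nx' = - Red.gaFn x') (hy : Red.gaFn y' * Red.gaFn y = -1)
    (z : X ⟶ Red.Gm S) (hz : Red.gmFn z = Red.gaFn x * Red.gaFn y) :
    (nx' ≫ pm) * (nx ≫ pp) * (nx' ≫ pm) = ((x ≫ pp) * (x' ≫ pm) * (x ≫ pp))⁻¹ ∧
      (nx ≫ pp) * (nx' ≫ pm) * (nx ≫ pp) = ((x ≫ pp) * (x' ≫ pm) * (x ≫ pp))⁻¹ ∧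
      ((x ≫ pp) * (x' ≫ pm) * (x ≫ pp)) * ((y ≫ pm) * (y' ≫ pp) * (y ≫ pm)) = z ≫ av ≫ i := by
  obtain ⟨a, ha, ha'⟩ := exists_unit hx
  obtain ⟨b, hb, hb'⟩ := exists_unit hy
  have hc := data_conj hpp hpm h2 hF (X := X)
  have hn : Red.gaFn nx = -a.val := hnx.trans (congrArg Neg.neg ha)
  have hn' : Red.gaFn nx' = (a⁻¹).val := hnx'.trans ((congrArg Neg.neg ha').trans (neg_neg _))
  have h1 := (data G T i α pp pm hpp hpm av h2 hF X).w_inv_eq hc a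
  have h2' := (data G T i α pp pm hpp hpm av h2 hF X).w_inv a
  have h3 := (data G T i α pp pm hpp hpm av h2 hF X).w_mul_w_minus hc a b
  have hz' : Red.gmFn z = (a * b).val := hz.trans ((congrArg₂ (· * ·) ha hb).trans (Units.val_mul a b).symm)
  rw [data_N hn', data_P hn, data_w a ha ha'] at h1
  rw [data_w a ha ha', data_w (-a) (x := nx) (x' := nx') (hn.trans (Units.val_neg a).symm)
    (hn'.trans (by rw [inv_neg, Units.val_neg, neg_neg]))] at h2'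
  rw [data_w a ha ha', data_N hb, data_P hb', data_V hz'] at h3
  exact ⟨h1, h2'.symm, h3⟩

end Groth.Agent.H21Rank1
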