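import Groth.Agent.H21Rank1.Data

open CategoryTheory MonoidalCategory CartesianMonoidalCategory MonObj GrpObj AlgebraicGeometry

universe u

set_option backward.isDefEq.respectTransparency false

namespace Groth.Agent.H21Rank1

variable {S : Scheme.{u}} {G T : Over S} [GrpObj G] [GrpObj T] {i : T ⟶ G} [IsMonHom i]
    {α : T ⟶ Red.Gm S} [IsMonHom α] {pp pm : Red.Ga S ⟶ G} [IsMonHom pp] [IsMonHom pm]
variable (hpp : ∀ (X : Over S) (t : X ⟶ T) (x : X ⟶ Red.Ga S), ∃ x' : X ⟶ Red.Ga S,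
      x' ≫ pp = (t ≫ i) * (x ≫ pp) * (t ≫ i)⁻¹ ∧ Red.gaFn x' = Red.gmFn (t ≫ α) * Red.gaFn x)
    (hpm : ∀ (X : Over S) (t : X ⟶ T) (y : X ⟶ Red.Ga S), ∃ y' : X ⟶ Red.Ga S,
      y' ≫ pm = (t ≫ i) * (y ≫ pm) * (t ≫ i)⁻¹ ∧ Red.gaFn y' * Red.gmFn (t ≫ α) = Red.gaFn y)
    {av : Red.Gm S ⟶ T} [IsMonHom av] (h2 : av ≫ α = (𝟙 (Red.Gm S)) ^ 2)
    (hF : ∀ (X : Over S) (x y : X ⟶ Red.Ga S), IsUnit (1 + Red.gaFn x * Red.gaFn y) →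
      ∃ (x' y' : X ⟶ Red.Ga S) (z : X ⟶ Red.Gm S), Red.gmFn z = 1 + Red.gaFn x * Red.gaFn y ∧
        Red.gaFn x' * Red.gmFn z = Red.gaFn x ∧ Red.gaFn y' * Red.gmFn z = Red.gaFn y ∧
        (x ≫ pp) * (y ≫ pm) = (y' ≫ pm) * (z ≫ av ≫ i) * (x' ≫ pp))
    {X : Over S}

include hpp hpm h2 hF

theorem coroot_eq (z : X ⟶ Red.Gm S) (y₁ x₁ y₂ x₂ : X ⟶ Red.Ga S) (hy₁ : Red.gaFn y₁ * Red.gmFn z = 1 - Red.gmFn z)
    (hx₁ : Red.gaFn x₁ = 1) (hy₂ : Red.gaFn y₂ = Red.gmFn z - 1) (hx₂ : Red.gaFn x₂ * Red.gmFn z = -1) :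
    z ≫ av ≫ i = (y₁ ≫ pm) * (x₁ ≫ pp) * (y₂ ≫ pm) * (x₂ ≫ pp) := by
  have h := (data G T i α pp pm hpp hpm av h2 hF X).V_eq (gmU z)
  have e1 : Red.gaFn y₁ = (gmU z)⁻¹.val - 1 := (unit_val_mul_inv_eq (z := gmU z) hy₁).trans (by
    rw [mul_sub, _root_.mul_one]; exact congrArg (_ - ·) (Units.inv_mul _))
  have e2 : Red.gaFn x₂ = -(gmU z)⁻¹.val := (unit_val_mul_inv_eq (z := gmU z) hx₂).trans (by
    rw [mul_neg, _root_.mul_one])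
  rw [data_V (z := z) rfl, data_N e1, data_P hx₁, data_N (x := y₂) (a := (gmU z).val - 1) hy₂, data_P e2] at h
  exact h

theorem opposite (x y x' y' : X ⟶ Red.Ga S) (z : X ⟶ Red.Gm S) (hz : Red.gmFn z = 1 + Red.gaFn x * Red.gaFn y)
    (hx' : Red.gaFn x' * Red.gmFn z = Red.gaFn x) (hy' : Red.gaFn y' * Red.gmFn z = Red.gaFn y) :
    (y ≫ pm) * (x ≫ pp) = (x' ≫ pp) * (z ≫ av ≫ i)⁻¹ * (y' ≫ pm) := by
  have h := (data G T i α pp pm hpp hpm av h2 hF X).G (Red.gaFn x) (Red.gaFn y) (gmU z) hz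
  rw [data_V (z := z) rfl, data_N (x := y) rfl, data_P (x := x) rfl,
    data_N (unit_val_mul_inv_eq (z := gmU z) hy'), data_P (unit_val_mul_inv_eq (z := gmU z) hx')] at h
  exact h

theorem cell_product (x y x' y' y₂ x₂ : X ⟶ Red.Ga S) (t t' : X ⟶ T) (z : X ⟶ Red.Gm S)
    (hz : Red.gmFn z = 1 + Red.gaFn x * Red.gaFn y')
    (hy₂ : (Red.gaFn y₂ - Red.gaFn y) * Red.gmFn z * Red.gmFn (t ≫ α) = Red.gaFn y')
    (hx₂ : (Red.gaFn x₂ - Red.gaFn x') * Red.gmFn z * Red.gmFn (t' ≫ α) = Red.gaFn x) :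
    ((y ≫ pm) * (t ≫ i) * (x ≫ pp)) * ((y' ≫ pm) * (t' ≫ i) * (x' ≫ pp)) =
      (y₂ ≫ pm) * ((t * (z ≫ av) * t') ≫ i) * (x₂ ≫ pp) := by
  have h := (data G T i α pp pm hpp hpm av h2 hF X).cell_mul (Red.gaFn y) (Red.gaFn x) (Red.gaFn y') (Red.gaFn x')
    t t' (gmU z) hz
  have e1 : Red.gaFn y₂ = Red.gaFn y + (gmU (t ≫ α))⁻¹.val * ((gmU z)⁻¹.val * Red.gaFn y') := by
    rw [_root_.mul_left_comm, ← unit_val_mul_inv_eq (z := gmU (t ≫ α))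
      (x := (Red.gaFn y₂ - Red.gaFn y) * (gmU z).val) hy₂]
    rw [_root_.mul_comm _ ((gmU z).val), ← _root_.mul_assoc, Units.inv_mul, _root_.one_mul, add_sub_cancel]
  have e2 : Red.gaFn x₂ = (gmU (t' ≫ α))⁻¹.val * ((gmU z)⁻¹.val * Red.gaFn x) + Red.gaFn x' := by
    rw [_root_.mul_left_comm, ← unit_val_mul_inv_eq (z := gmU (t' ≫ α))
      (x := (Red.gaFn x₂ - Red.gaFn x') * (gmU z).val) hx₂]
    rw [_root_.mul_comm _ ((gmU z).val), ← _root_.mul_assoc, Units.inv_mul, _root_.one_mul, sub_add_cancel]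
  rw [data_χ, data_χ, data_N (x := y) rfl, data_N (x := y') rfl, data_P (x := x) rfl, data_P (x := x') rfl,
    data_N e1, data_P e2, data_C, data_C, data_C] at h
  refine h.trans (congrArg (fun q => (y₂ ≫ pm) * ((t * q * t') ≫ i) * (x₂ ≫ pp)) ?_)
  exact congrArg (· ≫ av) (gmPt_gmU z)

theorem w_normalizes (x x' : X ⟶ Red.Ga S) (hx : Red.gaFn x' * Red.gaFn x = -1) :
    (∀ t : X ⟶ T, ((x ≫ pp) * (x' ≫ pm) * (x ≫ pp)) * (t ≫ i) * ((x ≫ pp) * (x' ≫ pm) * (x ≫ pp))⁻¹ =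
        (t ≫ α ≫ av ≫ i)⁻¹ * (t ≫ i)) ∧
      ∀ (z : X ⟶ Red.Gm S) (y y' : X ⟶ Red.Ga S), Red.gaFn y = Red.gmFn z * Red.gaFn x →
        Red.gaFn y' * Red.gaFn y = -1 →
        (y ≫ pp) * (y' ≫ pm) * (y ≫ pp) = (z ≫ av ≫ i) * ((x ≫ pp) * (x' ≫ pm) * (x ≫ pp)) ∧
          (y ≫ pp) * (y' ≫ pm) * (y ≫ pp) = ((x ≫ pp) * (x' ≫ pm) * (x ≫ pp)) * (z ≫ av ≫ i)⁻¹ := by
  obtain ⟨a, ha, ha'⟩ := exists_unit hx
  refine ⟨fun t => ?_, fun z y y' hy hy' => ?_⟩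
  · have h := (data G T i α pp pm hpp hpm av h2 hF X).w_conj a t
    rw [data_w a ha ha', data_χ, data_C, data_V (z := t ≫ α) rfl, Category.assoc] at h
    exact h
  · obtain ⟨b, hb, hb'⟩ := exists_unit hy'
    have e : b = gmU z * a := Units.ext (hb.symm.trans ((hy.trans (congrArg (Red.gmFn z * ·) ha)).trans
      (Units.val_mul (gmU z) a).symm))
    have hl := (data G T i α pp pm hpp hpm av h2 hF X).w_mul_left (gmU z) a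
    have hr := (data G T i α pp pm hpp hpm av h2 hF X).w_mul_right (gmU z) a
    rw [← e, data_w a ha ha', data_w b hb hb', data_V (z := z) rfl] at hl hr
    exact ⟨hl, hr⟩

theorem w_mul_w (x x' y y' : X ⟶ Red.Ga S) (hx : Red.gaFn x' * Red.gaFn x = -1) (hy : Red.gaFn y' * Red.gaFn y = -1)
    (m n : X ⟶ Red.Gm S) (hm : Red.gmFn m * Red.gaFn y = - Red.gaFn x) (hn : Red.gmFn n = -1) :
    ((x ≫ pp) * (x' ≫ pm) * (x ≫ pp)) * ((y ≫ pp) * (y' ≫ pm) * (y ≫ pp)) = m ≫ av ≫ i ∧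
      ((x ≫ pp) * (x' ≫ pm) * (x ≫ pp)) ^ 2 = n ≫ av ≫ i := by
  obtain ⟨a, ha, ha'⟩ := exists_unit hx
  obtain ⟨b, hb, hb'⟩ := exists_unit hy
  have h := (data G T i α pp pm hpp hpm av h2 hF X).w_mul_w a b
  have h' := (data G T i α pp pm hpp hpm av h2 hF X).w_sq a
  have em : Red.gmFn m = (-(a * b⁻¹)).val := by
    rw [ha, hb] at hm
    rw [Units.val_neg, Units.val_mul, ← neg_mul, Units.eq_mul_inv_iff_mul_eq]
    exact hm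
  have en : Red.gmFn n = (-1 : (Γ(X.left, ⊤) : Type u)ˣ).val := hn
  rw [data_w a ha ha', data_w b hb hb', data_V em] at h
  rw [data_w a ha ha', data_V en] at h'
  exact ⟨h, (pow_two _).trans h'⟩

end Groth.Agent.H21Rank1
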