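import Mathlib

/-!
Computations with the rank-one commutation rule in an abstract group.
-/

namespace Groth.Agent.H21Rank1

variable (H A Tp : Type*) [Group H] [CommRing A] [Group Tp]

/-- A pair of one-parameter subgroups in a group, a group acting on them through a character, and a
map from units satisfying the rank-one commutation rule. -/
structure R1 where
  P : A → H
  N : A → H
  C : Tp →* H
  χ : Tp →* Aˣ
  V : Aˣ →* Tp
  P_add : ∀ a b, P (a + b) = P a * P b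
  N_add : ∀ a b, N (a + b) = N a * N b
  hV : ∀ z : Aˣ, χ (V z) = z * z
  hP : ∀ t x, C t * P x = P (↑(χ t) * x) * C t
  hN : ∀ t y, C t * N (↑(χ t) * y) = N y * C t
  F : ∀ (x y : A) (z : Aˣ), (z : A) = 1 + x * y → P x * N y = N (↑z⁻¹ * y) * C (V z) * P (↑z⁻¹ * x)

namespace R1

variable {H A Tp} (r : R1 H A Tp)

theorem P_zero : r.P 0 = 1 := by simpa using r.P_add 0 0
theorem N_zero : r.N 0 = 1 := by simpa using r.N_add 0 0
theorem P_neg (a : A) : r.P (-a) = (r.P a)⁻¹ := eq_inv_of_mul_eq_one_left (by rw [← r.P_add, neg_add_cancel, r.P_zero])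
theorem N_neg (a : A) : r.N (-a) = (r.N a)⁻¹ := eq_inv_of_mul_eq_one_left (by rw [← r.N_add, neg_add_cancel, r.N_zero])

theorem CP (t : Tp) (x : A) : r.C t * r.P x = r.P (↑(r.χ t) * x) * r.C t := r.hP t x

theorem NC (t : Tp) (y : A) : r.C t * r.N y = r.N (↑(r.χ t)⁻¹ * y) * r.C t := by
  have h := r.hN t (↑(r.χ t)⁻¹ * y)
  rwa [← mul_assoc, Units.mul_inv, one_mul] at h

theorem PC (t : Tp) (x : A) : r.P x * r.C t = r.C t * r.P (↑(r.χ t)⁻¹ * x) := by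
  rw [r.CP, ← mul_assoc, Units.mul_inv, one_mul]

/-- The opposite commutation rule. -/
theorem G (x y : A) (z : Aˣ) (hz : (z : A) = 1 + x * y) :
    r.N y * r.P x = r.P (↑z⁻¹ * x) * (r.C (r.V z))⁻¹ * r.N (↑z⁻¹ * y) := by
  have h := r.F (-x) (-y) z (by rw [hz]; ring)
  rw [mul_neg, mul_neg, r.P_neg, r.P_neg, r.N_neg, r.N_neg, ← mul_inv_rev] at h
  rw [← inv_inj, h]
  group

/-- The product of two elements of the cell. -/
theorem cell_mul (y x y' x' : A) (t t' : Tp) (z : Aˣ) (hz : (z : A) = 1 + x * y') :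
    (r.N y * r.C t * r.P x) * (r.N y' * r.C t' * r.P x') =
      r.N (y + ↑(r.χ t)⁻¹ * (↑z⁻¹ * y')) * r.C (t * r.V z * t') * r.P (↑(r.χ t')⁻¹ * (↑z⁻¹ * x) + x') := by
  rw [r.N_add, r.P_add, map_mul, map_mul]
  calc r.N y * r.C t * r.P x * (r.N y' * r.C t' * r.P x')
      = r.N y * r.C t * (r.P x * r.N y') * r.C t' * r.P x' := by group
    _ = r.N y * (r.C t * r.N (↑z⁻¹ * y')) * r.C (r.V z) * (r.P (↑z⁻¹ * x) * r.C t') * r.P x' := by
          rw [r.F x y' z hz]; group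
    _ = _ := by rw [r.NC, r.PC]; group

/-- The coroot as a product of root group elements. -/
theorem V_eq (z : Aˣ) :
    r.C (r.V z) = r.N (↑z⁻¹ - 1) * r.P 1 * r.N (↑z - 1) * r.P (-↑z⁻¹) := by
  have h := r.F 1 ((z : A) - 1) z (by ring)
  rw [mul_one, mul_sub, Units.inv_mul, mul_one] at h
  calc r.C (r.V z) = r.N (↑z⁻¹ - 1) * r.N (1 - ↑z⁻¹) * r.C (r.V z) * r.P ↑z⁻¹ * r.P (-↑z⁻¹) := by
        rw [← r.N_add, sub_add_sub_cancel, sub_self, r.N_zero, mul_assoc, ← r.P_add, add_neg_cancel, r.P_zero]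
        group
    _ = _ := by rw [mul_assoc (r.N (↑z⁻¹ - 1)) (r.P 1), h]; group

/-- The element `P x N (-x⁻¹) P x`. -/
def w (x : Aˣ) : H := r.P x * r.N (-↑x⁻¹) * r.P x

theorem w_inv (x : Aˣ) : (r.w x)⁻¹ = r.w (-x) := by
  rw [w, w, mul_inv_rev, mul_inv_rev, ← r.P_neg, ← r.N_neg]
  simp [mul_assoc, inv_neg]

theorem χV (z : Aˣ) : ((r.χ (r.V z) : Aˣ) : A) = z * z := by rw [r.hV]; rfl

theorem χV_inv (z : Aˣ) : (((r.χ (r.V z))⁻¹ : Aˣ) : A) = ↑z⁻¹ * ↑z⁻¹ := by rw [r.hV, mul_inv]; rfl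

theorem w_mul_right (z x : Aˣ) : r.w (z * x) = r.w x * (r.C (r.V z))⁻¹ := by
  have h := r.F (((z : A) - 1) * x) (-↑(z * x)⁻¹) z⁻¹ (by
    rw [mul_inv, Units.val_mul]
    linear_combination (1 - (↑z⁻¹ : A)) * x.mul_inv + (↑x * (↑x⁻¹ : A)) * z.mul_inv)
  calc r.w (z * x) = r.P x * (r.P (((z : A) - 1) * x) * r.N (-↑(z * x)⁻¹)) * r.P ↑(z * x) := by
        rw [← mul_assoc, ← r.P_add, w]
        congr 3
        push_cast
        ring
    _ = r.P x * r.N (-↑x⁻¹) * ((r.C (r.V z))⁻¹ * r.P ((z : A) * z * x)) := by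
        rw [h, inv_inv]
        have e1 : (z : A) * -↑(z * x)⁻¹ = -↑x⁻¹ := by
          rw [mul_inv, Units.val_mul]
          linear_combination -(↑x⁻¹ : A) * z.mul_inv
        rw [e1, map_inv, map_inv, mul_assoc, mul_assoc, ← r.P_add]
        have ep : (z : A) * (((z : A) - 1) * x) + ↑(z * x) = z * z * x := by push_cast; ring
        rw [ep]
        group
    _ = r.w x * (r.C (r.V z))⁻¹ := by
        have e : r.C (r.V z) * r.P x = r.P ((z : A) * z * x) * r.C (r.V z) := by rw [r.CP, r.χV]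
        rw [w, mul_assoc (r.P ↑x * r.N _), eq_mul_inv_iff_mul_eq.mpr e.symm]
        group

theorem w_mul_left (z x : Aˣ) : r.w (z * x) = r.C (r.V z) * r.w x := by
  have h := w_mul_right r z (-x)
  rw [mul_neg, ← r.w_inv, ← r.w_inv] at h
  have := congrArg (·⁻¹) h
  simpa using this

theorem w_conj (x : Aˣ) (t : Tp) :
    r.w x * r.C t * (r.w x)⁻¹ = (r.C (r.V (r.χ t)))⁻¹ * r.C t := by
  have h : r.C t * r.w x = r.w (r.χ t * x) * r.C t := by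
    rw [w, w, Units.val_mul, mul_inv, Units.val_mul, neg_mul_eq_mul_neg]
    calc r.C t * (r.P x * r.N (-↑x⁻¹) * r.P x) = r.C t * r.P x * r.N (-↑x⁻¹) * r.P x := by group
      _ = r.P (↑(r.χ t) * x) * (r.C t * r.N (-↑x⁻¹)) * r.P x := by rw [r.CP]; group
      _ = r.P (↑(r.χ t) * x) * r.N (↑(r.χ t)⁻¹ * -↑x⁻¹) * (r.C t * r.P x) := by rw [r.NC]; group
      _ = _ := by rw [r.CP]; group
  rw [r.w_mul_left, mul_assoc] at h
  have h2 : r.w x * r.C t = (r.C (r.V (r.χ t)))⁻¹ * r.C t * r.w x := by rw [mul_assoc, h]; group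
  rw [h2]
  group

theorem w_sq (x : Aˣ) : r.w x * r.w x = r.C (r.V (-1)) := by
  have h := r.w_mul_left (-1) x
  rw [neg_one_mul, ← r.w_inv] at h
  have h3 : r.C (r.V (-1)) * (r.w x * r.w x) = 1 := by rw [← mul_assoc, ← h, inv_mul_cancel]
  rw [eq_inv_of_mul_eq_one_right h3, ← map_inv, ← map_inv]
  simp

theorem w_mul_w (x y : Aˣ) : r.w x * r.w y = r.C (r.V (-(x * y⁻¹))) := by
  have h : r.w y = r.w x * (r.C (r.V (y * x⁻¹)))⁻¹ := by
    rw [← r.w_mul_right, inv_mul_cancel_right]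
  rw [h, ← mul_assoc, r.w_sq, ← map_inv, ← map_inv, ← map_mul, ← map_mul]
  congr 2
  simp [mul_comm]

/-- Conjugation by `w x` on `P (s x)` when `s` and `1 - s` are units. -/
theorem w_conj_P_unit (x s : Aˣ) (hs : IsUnit (1 - (s : A))) :
    r.w x * r.P (↑s * ↑x) = r.N (-(↑s * ↑x⁻¹)) * r.w x := by
  obtain ⟨a, ha⟩ := hs
  have hx := x.mul_inv
  have hsi := s.mul_inv
  have hai := a.mul_inv
  have h1 := r.G ((1 + (s : A)) * x) (-↑x⁻¹) (-s) (by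
    rw [Units.val_neg]; linear_combination (1 + (s : A)) * hx)
  have h2 := r.G (x : A) (-(↑s * ↑x⁻¹)) a (by rw [ha]; linear_combination (s : A) * hx)
  have h3 := r.G (x : A) (↑a⁻¹ * -(↑s * ↑x⁻¹) + -↑x⁻¹) (-(s * a⁻¹)) (by
    push_cast
    linear_combination ((s : A) * ↑a⁻¹ + 1) * hx)
  calc r.w x * r.P (↑s * ↑x) = r.P x * (r.N (-↑x⁻¹) * r.P ((1 + (s : A)) * x)) := by
        rw [w, mul_assoc, ← r.P_add, mul_assoc]; congr 3; ring
    _ = r.P (x + ↑(-s)⁻¹ * ((1 + (s : A)) * x)) * (r.C (r.V (-s)))⁻¹ * r.N (↑(-s)⁻¹ * -↑x⁻¹) := by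
        rw [h1, r.P_add]; group
    _ = r.P (↑a⁻¹ * x) * (r.C (r.V a))⁻¹ *
          (r.N (↑a⁻¹ * -(↑s * ↑x⁻¹) + -↑x⁻¹) * r.P x) := by
        rw [h3]
        have e : (r.C (r.V a))⁻¹ * r.P (↑(-(s * a⁻¹))⁻¹ * x) =
            r.P (↑a⁻¹ * ↑a⁻¹ * (↑(-(s * a⁻¹))⁻¹ * x)) * (r.C (r.V a))⁻¹ := by
          have := r.CP (r.V a⁻¹) (↑(-(s * a⁻¹))⁻¹ * x)
          rwa [r.χV, map_inv, map_inv] at this
        have eV : (r.C (r.V a))⁻¹ * (r.C (r.V (-(s * a⁻¹))))⁻¹ = (r.C (r.V (-s)))⁻¹ := by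
          rw [← mul_inv_rev, ← map_mul, ← map_mul, ← neg_mul, inv_mul_cancel_right]
        symm
        calc r.P (↑a⁻¹ * x) * (r.C (r.V a))⁻¹ * (r.P (↑(-(s * a⁻¹))⁻¹ * x) * (r.C (r.V (-(s * a⁻¹))))⁻¹ * r.N (↑(-(s * a⁻¹))⁻¹ * (↑a⁻¹ * -(↑s * ↑x⁻¹) + -↑x⁻¹)))
            = r.P (↑a⁻¹ * x) * ((r.C (r.V a))⁻¹ * r.P (↑(-(s * a⁻¹))⁻¹ * x)) * (r.C (r.V (-(s * a⁻¹))))⁻¹ * r.N (↑(-(s * a⁻¹))⁻¹ * (↑a⁻¹ * -(↑s * ↑x⁻¹) + -↑x⁻¹)) := by group
          _ = r.P (↑a⁻¹ * x + ↑a⁻¹ * ↑a⁻¹ * (↑(-(s * a⁻¹))⁻¹ * x)) * ((r.C (r.V a))⁻¹ * (r.C (r.V (-(s * a⁻¹))))⁻¹) * r.N (↑(-(s * a⁻¹))⁻¹ * (↑a⁻¹ * -(↑s * ↑x⁻¹) + -↑x⁻¹)) := by rw [e, r.P_add]; group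
          _ = _ := by
            rw [eV]
            simp only [inv_neg, mul_inv, inv_inv, Units.val_neg, Units.val_mul]
            refine congrArg₂ (· * ·) (congrArg (fun e => r.P e * _) ?_) (congrArg r.N ?_)
            · linear_combination ((x : A) - ↑a⁻¹ * x) * hsi - (↑a⁻¹ * ↑s⁻¹ * x + ↑s⁻¹ * x : A) * hai + (↑a⁻¹ * ↑s⁻¹ * x : A) * ha
            · linear_combination (↑s⁻¹ * ↑x⁻¹ * ↑s : A) * hai + (↑s⁻¹ * ↑x⁻¹ : A) * ha
    _ = r.N (-(↑s * ↑x⁻¹)) * r.w x := by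
        rw [w, r.N_add, ← mul_assoc, ← mul_assoc, ← h2]
        group

end R1

end Groth.Agent.H21Rank1
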