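import Groth.Agent.H21Rank1.Weight

/-!
Monomorphisms from the additive group with the weight of a root.
-/

open CategoryTheory MonoidalCategory CartesianMonoidalCategory MonObj GrpObj AlgebraicGeometry
open Groth.Agent.H27Witt.GaCoord (gaFn_comp gaFn_one gaFn_injective)

universe u

set_option backward.isDefEq.respectTransparency false
set_option linter.unusedSectionVars false
set_option linter.unusedVariables false

namespace Groth.Agent.H21Rank1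

theorem comp_toUnit_comp {S : Scheme.{u}} {X Y Z : Over S} (m : X ⟶ Y) (f : 𝟙_ (Over S) ⟶ Z) :
    m ≫ toUnit Y ≫ f = toUnit X ≫ f := by
  rw [← Category.assoc, toUnit_unique (m ≫ toUnit Y) (toUnit X)]

/-- A function vanishing in the residue field at no point is a unit. -/
theorem isUnit_of_residue_ne_zero (X : Scheme.{u}) (f : Γ(X, ⊤))
    (h : ∀ x : X, (X.fromSpecResidueField x).appTop f ≠ 0) : IsUnit f := by
  refine X.toRingedSpace.isUnit_of_isUnit_germ ⊤ f fun x hx => ?_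
  by_contra hu
  refine h x ?_
  have hr : X.residue x (X.presheaf.germ ⊤ x trivial f) = 0 :=
    (IsLocalRing.residue_eq_zero_iff _).mpr ((IsLocalRing.mem_maximalIdeal _).mpr hu)
  have e : (X.fromSpecResidueField x).appTop f =
      (Scheme.ΓSpecIso (X.residueField x)).inv (X.residue x (X.presheaf.germ ⊤ x trivial f)) := by
    have h2 : (X.fromSpecResidueField x).appTop =
        X.presheaf.germ ⊤ x trivial ≫ X.residue x ≫ (Scheme.ΓSpecIso (X.residueField x)).inv := by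
      rw [Scheme.fromSpecResidueField, Scheme.Hom.comp_appTop, Scheme.fromSpecStalk_appTop,
        Scheme.ΓSpecIso_inv_naturality]
      simp
    rw [h2]
    rfl
  rw [e, hr]
  exact map_zero (Scheme.ΓSpecIso (X.residueField x)).inv.hom

variable {S : Scheme.{u}} {G T : Over S} [GrpObj G] [GrpObj T] {i : T ⟶ G} [IsMonHom i]
    {α : T ⟶ Red.Gm S} [IsMonHom α] {pp pm : Red.Ga S ⟶ G} [IsMonHom pp] [IsMonHom pm]
    (hpp : ∀ (X : Over S) (t : X ⟶ T) (x : X ⟶ Red.Ga S), ∃ x' : X ⟶ Red.Ga S,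
      x' ≫ pp = (t ≫ i) * (x ≫ pp) * (t ≫ i)⁻¹ ∧ Red.gaFn x' = Red.gmFn (t ≫ α) * Red.gaFn x)
    (hpm : ∀ (X : Over S) (t : X ⟶ T) (y : X ⟶ Red.Ga S), ∃ y' : X ⟶ Red.Ga S,
      y' ≫ pm = (t ≫ i) * (y ≫ pm) * (t ≫ i)⁻¹ ∧ Red.gaFn y' * Red.gmFn (t ≫ α) = Red.gaFn y)
    (hΩ : IsOpenImmersion (((pm ⊗ₘ i) ⊗ₘ pp) ≫ (μ[G] ▷ G) ≫ μ[G]).left)

include hpp hpm hΩ in
theorem existsUnique_unit (hT : Red.IsTorus T) (hα : ∀ s : S, (Over.pullback (Red.geomPt s)).map α ≠ 1)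
    (p : Red.Ga S ⟶ G) [IsMonHom p] [Mono p]
    (hp : ∀ (X : Over S) (t : X ⟶ T) (x : X ⟶ Red.Ga S), ∃ x' : X ⟶ Red.Ga S,
      x' ≫ p = (t ≫ i) * (x ≫ p) * (t ≫ i)⁻¹ ∧ Red.gaFn x' = Red.gmFn (t ≫ α) * Red.gaFn x) :
    ∃! c : 𝟙_ (Over S) ⟶ Red.Gm S, ∀ (X : Over S) (x y : X ⟶ Red.Ga S),
      Red.gaFn y = Red.gmFn (toUnit X ≫ c) * Red.gaFn x → x ≫ p = y ≫ pp := by
  have hp1 : ∀ (X : Over S) (t : X ⟶ T) (x x' : X ⟶ Red.Ga S), Red.gaFn x' = Red.gmFn (t ≫ 𝟙 T ≫ α) * Red.gaFn x →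
      x' ≫ p = ((t ≫ 𝟙 T ≫ i) ^ 1) * (x ≫ p) * ((t ≫ 𝟙 T ≫ i) ^ 1)⁻¹ := by
    intro X t x x' h
    rw [Category.id_comp] at h
    rw [Category.id_comp, pow_one]
    obtain ⟨x'', h1, h2⟩ := hp X t x
    rw [gaFn_injective (h.trans h2.symm)]
    exact h1
  have hα1 : ∀ s : S, (Over.pullback (Red.geomPt s)).map (𝟙 T ≫ α) ≠ 1 := by
    intro s; rw [Category.id_comp]; exact hα s
  obtain ⟨ν, hν, hν'⟩ := existsUnique_weight hpp hpm hΩ hT hT hα1 1 p hp1 (gaPt 1) (gaFn_gaPt _)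
  have hu : IsUnit (Red.gaFn ν) := by
    refine isUnit_of_residue_ne_zero _ _ fun s h0 => ?_
    let X : Over S := Over.mk ((𝟙_ (Over S)).left.fromSpecResidueField s ≫ (𝟙_ (Over S)).hom)
    let m : X ⟶ 𝟙_ (Over S) := Over.homMk ((𝟙_ (Over S)).left.fromSpecResidueField s) rfl
    have hm : Red.gaFn (toUnit X ≫ ν) = 0 := by
      rw [toUnit_unique (toUnit X) m, gaFn_comp]; exact h0
    have e1 := hν X (gaPt 1) (gaPt 0) (by rw [gaFn_gaPt, hm, zero_mul])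
    have e0 := hν X (gaPt 0) (gaPt 0) (by rw [gaFn_gaPt, hm, zero_mul])
    have e := (cancel_mono p).mp (e1.trans e0.symm)
    have h10 : (1 : Γ(X.left, ⊤)) = 0 := by rw [← gaFn_gaPt (X := X) 1, e, gaFn_gaPt]
    have : Nontrivial Γ(X.left, ⊤) :=
      (Scheme.ΓSpecIso ((𝟙_ (Over S)).left.residueField s)).commRingCatIsoToRingEquiv.toEquiv.nontrivial
    exact one_ne_zero h10
  have key : ∀ c : 𝟙_ (Over S) ⟶ Red.Gm S, Red.gmFn c = Red.gaFn ν → ∀ (X : Over S),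
      Red.gmFn (toUnit X ≫ c) = Red.gaFn (toUnit X ≫ ν) := fun c hc X => by
    rw [gmFn_comp, gaFn_comp, hc]
  refine ⟨gmPt hu.unit, fun X x y hy => hν X x y (by rw [hy, key _ (gmFn_gmPt _), pow_one]), fun c hc => ?_⟩
  refine eq_gmPt ?_
  obtain ⟨v, hv⟩ := H27Witt.GaCoord.gaFn_surjective (X := 𝟙_ (Over S)) (Red.gmFn c)
  rw [← hv]
  refine congrArg Red.gaFn (hν' v fun X x y hy => hc X x y ?_)
  rw [hy, pow_one, gaFn_comp, hv, gmFn_comp]

end Groth.Agent.H21Rank1
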