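import Groth.Agent.H21Rank1.CellExt
import Groth.Agent.H21Rank1.RootMono

/-!
Constructing homomorphisms out of a group of semisimple rank one from the cell.
-/

open CategoryTheory MonoidalCategory CartesianMonoidalCategory MonObj GrpObj AlgebraicGeometry
open Groth.Agent.H27Witt.GaCoord (gaFn_comp gaFn_one gaFn_injective)

universe u

set_option backward.isDefEq.respectTransparency false
set_option linter.unusedSectionVars false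
set_option linter.unusedVariables false

namespace Groth.Agent.H21Rank1

namespace R1

variable {H A Tp : Type*} [Group H] [CommRing A] [Group Tp] (r : R1 H A Tp)

/-- The element `w x` is not in the cell. -/
theorem not_mem_cell (hi : r.CellInj) (hcomm : ∀ s t : Tp, s * t = t * s) (x z : Aˣ)
    (hz : (z * z) * (z * z) ≠ 1) (a b : A) (s : Tp) :
    r.P ↑x * r.N (-↑x⁻¹) ≠ r.N a * r.C s * r.P b := by
  intro h
  have hw : r.w x = r.N a * r.C s * r.P (b + x) := by rw [w, h, r.P_add]; group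
  have h1 := r.w_conj x (r.V z)
  rw [r.hV, map_mul r.V, map_mul, _root_.mul_inv_rev, inv_mul_cancel_right] at h1
  have h2 : r.C (r.V z) * r.w x * r.C (r.V z) = r.w x := by
    have h1' := mul_inv_eq_iff_eq_mul.mp h1
    rw [_root_.mul_assoc, h1', mul_inv_cancel_left]
  rw [hw] at h2
  have h3 : r.C (r.V z) * (r.N a * r.C s * r.P (b + x)) * r.C (r.V z) =
      r.N (↑(r.χ (r.V z))⁻¹ * a) * r.C (r.V z * s * r.V z) * r.P (↑(r.χ (r.V z))⁻¹ * (b + x)) := by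
    calc r.C (r.V z) * (r.N a * r.C s * r.P (b + x)) * r.C (r.V z)
        = (r.C (r.V z) * r.N a) * r.C s * (r.P (b + x) * r.C (r.V z)) := by group
      _ = _ := by rw [r.NC, r.PC, map_mul, map_mul]; group
  rw [h3] at h2
  obtain ⟨-, ht, -⟩ := hi _ _ _ _ _ _ h2
  have ht' : r.V z * r.V z = 1 := by
    rw [hcomm (r.V z) s, _root_.mul_assoc] at ht
    exact mul_eq_left.mp ht
  have h4 := congrArg r.χ ht'
  rw [map_mul, r.hV, map_one] at h4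
  exact hz h4

/-- If a product of two cell elements lies in the cell then the parameter is non-zero. -/
theorem ne_zero_of_mem_cell (hA : ∀ a : A, a = 0 ∨ IsUnit a) (h01 : (0 : A) ≠ 1) (hi : r.CellInj)
    (hcomm : ∀ s t : Tp, s * t = t * s) (z : Aˣ)
    (hz : (z * z) * (z * z) ≠ 1) {y x y' x' y₂ x₂ : A} {t t' t₂ : Tp}
    (h : (r.N y * r.C t * r.P x) * (r.N y' * r.C t' * r.P x') = r.N y₂ * r.C t₂ * r.P x₂) : 1 + x * y' ≠ 0 := by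
  intro h0
  obtain ⟨u, rfl⟩ : ∃ u : Aˣ, (u : A) = x := by
    rcases hA x with rfl | hx
    · exact absurd (by linear_combination -h0) h01
    · exact hx
  have hy : y' = -↑u⁻¹ := by linear_combination (↑u⁻¹ : A) * h0 - y' * u.inv_mul
  subst hy
  refine not_mem_cell r hi hcomm u z hz (↑(r.χ t⁻¹)⁻¹ * (-y + y₂)) (↑(r.χ t'⁻¹)⁻¹ * (x₂ + -x'))
    (t⁻¹ * t₂ * t'⁻¹) ?_
  have e : r.P ↑u * r.N (-↑u⁻¹) =
      (r.C t)⁻¹ * r.N (-y) * r.N y₂ * r.C t₂ * r.P x₂ * r.P (-x') * (r.C t')⁻¹ := by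
    calc r.P ↑u * r.N (-↑u⁻¹) = (r.C t)⁻¹ * (r.N y)⁻¹ * ((r.N y * r.C t * r.P ↑u) * (r.N (-↑u⁻¹) * r.C t' * r.P x')) *
          (r.P x')⁻¹ * (r.C t')⁻¹ := by group
      _ = _ := by rw [h, r.N_neg, r.P_neg]; group
  rw [e, map_mul, map_mul]
  calc (r.C t)⁻¹ * r.N (-y) * r.N y₂ * r.C t₂ * r.P x₂ * r.P (-x') * (r.C t')⁻¹
      = (r.C t⁻¹ * r.N (-y + y₂)) * r.C t₂ * (r.P (x₂ + -x') * r.C t'⁻¹) := by
        rw [r.N_add, r.P_add, map_inv, map_inv]; group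
    _ = _ := by rw [r.NC, r.PC]; simp only [map_inv, _root_.inv_inv]; group

end R1

variable {S : Scheme.{u}} {G T : Over S} [GrpObj G] [GrpObj T] {i : T ⟶ G} [IsMonHom i]
    {α : T ⟶ Red.Gm S} [IsMonHom α] {pp pm : Red.Ga S ⟶ G} [IsMonHom pp] [IsMonHom pm]
variable (hpp : ∀ (X : Over S) (t : X ⟶ T) (x : X ⟶ Red.Ga S), ∃ x' : X ⟶ Red.Ga S,
      x' ≫ pp = (t ≫ i) * (x ≫ pp) * (t ≫ i)⁻¹ ∧ Red.gaFn x' = Red.gmFn (t ≫ α) * Red.gaFn x)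
    (hpm : ∀ (X : Over S) (t : X ⟶ T) (y : X ⟶ Red.Ga S), ∃ y' : X ⟶ Red.Ga S,
      y' ≫ pm = (t ≫ i) * (y ≫ pm) * (t ≫ i)⁻¹ ∧ Red.gaFn y' * Red.gmFn (t ≫ α) = Red.gaFn y)
    {av : Red.Gm S ⟶ T} [IsMonHom av] (h2 : av ≫ α = (𝟙 (Red.Gm S)) ^ 2)
    (hF : ∀ (X : Over S) (x y : X ⟶ Red.Ga S), IsUnit (1 + Red.gaFn x * Red.gaFn y) →
      ∃ (x' y' : X ⟶ Red.Ga S) (z : X ⟶ Red.Gm S), Red.gmFn z = 1 + Red.gaFn x * Red.gaFn y ∧
        Red.gaFn x' * Red.gmFn z = Red.gaFn x ∧ Red.gaFn y' * Red.gmFn z = Red.gaFn y ∧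
        (x ≫ pp) * (y ≫ pm) = (y' ≫ pm) * (z ≫ av ≫ i) * (x' ≫ pp))
    (hΩ : IsOpenImmersion (((pm ⊗ₘ i) ⊗ₘ pp) ≫ (μ[G] ▷ G) ≫ μ[G]).left)
    (hG : Red.IsReductive G) (hT : Red.IsTorus T)

include hpp hpm h2 hF hΩ hT in
theorem isUnit_of_cell_mul {X : Over S} (a b c : X ⟶ (Red.Ga S ⊗ T) ⊗ Red.Ga S)
    (h : (a ≫ ((pm ⊗ₘ i) ⊗ₘ pp) ≫ (μ[G] ▷ G) ≫ μ[G]) * (b ≫ ((pm ⊗ₘ i) ⊗ₘ pp) ≫ (μ[G] ▷ G) ≫ μ[G]) =
      c ≫ ((pm ⊗ₘ i) ⊗ₘ pp) ≫ (μ[G] ▷ G) ≫ μ[G]) :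
    IsUnit (1 + Red.gaFn (a ≫ snd _ _) * Red.gaFn (b ≫ fst _ _ ≫ fst _ _)) := by
  refine isUnit_of_residue_ne_zero _ _ fun p h0 => ?_
  let L := AlgebraicClosure (X.left.residueField p)
  let g : Spec (CommRingCat.of L) ⟶ X.left :=
    Spec.map (CommRingCat.ofHom (algebraMap (X.left.residueField p) L)) ≫ X.left.fromSpecResidueField p
  let Z : Over S := Over.mk (g ≫ X.hom)
  let m : Z ⟶ X := Over.homMk g rfl
  obtain ⟨z, hz⟩ := exists_root_unit (R := Z.left) (Scheme.ΓSpecIso (CommRingCat.of L)) 1 one_ne_zero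
  rw [zpow_one] at hz
  have : Nontrivial Γ(Z.left, ⊤) := (Scheme.ΓSpecIso (CommRingCat.of L)).commRingCatIsoToRingEquiv.toEquiv.nontrivial
  have hm : 1 + Red.gaFn (m ≫ a ≫ snd _ _) * Red.gaFn (m ≫ b ≫ fst _ _ ≫ fst _ _) = 0 := by
    rw [gaFn_comp m, gaFn_comp m]
    have e : m.left.appTop.hom (1 + Red.gaFn (a ≫ snd _ _) * Red.gaFn (b ≫ fst _ _ ≫ fst _ _)) = 0 := by
      change (Spec.map _).appTop ((X.left.fromSpecResidueField p).appTop _) = 0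
      rw [h0]
      exact map_zero _
    rw [map_add, map_one, map_mul] at e
    exact e
  have h' := congrArg (m ≫ ·) h
  simp only [cell_point_surjective, MonObj.comp_mul] at h'
  simp only [← Category.assoc] at h'
  refine R1.ne_zero_of_mem_cell (data G T i α pp pm hpp hpm av h2 hF Z)
    (field_zero_or_unit (R := Z.left) (Scheme.ΓSpecIso (CommRingCat.of L))) zero_ne_one
    (cell_inj hpp hpm hΩ h2 hF) (isTorus_comm hT) z hz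
    (y := Red.gaFn (m ≫ a ≫ fst _ _ ≫ fst _ _)) (x := Red.gaFn (m ≫ a ≫ snd _ _))
    (y' := Red.gaFn (m ≫ b ≫ fst _ _ ≫ fst _ _)) (x' := Red.gaFn (m ≫ b ≫ snd _ _))
    (y₂ := Red.gaFn (m ≫ c ≫ fst _ _ ≫ fst _ _)) (x₂ := Red.gaFn (m ≫ c ≫ snd _ _))
    (t := m ≫ a ≫ fst _ _ ≫ snd _ _) (t' := m ≫ b ≫ fst _ _ ≫ snd _ _) (t₂ := m ≫ c ≫ fst _ _ ≫ snd _ _) ?_ hm
  simp only [data_N (x := m ≫ a ≫ fst _ _ ≫ fst _ _) rfl, data_N (x := m ≫ b ≫ fst _ _ ≫ fst _ _) rfl,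
    data_N (x := m ≫ c ≫ fst _ _ ≫ fst _ _) rfl, data_P (x := m ≫ a ≫ snd _ _) rfl,
    data_P (x := m ≫ b ≫ snd _ _) rfl, data_P (x := m ≫ c ≫ snd _ _) rfl, data_C]
  simp only [← Category.assoc]
  exact h'

include hΩ hG hT in
/-- The cell domain is quasi-compact and the group quasi-separated over the base. -/
theorem cell_qc : QuasiCompact ((Red.Ga S ⊗ T) ⊗ Red.Ga S).hom ∧ QuasiSeparated G.hom := by
  have := H21Diag.isAffineHom_of_multTypeFT (H21Diag.isMultTypeFT_of_isTorus hT)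
  have : IsAffineHom (Red.Ga S).hom := by
    change IsAffineHom (Limits.pullback.snd Red.GaZ.hom (specULiftZIsTerminal.from S))
    exact MorphismProperty.pullback_snd (P := @IsAffineHom) _ _ (@isAffineHom_of_isAffine _ _ _ (inferInstanceAs (IsAffine (Spec _))) _)
  have := hG.1
  refine ⟨?_, inferInstance⟩
  change QuasiCompact (Limits.pullback.fst (Limits.pullback.fst (Red.Ga S).hom T.hom ≫ (Red.Ga S).hom) (Red.Ga S).hom ≫
    Limits.pullback.fst (Red.Ga S).hom T.hom ≫ (Red.Ga S).hom)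
  infer_instance

variable {H : Over S} [GrpObj H] {fT : T ⟶ H} [IsMonHom fT] {fP fN : Red.Ga S ⟶ H} [IsMonHom fP] [IsMonHom fN]
    (hP : ∀ (X : Over S) (t : X ⟶ T) (x : X ⟶ Red.Ga S), ∃ x' : X ⟶ Red.Ga S,
      x' ≫ fP = (t ≫ fT) * (x ≫ fP) * (t ≫ fT)⁻¹ ∧ Red.gaFn x' = Red.gmFn (t ≫ α) * Red.gaFn x)
    (hN : ∀ (X : Over S) (t : X ⟶ T) (y : X ⟶ Red.Ga S), ∃ y' : X ⟶ Red.Ga S,
      y' ≫ fN = (t ≫ fT) * (y ≫ fN) * (t ≫ fT)⁻¹ ∧ Red.gaFn y' * Red.gmFn (t ≫ α) = Red.gaFn y)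
    (hR : ∀ (X : Over S) (x y : X ⟶ Red.Ga S), IsUnit (1 + Red.gaFn x * Red.gaFn y) →
      ∃ (x' y' : X ⟶ Red.Ga S) (z : X ⟶ Red.Gm S), Red.gmFn z = 1 + Red.gaFn x * Red.gaFn y ∧
        Red.gaFn x' * Red.gmFn z = Red.gaFn x ∧ Red.gaFn y' * Red.gmFn z = Red.gaFn y ∧
        (x ≫ fP) * (y ≫ fN) = (y' ≫ fN) * (z ≫ av ≫ fT) * (x' ≫ fP))

include hpp hpm h2 hF hΩ hG hT in
/-- Homomorphisms out of a rank-one group agreeing on the torus and the two root groups are equal. -/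
theorem hom_ext (F F' : G ⟶ H) [IsMonHom F] [IsMonHom F'] (hi : i ≫ F = i ≫ F') (hp : pp ≫ F = pp ≫ F')
    (hm : pm ≫ F = pm ≫ F') : F = F' := by
  have := hΩ
  have := geometricallyIrreducible_of_isReductive hG
  have := hG.2.1
  refine hom_ext_of_cell (((pm ⊗ₘ i) ⊗ₘ pp) ≫ (μ[G] ▷ G) ≫ μ[G]) (eta_mem_cell hΩ) F F' ?_
  rw [show ((pm ⊗ₘ i) ⊗ₘ pp) ≫ (μ[G] ▷ G) ≫ μ[G] = 𝟙 _ ≫ ((pm ⊗ₘ i) ⊗ₘ pp) ≫ (μ[G] ▷ G) ≫ μ[G] from
      (Category.id_comp _).symm, cell_point_surjective, MonObj.mul_comp, MonObj.mul_comp, MonObj.mul_comp,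
    MonObj.mul_comp]
  simp only [Category.assoc, hi, hp, hm]

include hpp hpm h2 hF hΩ hG hT hP hN hR in
/-- The universal property of a rank-one group. -/
theorem exists_hom : ∃! F : G ⟶ H, IsMonHom F ∧ i ≫ F = fT ∧ pp ≫ F = fP ∧ pm ≫ F = fN := by
  have := hΩ
  have := geometricallyIrreducible_of_isReductive hG
  have := hG.2.1
  obtain ⟨hq1, hq2⟩ := cell_qc hΩ hG hT
  let ω := ((pm ⊗ₘ i) ⊗ₘ pp) ≫ (μ[G] ▷ G) ≫ μ[G]
  let φ := ((fN ⊗ₘ fT) ⊗ₘ fP) ≫ (μ[H] ▷ H) ≫ μ[H]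
  have hmul : ∀ (X : Over S) (a b c : X ⟶ (Red.Ga S ⊗ T) ⊗ Red.Ga S),
      (a ≫ ω) * (b ≫ ω) = c ≫ ω → (a ≫ φ) * (b ≫ φ) = c ≫ φ := by
    intro X a b c h
    have hu := isUnit_of_cell_mul hpp hpm h2 hF hΩ hT a b c h
    let r := data G T i α pp pm hpp hpm av h2 hF X
    let r' := data H T fT α fP fN hP hN av h2 hR X
    have hG' := r.cell_mul (Red.gaFn (a ≫ fst _ _ ≫ fst _ _)) (Red.gaFn (a ≫ snd _ _))
      (Red.gaFn (b ≫ fst _ _ ≫ fst _ _)) (Red.gaFn (b ≫ snd _ _))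
      (a ≫ fst _ _ ≫ snd _ _) (b ≫ fst _ _ ≫ snd _ _) hu.unit rfl
    have hH' := r'.cell_mul (Red.gaFn (a ≫ fst _ _ ≫ fst _ _)) (Red.gaFn (a ≫ snd _ _))
      (Red.gaFn (b ≫ fst _ _ ≫ fst _ _)) (Red.gaFn (b ≫ snd _ _))
      (a ≫ fst _ _ ≫ snd _ _) (b ≫ fst _ _ ≫ snd _ _) hu.unit rfl
    rw [data_N (x := a ≫ fst _ _ ≫ fst _ _) rfl, data_N (x := b ≫ fst _ _ ≫ fst _ _) rfl,
      data_P (x := a ≫ snd _ _) rfl, data_P (x := b ≫ snd _ _) rfl, data_C, data_C, ← cell_point_surjective,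
      ← cell_point_surjective] at hG' hH'
    rw [h, cell_point_surjective, ← data_N (x := c ≫ fst _ _ ≫ fst _ _) (hpp := hpp) (hpm := hpm) (h2 := h2) (hF := hF) rfl,
      ← data_P (x := c ≫ snd _ _) (hpp := hpp) (hpm := hpm) (h2 := h2) (hF := hF) rfl,
      ← data_C (hpp := hpp) (hpm := hpm) (h2 := h2) (hF := hF) (c ≫ fst _ _ ≫ snd _ _)] at hG'
    obtain ⟨e1, e2, e3⟩ := cell_inj hpp hpm hΩ h2 hF _ _ _ _ _ _ hG'
    rw [hH']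
    rw [show c ≫ φ = r'.N (Red.gaFn (c ≫ fst _ _ ≫ fst _ _)) * r'.C (c ≫ fst _ _ ≫ snd _ _) * r'.P (Red.gaFn (c ≫ snd _ _)) by
      rw [data_N (x := c ≫ fst _ _ ≫ fst _ _) rfl, data_P (x := c ≫ snd _ _) rfl, data_C, ← cell_point_surjective],
      e1, e2, e3]
    rfl
  obtain ⟨F, ⟨hFm, hFω⟩, huniq⟩ := exists_extend ω φ (eta_mem_cell hΩ) hmul
  have key : ∀ {X : Over S} (y x : X ⟶ Red.Ga S) (t : X ⟶ T),
      ((y ≫ pm) * (t ≫ i) * (x ≫ pp)) ≫ F = (y ≫ fN) * (t ≫ fT) * (x ≫ fP) := fun y x t => by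
    rw [← lift_cell, Category.assoc, hFω, lift_cell]
  refine ⟨F, ⟨hFm, ?_, ?_, ?_⟩, ?_⟩
  · have h := key (X := T) 1 1 (𝟙 T)
    simpa [MonObj.one_comp] using h
  · have h := key (X := Red.Ga S) 1 (𝟙 _) 1
    simpa [MonObj.one_comp] using h
  · have h := key (X := Red.Ga S) (𝟙 _) 1 1
    simpa [MonObj.one_comp] using h
  · rintro F' ⟨hF'm, h1, h3, h4⟩
    refine huniq F' ⟨hF'm, ?_⟩
    have e := cell_point_surjective (pp := pp) (pm := pm) (i := i) (𝟙 ((Red.Ga S ⊗ T) ⊗ Red.Ga S))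
    have e' := cell_point_surjective (pp := fP) (pm := fN) (i := fT) (𝟙 ((Red.Ga S ⊗ T) ⊗ Red.Ga S))
    refine ((congrArg (· ≫ F') ((Category.id_comp ω).symm.trans e)).trans ?_).trans (e'.symm.trans (Category.id_comp φ))
    rw [MonObj.mul_comp, MonObj.mul_comp]
    simp only [Category.assoc, h1, h3, h4]

end Groth.Agent.H21Rank1
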