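import Groth.Agent.H21Rank1.CellPts

/-!
The centralizer of a power of the coroot in a group of semisimple rank one.
-/

open CategoryTheory MonoidalCategory CartesianMonoidalCategory MonObj GrpObj AlgebraicGeometry
open Polynomial (eval₂)

universe u

set_option backward.isDefEq.respectTransparency false
set_option linter.unusedSectionVars false
set_option linter.unusedVariables false

namespace Groth.Agent.H21Rank1

/-- A polynomial whose roots `c` are units with `c ^ N - 1` a unit. -/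
noncomputable def rootPoly (N : ℕ) : Polynomial ℤ := Polynomial.X * (Polynomial.X ^ N - 1) - 1

theorem rootPoly_eq (N : ℕ) : rootPoly N = Polynomial.X ^ (N + 1) - (Polynomial.X + 1) := by
  unfold rootPoly; ring

theorem rootPoly_monic {N : ℕ} (hN : 0 < N) : (rootPoly N).Monic := by
  rw [rootPoly_eq]
  refine Polynomial.monic_X_pow_sub (lt_of_le_of_lt (Polynomial.degree_add_le _ _) ?_)
  rw [Polynomial.degree_X, Polynomial.degree_one]
  rw [max_eq_left zero_le_one]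
  exact_mod_cast (show 1 < N + 1 by omega)

theorem rootPoly_natDegree {N : ℕ} (hN : 0 < N) : (rootPoly N).natDegree ≠ 0 := by
  rw [rootPoly_eq, Polynomial.natDegree_sub_eq_left_of_natDegree_lt]
  · simp
  · refine lt_of_le_of_lt (Polynomial.natDegree_add_le _ _) ?_
    simp [hN]

theorem exists_unit_of_root {A : Type*} [CommRing A] (n : ℤ) {c : A}
    (hc : eval₂ (Int.castRingHom A) c (rootPoly (4 * n.natAbs)) = 0) :
    ∃ z : Aˣ, IsUnit ((((z * z) ^ n : Aˣ) : A) - 1) ∧ IsUnit ((((z * z) ^ n * (z * z) ^ n : Aˣ) : A) - 1) := by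
  have h : c * (c ^ (4 * n.natAbs) - 1) = 1 := by
    simp only [rootPoly, Polynomial.eval₂_sub, Polynomial.eval₂_mul, Polynomial.eval₂_X, Polynomial.eval₂_X_pow,
      Polynomial.eval₂_one] at hc
    linear_combination hc
  have hu : IsUnit c := .of_mul_eq_one _ h
  have h4 : IsUnit (c ^ (4 * n.natAbs) - 1) := .of_mul_eq_one _ ((_root_.mul_comm _ _).trans h)
  obtain ⟨z, rfl⟩ := hu
  refine ⟨z, ?_⟩
  have hinv : ∀ u : Aˣ, IsUnit ((u : A) - 1) → IsUnit (((u⁻¹ : Aˣ) : A) - 1) := fun u hu => by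
    have e : ((u⁻¹ : Aˣ) : A) - 1 = -(↑u⁻¹ : A) * (↑u - 1) := by linear_combination u.inv_mul
    rw [e]; exact (u⁻¹).isUnit.neg.mul hu
  have hsq : IsUnit ((((z * z) ^ n.natAbs * (z * z) ^ n.natAbs : Aˣ) : A) - 1) := by
    have e : (((z * z) ^ n.natAbs * (z * z) ^ n.natAbs : Aˣ) : A) = (z : A) ^ (4 * n.natAbs) := by
      push_cast; ring
    rw [e]; exact h4
  have h2 : IsUnit ((((z * z) ^ n.natAbs : Aˣ) : A) - 1) := by
    refine isUnit_of_dvd_unit ⟨(((z * z) ^ n.natAbs : Aˣ) : A) + 1, ?_⟩ hsq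
    push_cast; ring
  rcases Int.natAbs_eq n with e | e
  · rw [e, zpow_natCast]; exact ⟨h2, hsq⟩
  · rw [e, zpow_neg, zpow_natCast]
    refine ⟨hinv _ h2, ?_⟩
    rw [← _root_.mul_inv_rev]; exact hinv _ hsq

theorem field_zero_or_unit {R : Scheme.{u}} {L : Type u} [Field L] (e : Γ(R, ⊤) ≅ CommRingCat.of L) (v : Γ(R, ⊤)) :
    v = 0 ∨ IsUnit v := by
  rcases eq_or_ne (e.commRingCatIsoToRingEquiv v) 0 with h | h
  · exact .inl (e.commRingCatIsoToRingEquiv.injective (h.trans (map_zero _).symm))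
  · exact .inr ((MulEquiv.isUnit_map e.commRingCatIsoToRingEquiv).mp (isUnit_iff_ne_zero.mpr h))

theorem specMap_fromResidueField_apply {Y : Scheme.{u}} (q : Y) {L : Type u} [Field L]
    (φ : Y.residueField q →+* L) (pt : Spec (CommRingCat.of L)) :
    (Spec.map (CommRingCat.ofHom φ) ≫ Y.fromSpecResidueField q) pt = q := by
  rw [Scheme.Hom.comp_apply]
  exact Scheme.fromSpecResidueField_apply _ _

theorem exists_root_unit {R : Scheme.{u}} {L : Type u} [Field L] [IsAlgClosed L] (e : Γ(R, ⊤) ≅ CommRingCat.of L)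
    (n : ℤ) (hn : n ≠ 0) : ∃ z : (Γ(R, ⊤) : Type u)ˣ, (z * z) ^ n * (z * z) ^ n ≠ 1 := by
  have hm := (rootPoly_monic (N := 4 * n.natAbs) (by omega)).map (Int.castRingHom L)
  obtain ⟨c, hc⟩ := IsAlgClosed.exists_root ((rootPoly (4 * n.natAbs)).map (Int.castRingHom L)) (by
    rw [Polynomial.degree_eq_natDegree hm.ne_zero, (rootPoly_monic (by omega)).natDegree_map]
    exact_mod_cast rootPoly_natDegree (by omega))
  rw [Polynomial.IsRoot.def, Polynomial.eval_map] at hc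
  have h := congrArg e.inv.hom hc
  rw [Polynomial.hom_eval₂, map_zero, RingHom.ext_int (e.inv.hom.comp (Int.castRingHom L)) (Int.castRingHom _)] at h
  obtain ⟨z, -, hz2⟩ := exists_unit_of_root n h
  have : Nontrivial Γ(R, ⊤) := e.commRingCatIsoToRingEquiv.toEquiv.nontrivial
  refine ⟨z, fun h1 => not_isUnit_zero (M₀ := Γ(R, ⊤)) ?_⟩
  rw [h1, Units.val_one, sub_self] at hz2
  exact hz2

variable {S : Scheme.{u}} {G T : Over S} [GrpObj G] [GrpObj T] {i : T ⟶ G} [IsMonHom i]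
    {α : T ⟶ Red.Gm S} [IsMonHom α] {pp pm : Red.Ga S ⟶ G} [IsMonHom pp] [IsMonHom pm]
variable (hT : Red.IsTorus T) (hG : Red.IsReductive G)
    (hpp : ∀ (X : Over S) (t : X ⟶ T) (x : X ⟶ Red.Ga S), ∃ x' : X ⟶ Red.Ga S,
      x' ≫ pp = (t ≫ i) * (x ≫ pp) * (t ≫ i)⁻¹ ∧ Red.gaFn x' = Red.gmFn (t ≫ α) * Red.gaFn x)
    (hpm : ∀ (X : Over S) (t : X ⟶ T) (y : X ⟶ Red.Ga S), ∃ y' : X ⟶ Red.Ga S,
      y' ≫ pm = (t ≫ i) * (y ≫ pm) * (t ≫ i)⁻¹ ∧ Red.gaFn y' * Red.gmFn (t ≫ α) = Red.gaFn y)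
    (hΩ : IsOpenImmersion (((pm ⊗ₘ i) ⊗ₘ pp) ≫ (μ[G] ▷ G) ≫ μ[G]).left)
    {av : Red.Gm S ⟶ T} [IsMonHom av] (h2 : av ≫ α = (𝟙 (Red.Gm S)) ^ 2)
    (hF : ∀ (X : Over S) (x y : X ⟶ Red.Ga S), IsUnit (1 + Red.gaFn x * Red.gaFn y) →
      ∃ (x' y' : X ⟶ Red.Ga S) (z : X ⟶ Red.Gm S), Red.gmFn z = 1 + Red.gaFn x * Red.gaFn y ∧
        Red.gaFn x' * Red.gmFn z = Red.gaFn x ∧ Red.gaFn y' * Red.gmFn z = Red.gaFn y ∧
        (x ≫ pp) * (y ≫ pm) = (y' ≫ pm) * (z ≫ av ≫ i) * (x' ≫ pp))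
    (n : ℤ) (hn : n ≠ 0)

theorem data_pow (Y : Over S) (z : Y ⟶ Red.Gm S) :
    (data G T i α pp pm hpp hpm av h2 hF Y).C ((data G T i α pp pm hpp hpm av h2 hF Y).V (gmU z) ^ n) =
      ((z ≫ av) ^ n) ≫ i := by
  have e : (data G T i α pp pm hpp hpm av h2 hF Y).V (gmU z) = z ≫ av := congrArg (· ≫ av) (gmPt_gmU z)
  rw [e]
  rfl

include hT hG hpp hpm hΩ h2 hF hn

/-- A point commuting with a power of the coroot lies in the cell. -/
theorem range_subset_cell {X : Over S} (g : X ⟶ G)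
    (hg : ∀ (X' : Over S) (y : X' ⟶ X) (z : X' ⟶ Red.Gm S),
      (y ≫ g) * (((z ≫ av) ^ n) ≫ i) = (((z ≫ av) ^ n) ≫ i) * (y ≫ g)) :
    Set.range g.left ⊆ Set.range (((pm ⊗ₘ i) ⊗ₘ pp) ≫ (μ[G] ▷ G) ≫ μ[G]).left := by
  let ω := ((pm ⊗ₘ i) ⊗ₘ pp) ≫ (μ[G] ▷ G) ≫ μ[G]
  have := hΩ
  have := geometricallyIrreducible_of_isReductive hG
  have := hG.2.1
  obtain ⟨Y', p, a, b, hpf, hps, ha, hb, hab⟩ :=
    exists_split ω.left.opensRange (eta_mem_cell hΩ) g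
  rintro _ ⟨x, rfl⟩
  obtain ⟨q, rfl⟩ := p.left.surjective x
  let L := AlgebraicClosure (Y'.left.residueField q)
  let f : Spec (CommRingCat.of L) ⟶ Y'.left :=
    Spec.map (CommRingCat.ofHom (algebraMap (Y'.left.residueField q) L)) ≫ Y'.left.fromSpecResidueField q
  let Z : Over S := Over.mk (f ≫ Y'.hom)
  let j : Z ⟶ Y' := Over.homMk f rfl
  let pt : Z.left := (default : PrimeSpectrum L)
  have hjq : j.left pt = q := specMap_fromResidueField_apply q (algebraMap (Y'.left.residueField q) L) pt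
  have hA : ∀ v : Γ(Z.left, ⊤), v = 0 ∨ IsUnit v :=
    field_zero_or_unit (R := Z.left) (Scheme.ΓSpecIso (CommRingCat.of L))
  obtain ⟨a', ha'⟩ := exists_lift_of_range_subset ω (j ≫ a)
    (by rintro _ ⟨w, rfl⟩; exact ha ⟨j.left w, rfl⟩)
  obtain ⟨b', hb'⟩ := exists_lift_of_range_subset ω (j ≫ b)
    (by rintro _ ⟨w, rfl⟩; exact hb ⟨j.left w, rfl⟩)
  let r := data G T i α pp pm hpp hpm av h2 hF Z
  have hnorm : r.Normal ((j ≫ p) ≫ g) := by
    have h := R1.normal_cell_mul_cell (r := r) hA (data_conj hpp hpm h2 hF)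
      (Red.gaFn (a' ≫ fst _ _ ≫ fst _ _)) (Red.gaFn (a' ≫ snd _ _))
      (Red.gaFn (b' ≫ fst _ _ ≫ fst _ _)) (Red.gaFn (b' ≫ snd _ _))
      (a' ≫ fst _ _ ≫ snd _ _) (b' ≫ fst _ _ ≫ snd _ _)
    rw [data_N rfl, data_N rfl, data_P rfl, data_P rfl, data_C, data_C, ← cell_point_surjective,
      ← cell_point_surjective] at h
    have e : (j ≫ p) ≫ g = (a' ≫ ω) * (b' ≫ ω) := by
      rw [Category.assoc, hab, MonObj.comp_mul, ha', hb']
    rw [e]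
    exact h
  obtain ⟨z, hz⟩ := exists_root_unit (R := Z.left) (Scheme.ΓSpecIso (CommRingCat.of L)) n hn
  have hcomm := hg Z (j ≫ p) (gmPt z)
  rw [← data_pow hpp hpm h2 hF n Z (gmPt z), gmU_gmPt] at hcomm
  obtain ⟨t, ht⟩ := R1.centralizer_pow hA (data_conj hpp hpm h2 hF) (cell_inj hpp hpm hΩ h2 hF)
    (isTorus_comm hT) z n hz hnorm hcomm.symm
  rw [data_C] at ht
  refine ⟨(lift (lift (1 : Z ⟶ Red.Ga S) t) (1 : Z ⟶ Red.Ga S)).left pt, ?_⟩
  have h1 : lift (lift (1 : Z ⟶ Red.Ga S) t) (1 : Z ⟶ Red.Ga S) ≫ ω = (j ≫ p) ≫ g := by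
    rw [lift_cell, ht, MonObj.one_comp, MonObj.one_comp, _root_.one_mul, _root_.mul_one]
  refine (congrArg (fun q' : Z ⟶ G => q'.left pt) h1).trans ?_
  change g.left (p.left (j.left pt)) = _
  rw [hjq]

theorem comp_triple {X Y : Over S} (j : Y ⟶ X) (y x : X ⟶ Red.Ga S) (t : X ⟶ T) :
    j ≫ ((y ≫ pm) * (t ≫ i) * (x ≫ pp)) = ((j ≫ y) ≫ pm) * ((j ≫ t) ≫ i) * ((j ≫ x) ≫ pp) := by
  rw [comp_mul3, Category.assoc, Category.assoc, Category.assoc]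

theorem coords_eq_one {Y : Over S} (y x : Y ⟶ Red.Ga S) (t : Y ⟶ T) (z : (Γ(Y.left, ⊤) : Type u)ˣ)
    (hz : IsUnit ((((z * z) ^ n : (Γ(Y.left, ⊤) : Type u)ˣ) : Γ(Y.left, ⊤)) - 1))
    (hcomm : ((y ≫ pm) * (t ≫ i) * (x ≫ pp)) * (((gmPt z ≫ av) ^ n) ≫ i) =
      (((gmPt z ≫ av) ^ n) ≫ i) * ((y ≫ pm) * (t ≫ i) * (x ≫ pp))) : y = 1 ∧ x = 1 := by
  rw [← data_pow hpp hpm h2 hF n Y (gmPt z), gmU_gmPt,
    ← data_C (hpp := hpp) (hpm := hpm) (h2 := h2) (hF := hF) t,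
    ← data_N (hpp := hpp) (hpm := hpm) (h2 := h2) (hF := hF) (x := y) rfl,
    ← data_P (hpp := hpp) (hpm := hpm) (h2 := h2) (hF := hF) (x := x) rfl] at hcomm
  obtain ⟨hy, hx⟩ := R1.cell_centralizer (cell_inj hpp hpm hΩ h2 hF) (isTorus_comm hT) _ (by
    rw [map_zpow, R1.hV]; exact hz) hcomm.symm
  exact ⟨H27Witt.GaCoord.gaFn_injective (hy.trans H27Witt.GaCoord.gaFn_one.symm),
    H27Witt.GaCoord.gaFn_injective (hx.trans H27Witt.GaCoord.gaFn_one.symm)⟩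

theorem coords_eq_one_global {X : Over S} (y x : X ⟶ Red.Ga S) (t : X ⟶ T)
    (hg : ∀ (X' : Over S) (j : X' ⟶ X) (z : X' ⟶ Red.Gm S),
      (j ≫ ((y ≫ pm) * (t ≫ i) * (x ≫ pp))) * (((z ≫ av) ^ n) ≫ i) =
        (((z ≫ av) ^ n) ≫ i) * (j ≫ ((y ≫ pm) * (t ≫ i) * (x ≫ pp)))) : y = 1 ∧ x = 1 := by
  have key : ∀ (Y : Over S) (j : Y ⟶ X) (c : Γ(Y.left, ⊤)),
      eval₂ (Int.castRingHom _) c (rootPoly (4 * n.natAbs)) = 0 → j ≫ y = 1 ∧ j ≫ x = 1 := by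
    intro Y j c hc
    obtain ⟨z, hz, -⟩ := exists_unit_of_root n hc
    refine coords_eq_one hT hG hpp hpm hΩ h2 hF n hn (j ≫ y) (j ≫ x) (j ≫ t) z hz ?_
    rw [← comp_triple hT hG hpp hpm hΩ h2 hF n hn]
    exact hg Y j (gmPt z)
  exact ⟨hom_ext_cover_root _ (rootPoly_monic (by omega)) (rootPoly_natDegree (by omega))
      fun Y j c hc => (key Y j c hc).1.trans (MonObj.comp_one j).symm,
    hom_ext_cover_root _ (rootPoly_monic (by omega)) (rootPoly_natDegree (by omega))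
      fun Y j c hc => (key Y j c hc).2.trans (MonObj.comp_one j).symm⟩

/-- The centralizer of a power of the coroot is the maximal torus. -/
theorem exists_torus_point {X : Over S} (g : X ⟶ G)
    (hg : ∀ (X' : Over S) (y : X' ⟶ X) (z : X' ⟶ Red.Gm S),
      (y ≫ g) * (((z ≫ av) ^ n) ≫ i) = (((z ≫ av) ^ n) ≫ i) * (y ≫ g)) :
    ∃ t : X ⟶ T, t ≫ i = g := by
  have := hΩ
  obtain ⟨v, hv⟩ := exists_lift_of_range_subset (((pm ⊗ₘ i) ⊗ₘ pp) ≫ (μ[G] ▷ G) ≫ μ[G]) g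
    (range_subset_cell hT hG hpp hpm hΩ h2 hF n hn g hg)
  rw [cell_point_surjective] at hv
  obtain ⟨hy, hx⟩ := coords_eq_one_global hT hG hpp hpm hΩ h2 hF n hn _ _ _
    (fun X' j z => by rw [hv]; exact hg X' j z)
  refine ⟨v ≫ fst _ _ ≫ snd _ _, ?_⟩
  rw [← hv, hy, hx, MonObj.one_comp, MonObj.one_comp, _root_.one_mul, _root_.mul_one]

end Groth.Agent.H21Rank1
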