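import Groth.Agent.H21Rank1.CellPts
import Groth.Agent.S5421

/-!
The centre of a group of semisimple rank one.
-/

open CategoryTheory MonoidalCategory CartesianMonoidalCategory MonObj GrpObj AlgebraicGeometry
open Groth.Agent.H27Witt.GaCoord (gaFn_comp gaFn_injective gaFn_one)

universe u

set_option backward.isDefEq.respectTransparency false
set_option linter.unusedSectionVars false
set_option linter.unusedVariables false

namespace Groth.Agent.H21Rank1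

variable {S : Scheme.{u}} {G T : Over S} [GrpObj G] [GrpObj T]

/-- Lifting a point of the multiplicative group along a character which is non-trivial on every fibre. -/
theorem exists_lift_char (hT : Red.IsTorus T) (α : T ⟶ Red.Gm S) [IsMonHom α]
    (hα : ∀ s : S, (Over.pullback (Red.geomPt s)).map α ≠ 1) {Y : Over S} (z : Y ⟶ Red.Gm S) :
    ∃ (Y' : Over S) (p : Y' ⟶ Y) (s : Y' ⟶ T), Flat p.left ∧ Surjective p.left ∧ s ≫ α = p ≫ z := by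
  obtain ⟨hf, hs⟩ := (Groth.Agent.S5421.result S T hT α).2.mp hα
  let Y' : Over S := Over.mk (Limits.pullback.fst z.left α.left ≫ Y.hom)
  refine ⟨Y', Over.homMk (Limits.pullback.fst z.left α.left) rfl,
    Over.homMk (Limits.pullback.snd z.left α.left) ?_, ?_, ?_, ?_⟩
  · change Limits.pullback.snd z.left α.left ≫ T.hom = Limits.pullback.fst z.left α.left ≫ Y.hom
    rw [← Over.w α, ← Over.w z, Limits.pullback.condition_assoc]
  · exact inferInstanceAs (Flat (Limits.pullback.fst z.left α.left))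
  · exact inferInstanceAs (Surjective (Limits.pullback.fst z.left α.left))
  · ext : 1
    exact Limits.pullback.condition.symm

/-- A point lifts to the cell as soon as it does so locally. -/
theorem range_subset_of_cover {X Y Z : Over S} (c : Z ⟶ G) (g : X ⟶ G) (p : Y ⟶ X) [Surjective p.left]
    (z : Y ⟶ Z) (h : z ≫ c = p ≫ g) : Set.range g.left ⊆ Set.range c.left := by
  rintro _ ⟨x, rfl⟩
  obtain ⟨y, rfl⟩ := p.left.surjective x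
  exact ⟨z.left y, congrArg (fun q : Y ⟶ G => q.left y) h⟩

variable {i : T ⟶ G} [IsMonHom i] {α : T ⟶ Red.Gm S} [IsMonHom α] {pp pm : Red.Ga S ⟶ G} [IsMonHom pp] [IsMonHom pm]
    (hpp : ∀ (X : Over S) (t : X ⟶ T) (x : X ⟶ Red.Ga S), ∃ x' : X ⟶ Red.Ga S,
      x' ≫ pp = (t ≫ i) * (x ≫ pp) * (t ≫ i)⁻¹ ∧ Red.gaFn x' = Red.gmFn (t ≫ α) * Red.gaFn x)
    (hpm : ∀ (X : Over S) (t : X ⟶ T) (y : X ⟶ Red.Ga S), ∃ y' : X ⟶ Red.Ga S,
      y' ≫ pm = (t ≫ i) * (y ≫ pm) * (t ≫ i)⁻¹ ∧ Red.gaFn y' * Red.gmFn (t ≫ α) = Red.gaFn y)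

include hpp hpm in
/-- A point of the kernel of the root commutes with the cell. -/
theorem ker_comm_cell (hT : Red.IsTorus T) {X : Over S} (t : X ⟶ T) (ht : t ≫ α = 1) (y x : X ⟶ Red.Ga S)
    (t' : X ⟶ T) :
    (t ≫ i) * ((y ≫ pm) * (t' ≫ i) * (x ≫ pp)) = ((y ≫ pm) * (t' ≫ i) * (x ≫ pp)) * (t ≫ i) := by
  obtain ⟨x', hx1, hx2⟩ := hpp X t x
  obtain ⟨y', hy1, hy2⟩ := hpm X t y
  rw [ht, gmFn_one, _root_.one_mul] at hx2
  rw [ht, gmFn_one, _root_.mul_one] at hy2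
  rw [gaFn_injective hx2, eq_mul_inv_iff_mul_eq] at hx1
  rw [gaFn_injective hy2, eq_mul_inv_iff_mul_eq] at hy1
  have hc : (t ≫ i) * (t' ≫ i) = (t' ≫ i) * (t ≫ i) := by
    rw [← MonObj.mul_comp, ← MonObj.mul_comp, isTorus_comm hT]
  calc (t ≫ i) * ((y ≫ pm) * (t' ≫ i) * (x ≫ pp))
      = ((t ≫ i) * (y ≫ pm)) * (t' ≫ i) * (x ≫ pp) := by group
    _ = (y ≫ pm) * ((t ≫ i) * (t' ≫ i)) * (x ≫ pp) := by rw [← hy1]; group
    _ = (y ≫ pm) * (t' ≫ i) * ((t ≫ i) * (x ≫ pp)) := by rw [hc]; group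
    _ = _ := by rw [← hx1]; group

theorem central_form {H : Type*} [Group H] {g y y' t t' x x' z : H} (hg : ∀ k, g * k = k * g)
    (h : g = (y' * t' * x') * (y * t * x)⁻¹) (hz : z = t * (x' * x⁻¹) * t⁻¹) :
    g = (y⁻¹ * y') * (t' * t⁻¹) * z := by
  have e : g = y⁻¹ * g * y := by rw [mul_assoc y⁻¹, hg y, inv_mul_cancel_left]
  rw [hz, e, h]
  group

include hpp in
theorem range_subset_cell_of_central (hΩ : IsOpenImmersion (((pm ⊗ₘ i) ⊗ₘ pp) ≫ (μ[G] ▷ G) ≫ μ[G]).left)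
    (hG : Red.IsReductive G) {X : Over S} (g : X ⟶ G)
    (hg : ∀ (X' : Over S) (x : X' ⟶ X) (k : X' ⟶ G), (x ≫ g) * k = k * (x ≫ g)) :
    Set.range g.left ⊆ Set.range (((pm ⊗ₘ i) ⊗ₘ pp) ≫ (μ[G] ▷ G) ≫ μ[G]).left := by
  have := hΩ
  have := geometricallyIrreducible_of_isReductive hG
  have := hG.2.1
  let U : G.left.Opens := (((pm ⊗ₘ i) ⊗ₘ pp) ≫ (μ[G] ▷ G) ≫ μ[G]).left.opensRange ⊓
    ι[G].left ⁻¹ᵁ (((pm ⊗ₘ i) ⊗ₘ pp) ≫ (μ[G] ▷ G) ≫ μ[G]).left.opensRange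
  have hU : ∀ s : S, η[G].left s ∈ U := fun s => by
    refine ⟨eta_mem_cell hΩ s, ?_⟩
    have h : η[G] ≫ ι[G] = η[G] := by
      have h1 : η[G] = (1 : 𝟙_ (Over S) ⟶ G) := (Category.id_comp _).symm.trans (lift_eta (𝟙 _))
      rw [h1, ← Hom.inv_def, inv_one]
    change (η[G] ≫ ι[G]).left s ∈ (((pm ⊗ₘ i) ⊗ₘ pp) ≫ (μ[G] ▷ G) ≫ μ[G]).left.opensRange
    rw [h]
    exact eta_mem_cell hΩ s
  obtain ⟨Y', p, a, b, hpf, hps, ha, hb, hab⟩ := exists_split U hU g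
  obtain ⟨a', ha'⟩ := exists_lift_of_range_subset (((pm ⊗ₘ i) ⊗ₘ pp) ≫ (μ[G] ▷ G) ≫ μ[G]) a
    (fun w (hw : w ∈ Set.range a.left) => (ha hw).1)
  obtain ⟨b', hb'⟩ := exists_lift_of_range_subset (((pm ⊗ₘ i) ⊗ₘ pp) ≫ (μ[G] ▷ G) ≫ μ[G]) b⁻¹ (by
    rintro _ ⟨w, rfl⟩
    exact (hb ⟨w, rfl⟩).2)
  rw [cell_point_surjective] at ha' hb'
  obtain ⟨z, hz, -⟩ := hpp Y' (b' ≫ fst _ _ ≫ snd _ _)
    ((a' ≫ snd _ _) * (b' ≫ snd _ _)⁻¹)
  rw [MonObj.mul_comp, GrpObj.inv_comp] at hz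
  have h : p ≫ g = ((a' ≫ fst _ _ ≫ fst _ _) ≫ pm) * ((a' ≫ fst _ _ ≫ snd _ _) ≫ i) * ((a' ≫ snd _ _) ≫ pp) *
      (((b' ≫ fst _ _ ≫ fst _ _) ≫ pm) * ((b' ≫ fst _ _ ≫ snd _ _) ≫ i) * ((b' ≫ snd _ _) ≫ pp))⁻¹ := by
    rw [ha', hb', _root_.inv_inv, hab]
  have h' := central_form (hg Y' p) h hz
  exact range_subset_of_cover _ g p
    (lift (lift ((b' ≫ fst _ _ ≫ fst _ _)⁻¹ * (a' ≫ fst _ _ ≫ fst _ _))
      ((a' ≫ fst _ _ ≫ snd _ _) * (b' ≫ fst _ _ ≫ snd _ _)⁻¹)) z)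
    (by rw [lift_cell, MonObj.mul_comp, MonObj.mul_comp, GrpObj.inv_comp, GrpObj.inv_comp]; exact h'.symm)

include hpp hpm in
theorem coords_of_central [Mono i] [Mono pp] (hΩ : IsOpenImmersion (((pm ⊗ₘ i) ⊗ₘ pp) ≫ (μ[G] ▷ G) ≫ μ[G]).left)
    (hT : Red.IsTorus T) {Y : Over S} (y x : Y ⟶ Red.Ga S) (t s : Y ⟶ T)
    (h : (s ≫ i) * ((y ≫ pm) * (t ≫ i) * (x ≫ pp)) = ((y ≫ pm) * (t ≫ i) * (x ≫ pp)) * (s ≫ i))
    (hs : IsUnit (Red.gmFn (s ≫ α) - 1)) : y = 1 ∧ x = 1 := by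
  obtain ⟨x', hx1, hx2⟩ := hpp Y s x
  obtain ⟨y', hy1, hy2⟩ := hpm Y s y
  have hc : (s ≫ i) * (t ≫ i) = (t ≫ i) * (s ≫ i) := by
    rw [← MonObj.mul_comp, ← MonObj.mul_comp, isTorus_comm hT]
  have h1 : (y' ≫ pm) * (t ≫ i) * (x' ≫ pp) = (y ≫ pm) * (t ≫ i) * (x ≫ pp) := by
    rw [hy1, hx1]
    calc _ = (s ≫ i) * (y ≫ pm) * ((s ≫ i)⁻¹ * ((t ≫ i) * (s ≫ i))) * (x ≫ pp) * (s ≫ i)⁻¹ := by group
      _ = (s ≫ i) * ((y ≫ pm) * (t ≫ i) * (x ≫ pp)) * (s ≫ i)⁻¹ := by rw [← hc, inv_mul_cancel_left]; group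
      _ = _ := by rw [h, mul_inv_cancel_right]
  have := hΩ
  have : Mono (((pm ⊗ₘ i) ⊗ₘ pp) ≫ (μ[G] ▷ G) ≫ μ[G]) :=
    (Over.forget S).mono_of_mono_map (f := ((pm ⊗ₘ i) ⊗ₘ pp) ≫ (μ[G] ▷ G) ≫ μ[G])
      (inferInstanceAs (Mono (((pm ⊗ₘ i) ⊗ₘ pp) ≫ (μ[G] ▷ G) ≫ μ[G]).left))
  rw [← lift_cell, ← lift_cell, cancel_mono] at h1
  have ey : y' = y := by
    have := congrArg (fun q => q ≫ fst _ _ ≫ fst _ _) h1
    simpa using this
  have ex : x' = x := by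
    have := congrArg (fun q => q ≫ snd _ _) h1
    simpa using this
  rw [ey] at hy2
  rw [ex] at hx2
  constructor
  · refine gaFn_injective (Eq.trans ?_ gaFn_one.symm)
    rw [← hs.mul_right_eq_zero]
    linear_combination hy2
  · refine gaFn_injective (Eq.trans ?_ gaFn_one.symm)
    rw [← hs.mul_right_eq_zero]
    linear_combination -hx2

include hpp hpm in
/-- The centre is the kernel of the root. -/
theorem centre_eq_ker [Mono i] [Mono pp] (hΩ : IsOpenImmersion (((pm ⊗ₘ i) ⊗ₘ pp) ≫ (μ[G] ▷ G) ≫ μ[G]).left)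
    (hT : Red.IsTorus T) (hG : Red.IsReductive G) (hα : ∀ s : S, (Over.pullback (Red.geomPt s)).map α ≠ 1)
    {X : Over S} (g : X ⟶ G) :
    (∀ (X' : Over S) (x : X' ⟶ X) (k : X' ⟶ G), (x ≫ g) * k = k * (x ≫ g)) ↔
      ∃ t : X ⟶ T, t ≫ i = g ∧ t ≫ α = 1 := by
  have := hΩ
  constructor
  · intro hg
    obtain ⟨v, hv⟩ := exists_lift_of_range_subset (((pm ⊗ₘ i) ⊗ₘ pp) ≫ (μ[G] ▷ G) ≫ μ[G]) g
      (range_subset_cell_of_central hpp hΩ hG g hg)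
    rw [cell_point_surjective] at hv
    have key : ∀ (Y : Over S) (j : Y ⟶ X) (c : Γ(Y.left, ⊤)), c * (1 - c) = 1 →
        j ≫ (v ≫ fst _ _ ≫ fst _ _) = j ≫ 1 ∧ j ≫ (v ≫ snd _ _) = j ≫ 1 := by
      intro Y j c hc
      obtain ⟨Y', p, s, hpf, hps, hs⟩ := exists_lift_char hT α hα (gmPt (IsUnit.of_mul_eq_one _ hc).unit)
      have hu : IsUnit (Red.gmFn (s ≫ α) - 1) := by
        have h0 : IsUnit (c - 1) := .of_mul_eq_one (-c) (by linear_combination hc)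
        have h1 := h0.map p.left.appTop.hom
        rw [map_sub, map_one] at h1
        rw [hs, gmFn_comp, gmFn_gmPt]
        exact h1
      obtain ⟨hy, hx⟩ := coords_of_central hpp hpm hΩ hT
        ((p ≫ j) ≫ v ≫ fst _ _ ≫ fst _ _) ((p ≫ j) ≫ v ≫ snd _ _) ((p ≫ j) ≫ v ≫ fst _ _ ≫ snd _ _) s (by
        have h := hg Y' (p ≫ j) (s ≫ i)
        rw [← hv, comp_mul3] at h
        simp only [Category.assoc] at h ⊢
        exact h.symm) hu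
      exact ⟨eq_of_flat_surjective p (by rw [← Category.assoc, hy, MonObj.comp_one, MonObj.comp_one]),
        eq_of_flat_surjective p (by rw [← Category.assoc, hx, MonObj.comp_one, MonObj.comp_one])⟩
    have hy := hom_ext_cover fun Y j c hc => (key Y j c hc).1
    have hx := hom_ext_cover fun Y j c hc => (key Y j c hc).2
    refine ⟨v ≫ fst _ _ ≫ snd _ _, ?_, ?_⟩
    · rw [← hv, hy, hx, MonObj.one_comp, MonObj.one_comp, _root_.one_mul, _root_.mul_one]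
    · obtain ⟨x', hx1, hx2⟩ := hpp X (v ≫ fst _ _ ≫ snd _ _) (gaPt 1)
      have e : (v ≫ fst _ _ ≫ snd _ _) ≫ i = g := by
        rw [← hv, hy, hx, MonObj.one_comp, MonObj.one_comp, _root_.one_mul, _root_.mul_one]
      have h := hg X (𝟙 X) (gaPt (X := X) 1 ≫ pp)
      rw [Category.id_comp] at h
      rw [e, h, mul_inv_cancel_right, cancel_mono] at hx1
      rw [hx1, gaFn_gaPt, _root_.mul_one] at hx2
      exact gmFn_injective (hx2.symm.trans gmFn_one.symm)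
  · rintro ⟨t, rfl, ht⟩ X' x k
    have := geometricallyIrreducible_of_isReductive hG
    have := hG.2.1
    obtain ⟨Y', p, a, b, hpf, hps, ha, hb, hab⟩ :=
      exists_split ((((pm ⊗ₘ i) ⊗ₘ pp) ≫ (μ[G] ▷ G) ≫ μ[G]).left.opensRange) (eta_mem_cell hΩ) k
    obtain ⟨a', rfl⟩ := exists_lift_of_range_subset (((pm ⊗ₘ i) ⊗ₘ pp) ≫ (μ[G] ▷ G) ≫ μ[G]) a ha
    obtain ⟨b', rfl⟩ := exists_lift_of_range_subset (((pm ⊗ₘ i) ⊗ₘ pp) ≫ (μ[G] ▷ G) ≫ μ[G]) b hb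
    have hab' := hab.trans (congrArg₂ (· * ·) (cell_point_surjective a') (cell_point_surjective b'))
    refine eq_of_flat_surjective p ?_
    have ht' : (p ≫ x ≫ t) ≫ α = 1 := by
      rw [Category.assoc, Category.assoc, ht, MonObj.comp_one, MonObj.comp_one]
    have ea := ker_comm_cell hpp hpm hT _ ht' (a' ≫ fst _ _ ≫ fst _ _) (a' ≫ snd _ _) (a' ≫ fst _ _ ≫ snd _ _)
    have eb := ker_comm_cell hpp hpm hT _ ht' (b' ≫ fst _ _ ≫ fst _ _) (b' ≫ snd _ _) (b' ≫ fst _ _ ≫ snd _ _)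
    rw [MonObj.comp_mul, MonObj.comp_mul, hab']
    simp only [Category.assoc] at ea eb ⊢
    rw [← _root_.mul_assoc, ea, _root_.mul_assoc, eb, ← _root_.mul_assoc]

end Groth.Agent.H21Rank1
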