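import Groth.Agent.H21Rank1.Bruhat

/-!
Homomorphisms between groups with a rank-one commutation rule.
-/

namespace Groth.Agent.H21Rank1

namespace R1

variable {H A Tp : Type*} [Group H] [CommRing A] [Group Tp] (r : R1 H A Tp)

theorem V_eq_scaled (c z : Aˣ) :
    r.C (r.V z) = r.N (↑c⁻¹ * (↑z⁻¹ - 1)) * r.P ↑c * r.N (↑c⁻¹ * (↑z - 1)) * r.P (-(↑c * ↑z⁻¹)) := by
  have h := r.F (c : A) (↑c⁻¹ * ((z : A) - 1)) z (by linear_combination -((z : A) - 1) * c.mul_inv)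
  have e1 : (↑z⁻¹ : A) * (↑c⁻¹ * ((z : A) - 1)) = -(↑c⁻¹ * (↑z⁻¹ - 1)) := by
    linear_combination (↑c⁻¹ : A) * z.inv_mul
  rw [e1, r.N_neg, mul_comm (↑z⁻¹ : A) ↑c] at h
  rw [r.P_neg, mul_assoc _ (r.P ↑c), h]
  group

theorem w_conj_P_scaled (hc : r.Conj) (x s : Aˣ) :
    r.w x * r.P (↑s * ↑x) = r.N (-(↑s * ↑x⁻¹)) * r.w x := by
  have h := w_one_conj_P hc (s * x)
  have h2 := r.NC (r.V x) (-↑(s * x))
  rw [r.χV_inv, show (↑x⁻¹ : A) * ↑x⁻¹ * -↑(s * x) = -(↑s * ↑x⁻¹) by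
    push_cast; linear_combination -(↑x⁻¹ * ↑s : A) * x.inv_mul] at h2
  rw [← Units.val_mul, ← mul_one x, r.w_mul_left, mul_one, mul_assoc (r.C _), h, ← mul_assoc, h2, mul_assoc]

/-- An element `w x * t` satisfying the braid relation with `P x` is `w x`. -/
theorem eq_w_of_conj_scaled (hc : r.Conj) (hi : r.CellInj) (x : Aˣ) (t : Tp)
    (h : (r.w x * r.C t) * r.P ↑x * (r.w x * r.C t)⁻¹ = (r.P ↑x)⁻¹ * (r.w x * r.C t) * (r.P ↑x)⁻¹) :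
    r.C t = 1 := by
  have hu : (r.w x * r.C t) * r.P ↑x = r.N (-(↑(r.χ t) * ↑x⁻¹)) * (r.w x * r.C t) := by
    rw [mul_assoc, r.CP, ← mul_assoc, r.w_conj_P_scaled hc x (r.χ t), mul_assoc]
  rw [mul_inv_eq_iff_eq_mul.mpr hu] at h
  have h3 : r.N (-(↑(r.χ t) * ↑x⁻¹)) = r.N (-↑x⁻¹) * r.C t * r.P (↑(r.χ t)⁻¹ * x + -x) := by
    rw [h, r.P_add, r.P_neg, w]
    calc _ = r.N (-↑x⁻¹) * (r.P ↑x * r.C t) * (r.P ↑x)⁻¹ := by group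
      _ = _ := by rw [r.PC]; group
  obtain ⟨-, ht, -⟩ := hi (-(↑(r.χ t) * ↑x⁻¹)) (-↑x⁻¹) 1 t 0 (↑(r.χ t)⁻¹ * x + -x) (by
    rw [map_one, r.P_zero, mul_one, mul_one]; exact h3)
  rw [← ht, map_one]

theorem w_inv_coroot (x z : Aˣ) : r.w x * r.C (r.V z) * (r.w x)⁻¹ = (r.C (r.V z))⁻¹ := by
  rw [r.w_conj, r.hV, map_mul r.V, map_mul, _root_.mul_inv_rev, inv_mul_cancel_right]

variable {H' Tp' : Type*} [Group H'] [Group Tp'] (r' : R1 H' A Tp') (φ : H →* H') (q : ℕ) (c : Aˣ)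
  (hP : ∀ a, φ (r.P a) = r'.P (↑c * a ^ q))

include hP

theorem map_w_of_N (hq : (-1 : A) ^ q = -1) (hN : ∀ a, φ (r.N a) = r'.N (↑c⁻¹ * a ^ q)) (a : Aˣ) :
    φ (r.w a) = r'.w (c * a ^ q) := by
  rw [w, w, map_mul, map_mul, hP, hN, neg_pow, hq, mul_inv_rev]
  push_cast [← inv_pow]
  congr 3
  ring

theorem map_V_of_N (hsub : ∀ a b : A, (a - b) ^ q = a ^ q - b ^ q) (hN : ∀ a, φ (r.N a) = r'.N (↑c⁻¹ * a ^ q))
    (hq : (-1 : A) ^ q = -1) (z : Aˣ) : φ (r.C (r.V z)) = r'.C (r'.V z ^ q) := by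
  rw [← map_pow r'.V, r'.V_eq_scaled c (z ^ q), r.V_eq, map_mul, map_mul, map_mul, hP, hP, hN, hN, hsub, hsub,
    one_pow, mul_one, neg_pow, hq]
  push_cast [← inv_pow]
  congr 3
  ring

theorem map_N_of_w (hc : r.Conj) (hc' : r'.Conj) (hq : (-1 : A) ^ q = -1)
    (hw : ∀ a : Aˣ, φ (r.w a) = r'.w (c * a ^ q)) (v : Aˣ) : φ (r.N ↑v) = r'.N (↑c⁻¹ * (↑v : A) ^ q) := by
  have h := congrArg φ (hc (-v⁻¹))
  rw [map_mul, map_mul, map_inv, hP, hw] at h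
  have e : (↑c : A) * (↑(-v⁻¹) : A) ^ q = ↑(c * (-v⁻¹) ^ q) := by push_cast; ring
  rw [e, hc'] at h
  rw [show (-(↑((-v⁻¹)⁻¹) : A)) = ↑v by simp] at h
  rw [← h]
  congr 1
  rw [mul_inv_rev, ← inv_pow, inv_neg, inv_inv, Units.val_mul, Units.val_pow_eq_pow_val, Units.val_neg, neg_pow, hq]
  ring

theorem map_w_rel (hc : r.Conj) (x : Aˣ) :
    φ (r.w x) * r'.P (↑c * (x : A) ^ q) * (φ (r.w x))⁻¹ =
      (r'.P (↑c * (x : A) ^ q))⁻¹ * φ (r.w x) * (r'.P (↑c * (x : A) ^ q))⁻¹ := by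
  rw [← hP, ← map_inv φ, ← map_inv φ, ← map_mul, ← map_mul, ← map_mul, ← map_mul, hc, w]
  congr 1
  group

end R1

end Groth.Agent.H21Rank1
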