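import Groth.Agent.H21Rank1.Inverting
import Groth.Agent.H21Rank1.HomAlg

/-!
Homomorphisms between groups of semisimple rank one.
-/

open CategoryTheory MonoidalCategory CartesianMonoidalCategory MonObj GrpObj AlgebraicGeometry
open Groth.Agent.H27Witt.GaCoord (gaFn_comp gaFn_injective)

universe u

set_option backward.isDefEq.respectTransparency false
set_option linter.unusedSectionVars false
set_option linter.unusedVariables false

namespace Groth.Agent.H21Rank1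

variable {S : Scheme.{u}}

open Polynomial in
/-- Morphisms agreeing after writing a function as a sum of two units are equal. -/
theorem hom_ext_cover_sum {X Z : Over S} {x y : X ⟶ Z} (a : Γ(X.left, ⊤))
    (h : ∀ (Y : Over S) (j : Y ⟶ X) (c : Γ(Y.left, ⊤)), c * (c - j.left.appTop a) = 1 → j ≫ x = j ≫ y) :
    x = y := by
  refine hom_ext_chart fun B _ t j => ?_
  rcases subsingleton_or_nontrivial B with hB | hB
  · have : IsEmpty (Over.mk t).left := inferInstanceAs (IsEmpty (PrimeSpectrum B))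
    ext : 1
    exact (isInitialOfIsEmpty (X := (Over.mk t).left)).hom_ext _ _
  let aB : B := (Scheme.ΓSpecIso (CommRingCat.of B)).hom (j.left.appTop a)
  have hdeg : (Polynomial.X ^ 2 - Polynomial.C aB * Polynomial.X - 1 : B[X]).natDegree = 2 := by compute_degree!
  obtain ⟨C, _, f, hf, c, hc⟩ := exists_root_cover B (Polynomial.X ^ 2 - Polynomial.C aB * Polynomial.X - 1)
    (by monicity!) (by omega)
  rw [eval₂_sub, eval₂_sub, eval₂_mul, eval₂_X_pow, eval₂_C, eval₂_X, eval₂_one] at hc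
  let p : Over.mk (Spec.map (CommRingCat.ofHom f) ≫ t) ⟶ Over.mk t := Over.homMk (Spec.map (CommRingCat.ofHom f)) rfl
  have hfs : Flat (Spec.map (CommRingCat.ofHom f)) ∧ Surjective (Spec.map (CommRingCat.ofHom f)) :=
    (flat_and_surjective_SpecMap_iff _).mpr hf
  have : Flat (Spec.map (CommRingCat.ofHom f)) := hfs.1
  have : Surjective (Spec.map (CommRingCat.ofHom f)) := hfs.2
  have : Epi (Spec.map (CommRingCat.ofHom f)) := Flat.epi_of_flat_of_surjective _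
  have h1 := congrArg (fun q => q.left)
    (h _ (p ≫ j) ((Scheme.ΓSpecIso (CommRingCat.of C)).inv c) (by
      have hn : (Spec.map (CommRingCat.ofHom f)).appTop (j.left.appTop a) =
          (Scheme.ΓSpecIso (CommRingCat.of C)).inv (f aB) := by
        have := Scheme.ΓSpecIso_inv_naturality (CommRingCat.ofHom f)
        refine Eq.trans ?_ (ConcreteCategory.congr_hom this aB).symm
        exact congrArg _ (Iso.hom_inv_id_apply (Scheme.ΓSpecIso (CommRingCat.of B)) _).symm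
      change (Scheme.ΓSpecIso (CommRingCat.of C)).inv.hom c * ((Scheme.ΓSpecIso (CommRingCat.of C)).inv.hom c -
        (Spec.map (CommRingCat.ofHom f)).appTop (j.left.appTop a)) = 1
      rw [hn]
      change _ * (_ - (Scheme.ΓSpecIso (CommRingCat.of C)).inv.hom (f aB)) = _
      rw [← map_sub, ← map_mul, ← map_one (Scheme.ΓSpecIso (CommRingCat.of C)).inv.hom]
      exact congrArg _ (by linear_combination hc)))
  ext : 1
  refine (cancel_epi (Spec.map (CommRingCat.ofHom f))).mp ?_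
  simpa [p, Category.assoc] using h1

variable {G T : Over S} [GrpObj G] [GrpObj T] {i : T ⟶ G} [IsMonHom i]
    {α : T ⟶ Red.Gm S} [IsMonHom α] {pp pm : Red.Ga S ⟶ G} [IsMonHom pp] [IsMonHom pm]
variable (hpp : ∀ (X : Over S) (t : X ⟶ T) (x : X ⟶ Red.Ga S), ∃ x' : X ⟶ Red.Ga S,
      x' ≫ pp = (t ≫ i) * (x ≫ pp) * (t ≫ i)⁻¹ ∧ Red.gaFn x' = Red.gmFn (t ≫ α) * Red.gaFn x)
    (hpm : ∀ (X : Over S) (t : X ⟶ T) (y : X ⟶ Red.Ga S), ∃ y' : X ⟶ Red.Ga S,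
      y' ≫ pm = (t ≫ i) * (y ≫ pm) * (t ≫ i)⁻¹ ∧ Red.gaFn y' * Red.gmFn (t ≫ α) = Red.gaFn y)
    {av : Red.Gm S ⟶ T} [IsMonHom av] (h2 : av ≫ α = (𝟙 (Red.Gm S)) ^ 2)
    (hF : ∀ (X : Over S) (x y : X ⟶ Red.Ga S), IsUnit (1 + Red.gaFn x * Red.gaFn y) →
      ∃ (x' y' : X ⟶ Red.Ga S) (z : X ⟶ Red.Gm S), Red.gmFn z = 1 + Red.gaFn x * Red.gaFn y ∧
        Red.gaFn x' * Red.gmFn z = Red.gaFn x ∧ Red.gaFn y' * Red.gmFn z = Red.gaFn y ∧
        (x ≫ pp) * (y ≫ pm) = (y' ≫ pm) * (z ≫ av ≫ i) * (x' ≫ pp))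
variable {G' T' : Over S} [GrpObj G'] [GrpObj T'] {i' : T' ⟶ G'} [IsMonHom i'] [Mono i']
    {α' : T' ⟶ Red.Gm S} [IsMonHom α'] {pp' pm' : Red.Ga S ⟶ G'} [IsMonHom pp'] [IsMonHom pm']
variable (hpp' : ∀ (X : Over S) (t : X ⟶ T') (x : X ⟶ Red.Ga S), ∃ x' : X ⟶ Red.Ga S,
      x' ≫ pp' = (t ≫ i') * (x ≫ pp') * (t ≫ i')⁻¹ ∧ Red.gaFn x' = Red.gmFn (t ≫ α') * Red.gaFn x)
    (hpm' : ∀ (X : Over S) (t : X ⟶ T') (y : X ⟶ Red.Ga S), ∃ y' : X ⟶ Red.Ga S,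
      y' ≫ pm' = (t ≫ i') * (y ≫ pm') * (t ≫ i')⁻¹ ∧ Red.gaFn y' * Red.gmFn (t ≫ α') = Red.gaFn y)
    (hΩ' : IsOpenImmersion (((pm' ⊗ₘ i') ⊗ₘ pp') ≫ (μ[G'] ▷ G') ≫ μ[G']).left)
    (hT' : Red.IsTorus T') (hG' : Red.IsReductive G')
    {av' : Red.Gm S ⟶ T'} [IsMonHom av'] (h2' : av' ≫ α' = (𝟙 (Red.Gm S)) ^ 2)
    (hF' : ∀ (X : Over S) (x y : X ⟶ Red.Ga S), IsUnit (1 + Red.gaFn x * Red.gaFn y) →
      ∃ (x' y' : X ⟶ Red.Ga S) (z : X ⟶ Red.Gm S), Red.gmFn z = 1 + Red.gaFn x * Red.gaFn y ∧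
        Red.gaFn x' * Red.gmFn z = Red.gaFn x ∧ Red.gaFn y' * Red.gmFn z = Red.gaFn y ∧
        (x ≫ pp') * (y ≫ pm') = (y' ≫ pm') * (z ≫ av' ≫ i') * (x' ≫ pp'))
    (q : ℕ) (hq0 : 0 < q) (hq : ∀ (X : Over S) (a b : Γ(X.left, ⊤)), (a + b) ^ q = a ^ q + b ^ q)
    (c : 𝟙_ (Over S) ⟶ Red.Gm S) (f : G ⟶ G') [IsMonHom f]
    (hf : ∀ (X : Over S) (x y : X ⟶ Red.Ga S), Red.gaFn y = Red.gmFn (toUnit X ≫ c) * Red.gaFn x ^ q →
      (x ≫ pp) ≫ f = y ≫ pp')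

include hq0 hq in
theorem neg_one_pow_q (X : Over S) : (-1 : Γ(X.left, ⊤)) ^ q = -1 := by
  have h := hq X 1 (-1)
  rw [add_neg_cancel, zero_pow (by omega), one_pow] at h
  linear_combination -h

include hq0 hq in
theorem sub_pow_q (X : Over S) (a b : Γ(X.left, ⊤)) : (a - b) ^ q = a ^ q - b ^ q := by
  rw [sub_eq_add_neg, hq, neg_pow, neg_one_pow_q q hq0 hq, neg_one_mul, ← sub_eq_add_neg]

theorem phi_hf (hf : ∀ (X : Over S) (x y : X ⟶ Red.Ga S), Red.gaFn y = Red.gmFn (toUnit X ≫ c) * Red.gaFn x ^ q →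
      (x ≫ pp) ≫ f = y ≫ pp') (X : Over S) (a : Γ(X.left, ⊤)) :
    postHom f X ((data G T i α pp pm hpp hpm av h2 hF X).P a) =
      (data G' T' i' α' pp' pm' hpp' hpm' av' h2' hF' X).P ((gmU (toUnit X ≫ c)).val * a ^ q) :=
  hf X (gaPt a) (gaPt ((gmU (toUnit X ≫ c)).val * a ^ q))
    ((gaFn_gaPt _).trans (congrArg (fun v => Red.gmFn (toUnit X ≫ c) * v ^ q) (gaFn_gaPt a)).symm)

include hpp hpm h2 hF hpp' hpm' h2' hF' hq0 hq hf in
theorem iii_to_i (h3 : ∀ (X : Over S) (x y : X ⟶ Red.Ga S), Red.gaFn y * Red.gmFn (toUnit X ≫ c) = Red.gaFn x ^ q →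
      (x ≫ pm) ≫ f = y ≫ pm') (X : Over S) (z : X ⟶ Red.Gm S) :
    (z ≫ av ≫ i) ≫ f = ((z ≫ av') ^ q) ≫ i' := by
  have h := R1.map_V_of_N (data G T i α pp pm hpp hpm av h2 hF X) (data G' T' i' α' pp' pm' hpp' hpm' av' h2' hF' X)
    (postHom f X) q (gmU (toUnit X ≫ c)) (phi_hf hpp hpm h2 hF hpp' hpm' h2' hF' q c f hf X)
    (sub_pow_q q hq0 hq X) (fun a => h3 X (gaPt a) (gaPt ((gmU (toUnit X ≫ c))⁻¹.val * a ^ q)) (by
      rw [gaFn_gaPt, gaFn_gaPt, ← val_gmU, _root_.mul_comm ((gmU (toUnit X ≫ c))⁻¹.val), Units.inv_mul_cancel_right]))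
    (neg_one_pow_q q hq0 hq X) (gmU z)
  rw [data_V (z := z) rfl, postHom_apply] at h
  refine h.trans ?_
  exact congrArg (fun v => (v ^ q) ≫ i') (congrArg (· ≫ av') (gmPt_gmU z))

include hpp hpm h2 hF hpp' hpm' h2' hF' hq0 hq hf in
theorem ii_to_iii (h : ∀ (X : Over S) (x x' y y' : X ⟶ Red.Ga S), Red.gaFn x' * Red.gaFn x = -1 →
        Red.gaFn y = Red.gmFn (toUnit X ≫ c) * Red.gaFn x ^ q → Red.gaFn y' * Red.gaFn y = -1 →
        ((x ≫ pp) * (x' ≫ pm) * (x ≫ pp)) ≫ f = (y ≫ pp') * (y' ≫ pm') * (y ≫ pp'))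
    (X : Over S) (x y : X ⟶ Red.Ga S) (hy : Red.gaFn y * Red.gmFn (toUnit X ≫ c) = Red.gaFn x ^ q) :
    (x ≫ pm) ≫ f = y ≫ pm' := by
  refine hom_ext_cover_sum (Red.gaFn x) fun Y j e he => ?_
  let r := data G T i α pp pm hpp hpm av h2 hF Y
  let r' := data G' T' i' α' pp' pm' hpp' hpm' av' h2' hF' Y
  have hw : ∀ a : (Γ(Y.left, ⊤) : Type u)ˣ, postHom f Y (r.w a) = r'.w (gmU (toUnit Y ≫ c) * a ^ q) := fun a => by
    rw [data_w a (gaFn_gaPt _) (gaFn_gaPt _), data_w _ (gaFn_gaPt _) (gaFn_gaPt _)]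
    refine h Y _ _ _ _ (gaFn_gaPt_unit_mul a) ?_ (gaFn_gaPt_unit_mul _)
    rw [gaFn_gaPt, gaFn_gaPt, Units.val_mul, Units.val_pow_eq_pow_val, val_gmU]
  have hunit : ∀ v : (Γ(Y.left, ⊤) : Type u)ˣ, postHom f Y (r.N v.val) =
      r'.N ((gmU (toUnit Y ≫ c))⁻¹.val * v.val ^ q) :=
    R1.map_N_of_w r r' (postHom f Y) q (gmU (toUnit Y ≫ c)) (phi_hf hpp hpm h2 hF hpp' hpm' h2' hF' q c f hf Y)
      (data_conj hpp hpm h2 hF) (data_conj hpp' hpm' h2' hF') (neg_one_pow_q q hq0 hq Y) hw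
  obtain ⟨u₁, hu₁⟩ : IsUnit e := .of_mul_eq_one _ he
  obtain ⟨u₂, hu₂⟩ : IsUnit (j.left.appTop (Red.gaFn x) - e) := .of_mul_eq_one (-e) (by linear_combination he)
  have e1 := congrArg₂ (· * ·) (hunit u₁) (hunit u₂)
  rw [← map_mul, ← R1.N_add, ← R1.N_add, ← mul_add, ← hq Y, hu₁, hu₂, add_sub_cancel] at e1
  have ey : Red.gaFn (j ≫ y) = (gmU (toUnit Y ≫ c))⁻¹.val * j.left.appTop (Red.gaFn x) ^ q := by
    refine unit_val_mul_inv_eq (z := gmU (toUnit Y ≫ c)) ?_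
    rw [val_gmU, ← toUnit_unique (j ≫ toUnit X) (toUnit Y), Category.assoc, gmFn_comp, gaFn_comp]
    exact (map_mul j.left.appTop.hom _ _).symm.trans ((congrArg j.left.appTop.hom hy).trans (map_pow j.left.appTop.hom _ q))
  rw [data_N (gaFn_comp j x), data_N ey, postHom_apply] at e1
  rw [← Category.assoc j, ← Category.assoc j, ← Category.assoc j]
  exact e1

include hpp hpm h2 hF hpp' hpm' hΩ' hT' hG' h2' hF' hq0 hq hf in
theorem i_to_ii (h1 : ∀ (X : Over S) (z : X ⟶ Red.Gm S), (z ≫ av ≫ i) ≫ f = ((z ≫ av') ^ q) ≫ i')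
    (X : Over S) (x x' y y' : X ⟶ Red.Ga S) (hx : Red.gaFn x' * Red.gaFn x = -1)
    (hy : Red.gaFn y = Red.gmFn (toUnit X ≫ c) * Red.gaFn x ^ q) (hy' : Red.gaFn y' * Red.gaFn y = -1) :
    ((x ≫ pp) * (x' ≫ pm) * (x ≫ pp)) ≫ f = (y ≫ pp') * (y' ≫ pm') * (y ≫ pp') := by
  let r := data G T i α pp pm hpp hpm av h2 hF X
  let r' := data G' T' i' α' pp' pm' hpp' hpm' av' h2' hF' X
  obtain ⟨a, ha, ha'⟩ := exists_unit hx
  obtain ⟨b, hb, hb'⟩ := exists_unit hy'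
  have hinv : ∀ (X' : Over S) (j : X' ⟶ X) (z : X' ⟶ Red.Gm S),
      (j ≫ ((x ≫ pp) * (x' ≫ pm) * (x ≫ pp)) ≫ f) * (((z ≫ av') ^ ((q : ℕ) : ℤ)) ≫ i') *
        (j ≫ ((x ≫ pp) * (x' ≫ pm) * (x ≫ pp)) ≫ f)⁻¹ = (((z ≫ av') ^ ((q : ℕ) : ℤ)) ≫ i')⁻¹ := by
    intro X' j z
    have hjx : Red.gaFn (j ≫ x') * Red.gaFn (j ≫ x) = -1 := by
      rw [gaFn_comp, gaFn_comp]
      exact (map_mul j.left.appTop.hom _ _).symm.trans ((congrArg j.left.appTop.hom hx).trans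
        ((map_neg j.left.appTop.hom 1).trans (congrArg Neg.neg (map_one j.left.appTop.hom))))
    obtain ⟨a', ha1, ha2⟩ := exists_unit hjx
    have hw := R1.w_inv_coroot (data G T i α pp pm hpp hpm av h2 hF X') a' (gmU z)
    rw [data_w a' ha1 ha2, data_V (z := z) rfl] at hw
    have hw' := congrArg (postHom f X') hw
    rw [map_mul, map_mul, map_inv, map_inv, postHom_apply, postHom_apply, h1] at hw'
    rw [zpow_natCast, ← Category.assoc, comp_mul3, ← Category.assoc j, ← Category.assoc j]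
    exact hw'
  obtain ⟨t, ht⟩ := exists_eq_w_mul hT' hG' hpp' hpm' hΩ' h2' hF' (q : ℤ) (by exact_mod_cast hq0.ne')
    (((x ≫ pp) * (x' ≫ pm) * (x ≫ pp)) ≫ f) (gaPt 1) (gaPt (-1)) (gaFn_gaPt _) (gaFn_gaPt _) hinv
  rw [← data_w (hpp := hpp') (hpm := hpm') (h2 := h2') (hF := hF') (x := gaPt 1) (x' := gaPt (-1)) 1
    ((gaFn_gaPt _).trans Units.val_one.symm) ((gaFn_gaPt _).trans (by rw [inv_one, Units.val_one])),
    ← data_C (hpp := hpp') (hpm := hpm') (h2 := h2') (hF := hF')] at ht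
  have ht' : ((x ≫ pp) * (x' ≫ pm) * (x ≫ pp)) ≫ f = r'.w b * r'.C (r'.V b * t) := by
    rw [ht]
    have := r'.w_mul_right b 1
    rw [_root_.mul_one] at this
    rw [this, map_mul, _root_.mul_assoc (r'.w 1), inv_mul_cancel_left]
  have eb : (gmU (toUnit X ≫ c)).val * a.val ^ q = b.val := by
    rw [← hb, hy, ha, val_gmU]
  have hrel := R1.map_w_rel r r' (postHom f X) q (gmU (toUnit X ≫ c))
    (phi_hf hpp hpm h2 hF hpp' hpm' h2' hF' q c f hf X) (data_conj hpp hpm h2 hF) a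
  rw [eb, data_w a ha ha', postHom_apply, ht'] at hrel
  have h3 := R1.eq_w_of_conj_scaled r' (data_conj hpp' hpm' h2' hF') (cell_inj hpp' hpm' hΩ' h2' hF') b _ hrel
  rw [h3, _root_.mul_one, data_w b hb hb'] at ht'
  exact ht'

end Groth.Agent.H21Rank1
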