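import Groth.Agent.H21Rank1.RootMono
import Groth.Agent.H21Rank1.Hom

/-!
Homomorphisms compatible with the tori of two groups of semisimple rank one.
-/

open CategoryTheory MonoidalCategory CartesianMonoidalCategory MonObj GrpObj AlgebraicGeometry
open Groth.Agent.H27Witt.GaCoord (gaFn_comp gaFn_one gaFn_injective gaFn_surjective)

universe u

set_option backward.isDefEq.respectTransparency false
set_option linter.unusedSectionVars false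
set_option linter.unusedVariables false

namespace Groth.Agent.H21Rank1

theorem comp_pow_hom {C : Type*} [Category C] [CartesianMonoidalCategory C] {X Y M : C} [GrpObj M]
    (t : X ⟶ Y) (f : Y ⟶ M) (n : ℕ) : t ≫ (f ^ n) = (t ≫ f) ^ n := by
  induction n with
  | zero => simp [MonObj.comp_one]
  | succ n ih => rw [pow_succ, pow_succ, MonObj.comp_mul, ih]

theorem fun_pow {C : Type*} [Category C] [CartesianMonoidalCategory C] {X M : C} [GrpObj M] {A : Type*} [CommMonoid A]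
    (f : (X ⟶ M) → A) (h1 : f 1 = 1) (hm : ∀ a b, f (a * b) = f a * f b) (w : X ⟶ M) (n : ℕ) :
    f (w ^ n) = f w ^ n := by
  induction n with
  | zero => rw [pow_zero, pow_zero, h1]
  | succ m ih => rw [pow_succ, pow_succ, hm, ih]

variable {S : Scheme.{u}}

theorem gmFn_pow {X : Over S} (w : X ⟶ Red.Gm S) (n : ℕ) : Red.gmFn (w ^ n) = Red.gmFn w ^ n :=
  @fun_pow _ _ _ _ (Red.Gm S) _ _ _ (fun v => Red.gmFn v) gmFn_one (fun a b => gmFn_mul a b) w n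

theorem gmFn_comp_pow {X T : Over S} (t : X ⟶ T) (α : T ⟶ Red.Gm S) (n : ℕ) :
    Red.gmFn (t ≫ (α ^ n)) = Red.gmFn (t ≫ α) ^ n :=
  (congrArg Red.gmFn (@comp_pow_hom _ _ _ _ _ (Red.Gm S) _ t α n)).trans (gmFn_pow _ n)

/-- A positive power of a character non-trivial on every fibre is again such. -/
theorem pow_nontrivial {T : Over S} [GrpObj T] (hT : Red.IsTorus T) (α β : T ⟶ Red.Gm S) [IsMonHom α]
    (hα : ∀ s : S, (Over.pullback (Red.geomPt s)).map α ≠ 1) (q : ℕ) (hq0 : 0 < q)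
    (hβ : ∀ (X : Over S) (t : X ⟶ T), Red.gmFn (t ≫ β) = Red.gmFn (t ≫ α) ^ q) (s : S) :
    (Over.pullback (Red.geomPt s)).map β ≠ 1 := by
  intro h
  let X : Over S := Over.mk (Red.geomPt s)
  obtain ⟨z, hz⟩ := exists_root_unit (R := X.left)
    (Scheme.ΓSpecIso (CommRingCat.of (AlgebraicClosure (S.residueField s)))) (q : ℤ) (by exact_mod_cast hq0.ne')
  obtain ⟨Y, r, t, hf, hs, ht⟩ := exists_lift_char hT α hα (gmPt (X := X) z)
  have h1 := (Groth.Agent.S5421.map_eq_one_iff_points β (Red.geomPt s)).mp h (Over.mk r.left)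
    (Over.homMk t.left ((Over.w t).trans (Over.w r).symm))
  have h2 : t ≫ β = 1 := by
    refine Over.OverMorphism.ext ?_
    refine (congrArg (fun w => w.left) h1).trans ?_
    rw [Hom.one_def, Hom.one_def, Over.comp_left, Over.comp_left]
    exact congrArg (· ≫ _) (Over.w r)
  have h3 : r ≫ gmPt (X := X) (z ^ q) = r ≫ gmPt (X := X) 1 := by
    refine gmFn_injective ?_
    rw [gmFn_comp, gmFn_comp, gmFn_gmPt, gmFn_gmPt, Units.val_pow_eq_pow_val, Units.val_one, map_one,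
      ← gmFn_one (X := Y), ← h2, hβ, ht, gmFn_comp, gmFn_gmPt]
    exact map_pow r.left.appTop.hom _ q
  have h4 := congrArg gmU (eq_of_flat_surjective r h3)
  rw [gmU_gmPt, gmU_gmPt] at h4
  refine hz ?_
  rw [zpow_natCast, mul_pow, h4]
  simp

variable {G T : Over S} [GrpObj G] [GrpObj T] {i : T ⟶ G} [IsMonHom i]
    {α : T ⟶ Red.Gm S} [IsMonHom α] {pp pm : Red.Ga S ⟶ G} [IsMonHom pp] [IsMonHom pm]
variable (hpp : ∀ (X : Over S) (t : X ⟶ T) (x : X ⟶ Red.Ga S), ∃ x' : X ⟶ Red.Ga S,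
      x' ≫ pp = (t ≫ i) * (x ≫ pp) * (t ≫ i)⁻¹ ∧ Red.gaFn x' = Red.gmFn (t ≫ α) * Red.gaFn x)
    (hpm : ∀ (X : Over S) (t : X ⟶ T) (y : X ⟶ Red.Ga S), ∃ y' : X ⟶ Red.Ga S,
      y' ≫ pm = (t ≫ i) * (y ≫ pm) * (t ≫ i)⁻¹ ∧ Red.gaFn y' * Red.gmFn (t ≫ α) = Red.gaFn y)
    {av : Red.Gm S ⟶ T} [IsMonHom av] (h2 : av ≫ α = (𝟙 (Red.Gm S)) ^ 2)
    (hF : ∀ (X : Over S) (x y : X ⟶ Red.Ga S), IsUnit (1 + Red.gaFn x * Red.gaFn y) →
      ∃ (x' y' : X ⟶ Red.Ga S) (z : X ⟶ Red.Gm S), Red.gmFn z = 1 + Red.gaFn x * Red.gaFn y ∧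
        Red.gaFn x' * Red.gmFn z = Red.gaFn x ∧ Red.gaFn y' * Red.gmFn z = Red.gaFn y ∧
        (x ≫ pp) * (y ≫ pm) = (y' ≫ pm) * (z ≫ av ≫ i) * (x' ≫ pp))
variable {G' T' : Over S} [GrpObj G'] [GrpObj T'] {i' : T' ⟶ G'} [IsMonHom i'] [Mono i']
    {α' : T' ⟶ Red.Gm S} [IsMonHom α'] {pp' pm' : Red.Ga S ⟶ G'} [IsMonHom pp'] [IsMonHom pm']
variable (hpp' : ∀ (X : Over S) (t : X ⟶ T') (x : X ⟶ Red.Ga S), ∃ x' : X ⟶ Red.Ga S,
      x' ≫ pp' = (t ≫ i') * (x ≫ pp') * (t ≫ i')⁻¹ ∧ Red.gaFn x' = Red.gmFn (t ≫ α') * Red.gaFn x)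
    (hpm' : ∀ (X : Over S) (t : X ⟶ T') (y : X ⟶ Red.Ga S), ∃ y' : X ⟶ Red.Ga S,
      y' ≫ pm' = (t ≫ i') * (y ≫ pm') * (t ≫ i')⁻¹ ∧ Red.gaFn y' * Red.gmFn (t ≫ α') = Red.gaFn y)
    (hΩ' : IsOpenImmersion (((pm' ⊗ₘ i') ⊗ₘ pp') ≫ (μ[G'] ▷ G') ≫ μ[G']).left)
    (hT' : Red.IsTorus T') (hG' : Red.IsReductive G')
    {av' : Red.Gm S ⟶ T'} [IsMonHom av'] (h2' : av' ≫ α' = (𝟙 (Red.Gm S)) ^ 2)
    (hF' : ∀ (X : Over S) (x y : X ⟶ Red.Ga S), IsUnit (1 + Red.gaFn x * Red.gaFn y) →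
      ∃ (x' y' : X ⟶ Red.Ga S) (z : X ⟶ Red.Gm S), Red.gmFn z = 1 + Red.gaFn x * Red.gaFn y ∧
        Red.gaFn x' * Red.gmFn z = Red.gaFn x ∧ Red.gaFn y' * Red.gmFn z = Red.gaFn y ∧
        (x ≫ pp') * (y ≫ pm') = (y' ≫ pm') * (z ≫ av' ≫ i') * (x' ≫ pp'))
    (q : ℕ) (hq0 : 0 < q) (hq : ∀ (X : Over S) (a b : Γ(X.left, ⊤)), (a + b) ^ q = a ^ q + b ^ q)
    (f : G ⟶ G') [IsMonHom f]

namespace R1

theorem coroot_sq_eq_one {H A Tp H' Tp' : Type*} [Group H] [CommRing A] [Group Tp] [Group H'] [Group Tp']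
    (r : R1 H A Tp) (r' : R1 H' A Tp') (φ : H →* H') (n : ℕ) (hP : ∀ a, φ (r.P a) = 1)
    (hV : ∀ z : Aˣ, φ (r.C (r.V z)) = r'.C (r'.V z ^ n)) (hC : Function.Injective r'.C) (z : Aˣ) :
    (z * z) ^ n * (z * z) ^ n = 1 := by
  have key : ∀ z : Aˣ, r'.C (r'.V z ^ n) = φ (r.N ((↑z⁻¹ - 1) + (↑z - 1))) := fun z => by
    rw [← hV, r.V_eq, map_mul, map_mul, map_mul, hP, hP, _root_.mul_one, _root_.mul_one, ← map_mul, ← r.N_add]
  have h2 := key z⁻¹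
  rw [_root_.inv_inv, _root_.add_comm, ← key z] at h2
  have h3 := congrArg r'.χ (hC h2)
  rw [map_pow, map_pow, r'.hV, r'.hV] at h3
  conv_lhs => arg 1; rw [← h3]
  rw [← mul_pow]
  simp [mul_comm]

end R1

include hpp hpm h2 hF hpp' hpm' h2' hF' hq0 in
theorem weight_isUnit (h1 : ∀ (X : Over S) (z : X ⟶ Red.Gm S), (z ≫ av ≫ i) ≫ f = ((z ≫ av') ^ q) ≫ i')
    (ν : 𝟙_ (Over S) ⟶ Red.Ga S)
    (hν : ∀ (X : Over S) (x y : X ⟶ Red.Ga S), Red.gaFn y = Red.gaFn (toUnit X ≫ ν) * Red.gaFn x ^ q →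
      x ≫ pp ≫ f = y ≫ pp') : IsUnit (Red.gaFn ν) := by
  refine isUnit_of_residue_ne_zero _ _ fun s h0 => ?_
  let L := AlgebraicClosure ((𝟙_ (Over S)).left.residueField s)
  let g : Spec (CommRingCat.of L) ⟶ (𝟙_ (Over S)).left :=
    Spec.map (CommRingCat.ofHom (algebraMap ((𝟙_ (Over S)).left.residueField s) L)) ≫
      (𝟙_ (Over S)).left.fromSpecResidueField s
  let X : Over S := Over.mk (g ≫ (𝟙_ (Over S)).hom)
  let m : X ⟶ 𝟙_ (Over S) := Over.homMk g rfl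
  have hm : Red.gaFn (toUnit X ≫ ν) = 0 := by
    rw [toUnit_unique (toUnit X) m, gaFn_comp]
    change (Spec.map _).appTop (((𝟙_ (Over S)).left.fromSpecResidueField s).appTop (Red.gaFn ν)) = 0
    rw [h0]
    exact map_zero _
  obtain ⟨z, hz⟩ := exists_root_unit (R := X.left) (Scheme.ΓSpecIso (CommRingCat.of L)) (q : ℤ)
    (by exact_mod_cast hq0.ne')
  refine hz ?_
  rw [zpow_natCast]
  refine R1.coroot_sq_eq_one (data G T i α pp pm hpp hpm av h2 hF X)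
    (data G' T' i' α' pp' pm' hpp' hpm' av' h2' hF' X) (postHom f X) q (fun a => ?_) (fun w => ?_)
    (fun u v huv => (cancel_mono i').mp huv) z
  · have h := hν X (gaPt a) 1 (by rw [gaFn_one, hm, zero_mul])
    rw [MonObj.one_comp, ← Category.assoc] at h
    exact h
  · have h := h1 X (gmPt w)
    rw [← Category.assoc (gmPt w) av i] at h
    exact h

include hpp hpm h2 hF hpp' hpm' hΩ' hT' hG' h2' hF' hq0 hq in
theorem existsUnique_scalar [Mono pp'] (hT : Red.IsTorus T) (hα : ∀ s : S, (Over.pullback (Red.geomPt s)).map α ≠ 1)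
    (fT : T ⟶ T') [IsMonHom fT] (hfT : i ≫ f = fT ≫ i') (hfα : fT ≫ α' = α ^ q) (hfav : av ≫ fT = av' ^ q) :
    ∃! c : 𝟙_ (Over S) ⟶ Red.Gm S,
      (∀ (X : Over S) (x y : X ⟶ Red.Ga S), Red.gaFn y = Red.gmFn (toUnit X ≫ c) * Red.gaFn x ^ q →
        (x ≫ pp) ≫ f = y ≫ pp') ∧
      (∀ (X : Over S) (x y : X ⟶ Red.Ga S), Red.gaFn y * Red.gmFn (toUnit X ≫ c) = Red.gaFn x ^ q →
        (x ≫ pm) ≫ f = y ≫ pm') := by
  have hβ : ∀ (X : Over S) (t : X ⟶ T), Red.gmFn (t ≫ fT ≫ α') = Red.gmFn (t ≫ α) ^ q := fun X t => by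
    rw [hfα, gmFn_comp_pow]
  have hfT' : ∀ {X : Over S} (t : X ⟶ T), t ≫ fT ≫ i' = (t ≫ i) ≫ f := fun t => by
    rw [Category.assoc, hfT]
  have hp : ∀ (X : Over S) (t : X ⟶ T) (x x' : X ⟶ Red.Ga S), Red.gaFn x' = Red.gmFn (t ≫ fT ≫ α') * Red.gaFn x →
      x' ≫ pp ≫ f = ((t ≫ fT ≫ i') ^ q) * (x ≫ pp ≫ f) * ((t ≫ fT ≫ i') ^ q)⁻¹ := by
    intro X t x x' h
    obtain ⟨x'', h1, h3⟩ := hpp X (t ^ q) x
    rw [gmFn_pow_comp] at h3
    rw [hβ] at h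
    rw [gaFn_injective (h.trans h3.symm), ← Category.assoc x'' pp f, h1, MonObj.mul_comp, MonObj.mul_comp,
      GrpObj.inv_comp, hfT', pow_comp_hom, pow_comp_hom, Category.assoc x pp f]
  obtain ⟨ν, hν, hν'⟩ := existsUnique_weight hpp' hpm' hΩ' hT' hT (pow_nontrivial hT α _ hα q hq0 hβ) q (pp ≫ f) hp
    (gaPt 1) (gaFn_gaPt _)
  have h1 : ∀ (X : Over S) (z : X ⟶ Red.Gm S), (z ≫ av ≫ i) ≫ f = ((z ≫ av') ^ q) ≫ i' := fun X z => by
    rw [← comp_pow_hom, ← hfav, Category.assoc, Category.assoc, hfT, Category.assoc, Category.assoc]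
  have hu := weight_isUnit hpp hpm h2 hF hpp' hpm' h2' hF' q hq0 f h1 ν hν
  have key : ∀ (c : 𝟙_ (Over S) ⟶ Red.Gm S), Red.gmFn c = Red.gaFn ν → ∀ (X : Over S) (x y : X ⟶ Red.Ga S),
      Red.gaFn y = Red.gmFn (toUnit X ≫ c) * Red.gaFn x ^ q → (x ≫ pp) ≫ f = y ≫ pp' := fun c hc X x y hy => by
    rw [Category.assoc]
    exact hν X x y (by rw [hy, gmFn_comp, gaFn_comp, hc])
  have hfc := key (gmPt hu.unit) (gmFn_gmPt _)
  refine ⟨gmPt hu.unit, ⟨hfc, fun X x y hy => ?_⟩, fun c hc => ?_⟩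
  · exact ii_to_iii hpp hpm h2 hF hpp' hpm' h2' hF' q hq0 hq _ f hfc
      (fun X x x' y y' hx hy hy' => i_to_ii hpp hpm h2 hF hpp' hpm' hΩ' hT' hG' h2' hF' q hq0 hq _ f hfc h1 X x x' y y' hx hy hy')
      X x y hy
  · refine eq_gmPt ?_
    obtain ⟨v, hv⟩ := gaFn_surjective (X := 𝟙_ (Over S)) (Red.gmFn c)
    rw [← hv]
    refine congrArg Red.gaFn (hν' v fun X x y hy => ?_)
    rw [← Category.assoc]
    exact hc.1 X x y (by rw [hy, gaFn_comp, hv, gmFn_comp])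

include hpp hpm h2 hF hpp' hpm' hΩ' hT' hG' h2' hF' hq0 hq in
theorem exists_torus_hom [Mono pp'] (hT : Red.IsTorus T) (c : 𝟙_ (Over S) ⟶ Red.Gm S)
    (hf : ∀ (X : Over S) (x y : X ⟶ Red.Ga S), Red.gaFn y = Red.gmFn (toUnit X ≫ c) * Red.gaFn x ^ q →
      (x ≫ pp) ≫ f = y ≫ pp')
    (hf' : ∀ (X : Over S) (x y : X ⟶ Red.Ga S), Red.gaFn y * Red.gmFn (toUnit X ≫ c) = Red.gaFn x ^ q →
      (x ≫ pm) ≫ f = y ≫ pm') :
    ∃ fT : T ⟶ T', IsMonHom fT ∧ i ≫ f = fT ≫ i' ∧ fT ≫ α' = α ^ q ∧ av ≫ fT = av' ^ q := by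
  have h1 := iii_to_i hpp hpm h2 hF hpp' hpm' h2' hF' q hq0 hq c f hf hf'
  obtain ⟨fT, hfT⟩ := exists_torus_point hT' hG' hpp' hpm' hΩ' h2' hF' (q : ℤ) (by exact_mod_cast hq0.ne') (i ≫ f)
    (fun X' y z => by
      rw [zpow_natCast, ← h1, ← Category.assoc y i f, ← MonObj.mul_comp, ← MonObj.mul_comp, ← Category.assoc z av i,
        ← MonObj.mul_comp, ← MonObj.mul_comp, isTorus_comm hT])
  have hfTm : IsMonHom fT := H21Diag.isMonHom_of_mul fT fun {Z} a b => by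
    rw [← cancel_mono i', MonObj.mul_comp (a ≫ fT) (b ≫ fT) i', Category.assoc, Category.assoc, Category.assoc, hfT,
      ← Category.assoc, ← Category.assoc, ← Category.assoc, ← MonObj.mul_comp, ← MonObj.mul_comp]
  refine ⟨fT, hfTm, hfT.symm, ?_, ?_⟩
  · refine gmFn_injective ?_
    let t : T ⟶ T := 𝟙 T
    rw [show fT ≫ α' = (t ≫ fT) ≫ α' by rw [Category.id_comp], show α ^ q = t ≫ (α ^ q) from (Category.id_comp _).symm,
      gmFn_comp_pow]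
    obtain ⟨x₁, hx1, hx2⟩ := hpp T t (gaPt 1)
    obtain ⟨y₁, hy1, hy2⟩ := hpp' T (t ≫ fT) (gaPt (Red.gmFn (toUnit T ≫ c)))
    have e1 : (gaPt (X := T) 1 ≫ pp) ≫ f = gaPt (Red.gmFn (toUnit T ≫ c)) ≫ pp' :=
      hf T _ _ (by rw [gaFn_gaPt, gaFn_gaPt, one_pow, _root_.mul_one])
    have e2 := hf T x₁ (gaPt (Red.gmFn (toUnit T ≫ c) * Red.gaFn x₁ ^ q)) (gaFn_gaPt _)
    rw [hx1, MonObj.mul_comp, MonObj.mul_comp, GrpObj.inv_comp, e1, Category.assoc t i f, ← hfT,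
      ← Category.assoc t fT i', ← hy1, cancel_mono] at e2
    rw [e2, gaFn_gaPt, gaFn_gaPt, hx2, gaFn_gaPt, _root_.mul_one, _root_.mul_comm] at hy2
    exact ((isUnit_gmFn (toUnit T ≫ c)).mul_right_cancel hy2).symm
  · rw [← cancel_mono i', Category.assoc, hfT, ← Category.assoc]
    have h := h1 (Red.Gm S) (𝟙 _)
    rw [Category.id_comp, Category.id_comp] at h
    exact h

end Groth.Agent.H21Rank1
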