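import Groth.Agent.H21Rank1.Rules

/-!
A cover splitting `1` as a sum of two units, and the conjugation of the positive root group by `w`.
-/

open CategoryTheory MonoidalCategory CartesianMonoidalCategory MonObj GrpObj AlgebraicGeometry

universe u

set_option backward.isDefEq.respectTransparency false

namespace Groth.Agent.H21Rank1

open Polynomial in
theorem exists_root_cover (B : Type u) [CommRing B] (q : B[X]) (hq : q.Monic) (hd : q.natDegree ≠ 0) :
    ∃ (C : Type u) (_ : CommRing C) (f : B →+* C), f.FaithfullyFlat ∧ ∃ c : C, q.eval₂ f c = 0 := by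
  rcases subsingleton_or_nontrivial B with hB | hB
  · exact ⟨B, inferInstance, RingHom.id B, RingHom.FaithfullyFlat.of_bijective Function.bijective_id, 0,
      Subsingleton.elim _ _⟩
  refine ⟨AdjoinRoot q, inferInstance, AdjoinRoot.of q, ?_, AdjoinRoot.root q, AdjoinRoot.eval₂_root q⟩
  have : Module.Free B (AdjoinRoot q) := Module.Free.of_basis (AdjoinRoot.powerBasis' hq).basis
  have : Nontrivial (AdjoinRoot q) := by
    refine nontrivial_of_ne 1 0 fun h => ?_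
    have hd' : 0 < q.degree := natDegree_pos_iff_degree_pos.mp (Nat.pos_of_ne_zero hd)
    exact AdjoinRoot.mk_ne_zero_of_degree_lt hq one_ne_zero (by rwa [degree_one]) (by rw [map_one, h])
  exact RingHom.faithfullyFlat_algebraMap_iff.mpr inferInstance

variable {S : Scheme.{u}}

open Polynomial in
/-- Morphisms agreeing after adjoining a root of a monic polynomial are equal. -/
theorem hom_ext_cover_root {X Z : Over S} {x y : X ⟶ Z} (q : ℤ[X]) (hq : q.Monic) (hd : q.natDegree ≠ 0)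
    (h : ∀ (Y : Over S) (j : Y ⟶ X) (c : Γ(Y.left, ⊤)), q.eval₂ (Int.castRingHom _) c = 0 → j ≫ x = j ≫ y) :
    x = y := by
  refine hom_ext_chart fun B _ t j => ?_
  rcases subsingleton_or_nontrivial B with hB | hB
  · have : IsEmpty (Over.mk t).left := inferInstanceAs (IsEmpty (PrimeSpectrum B))
    ext : 1
    exact (isInitialOfIsEmpty (X := (Over.mk t).left)).hom_ext _ _
  obtain ⟨C, _, f, hf, c, hc⟩ := exists_root_cover B (q.map (Int.castRingHom B)) (hq.map _)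
    (by rwa [hq.natDegree_map])
  rw [eval₂_map, RingHom.ext_int (f.comp (Int.castRingHom B)) (Int.castRingHom C)] at hc
  let p : Over.mk (Spec.map (CommRingCat.ofHom f) ≫ t) ⟶ Over.mk t := Over.homMk (Spec.map (CommRingCat.ofHom f)) rfl
  have hfs : Flat (Spec.map (CommRingCat.ofHom f)) ∧ Surjective (Spec.map (CommRingCat.ofHom f)) :=
    (flat_and_surjective_SpecMap_iff _).mpr hf
  have : Flat (Spec.map (CommRingCat.ofHom f)) := hfs.1
  have : Surjective (Spec.map (CommRingCat.ofHom f)) := hfs.2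
  have : Epi (Spec.map (CommRingCat.ofHom f)) := Flat.epi_of_flat_of_surjective _
  have h1 := congrArg (fun q => q.left)
    (h _ (p ≫ j) ((Scheme.ΓSpecIso (CommRingCat.of C)).inv c) (by
      have h2 := congrArg (Scheme.ΓSpecIso (CommRingCat.of C)).inv.hom hc
      rw [hom_eval₂, map_zero, RingHom.ext_int ((Scheme.ΓSpecIso (CommRingCat.of C)).inv.hom.comp (Int.castRingHom C))
        (Int.castRingHom _)] at h2
      exact h2))
  ext : 1
  refine (cancel_epi (Spec.map (CommRingCat.ofHom f))).mp ?_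
  simpa [p, Category.assoc] using h1

open Polynomial in
theorem hom_ext_cover {X Z : Over S} {x y : X ⟶ Z}
    (h : ∀ (Y : Over S) (j : Y ⟶ X) (c : Γ(Y.left, ⊤)), c * (1 - c) = 1 → j ≫ x = j ≫ y) : x = y :=
  hom_ext_cover_root (Polynomial.X ^ 2 - Polynomial.X + 1) (by monicity!)
    (by have : (Polynomial.X ^ 2 - Polynomial.X + 1 : ℤ[X]).natDegree = 2 := by compute_degree!
        omega)
    fun Y j c hc => h Y j c (by
      simp only [eval₂_add, eval₂_sub, eval₂_X_pow, eval₂_X, eval₂_one] at hc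
      linear_combination -hc)

namespace R1

variable {H A Tp : Type*} [Group H] [CommRing A] [Group Tp] (r : R1 H A Tp)

theorem w_conj_P_of_split (x : Aˣ) (c : A) (hc : c * (1 - c) = 1) :
    r.w x * r.P ↑x * (r.w x)⁻¹ = r.N (-↑x⁻¹) := by
  have h1 := r.w_conj_P_unit x ⟨c, 1 - c, hc, by rw [_root_.mul_comm, hc]⟩ ⟨⟨1 - c, c, by rw [_root_.mul_comm, hc], hc⟩, rfl⟩
  have h2 := r.w_conj_P_unit x ⟨1 - c, c, by rw [_root_.mul_comm, hc], hc⟩
    ⟨⟨c, 1 - c, hc, by rw [_root_.mul_comm, hc]⟩, by simp⟩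
  simp only at h1 h2
  rw [mul_inv_eq_iff_eq_mul]
  calc r.w x * r.P ↑x = r.w x * r.P (c * x) * r.P ((1 - c) * x) := by
        rw [_root_.mul_assoc, ← r.P_add]; congr 2; ring
    _ = r.N (-(c * ↑x⁻¹)) * (r.w x * r.P ((1 - c) * x)) := by rw [h1, _root_.mul_assoc]
    _ = r.N (-↑x⁻¹) * r.w x := by
        rw [h2, ← _root_.mul_assoc, ← r.N_add]; congr 2; ring

end R1

/-- Pulling back a product of three. -/
theorem comp_mul3 {C : Type*} [Category C] [CartesianMonoidalCategory C] {X Y M : C} [GrpObj M] (j : Y ⟶ X)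
    (a b c : X ⟶ M) : j ≫ (a * b * c) = (j ≫ a) * (j ≫ b) * (j ≫ c) := by
  rw [MonObj.comp_mul, MonObj.comp_mul]

theorem comp_conj {C : Type*} [Category C] [CartesianMonoidalCategory C] {X Y M : C} [GrpObj M] (j : Y ⟶ X)
    (a b : X ⟶ M) : j ≫ (a * b * a⁻¹) = (j ≫ a) * (j ≫ b) * (j ≫ a)⁻¹ := by
  rw [MonObj.comp_mul, MonObj.comp_mul, GrpObj.comp_inv]

variable {G T : Over S} [GrpObj G] [GrpObj T] {i : T ⟶ G} [IsMonHom i]
    {α : T ⟶ Red.Gm S} [IsMonHom α] {pp pm : Red.Ga S ⟶ G} [IsMonHom pp] [IsMonHom pm]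
variable (hpp : ∀ (X : Over S) (t : X ⟶ T) (x : X ⟶ Red.Ga S), ∃ x' : X ⟶ Red.Ga S,
      x' ≫ pp = (t ≫ i) * (x ≫ pp) * (t ≫ i)⁻¹ ∧ Red.gaFn x' = Red.gmFn (t ≫ α) * Red.gaFn x)
    (hpm : ∀ (X : Over S) (t : X ⟶ T) (y : X ⟶ Red.Ga S), ∃ y' : X ⟶ Red.Ga S,
      y' ≫ pm = (t ≫ i) * (y ≫ pm) * (t ≫ i)⁻¹ ∧ Red.gaFn y' * Red.gmFn (t ≫ α) = Red.gaFn y)
    {av : Red.Gm S ⟶ T} [IsMonHom av] (h2 : av ≫ α = (𝟙 (Red.Gm S)) ^ 2)
    (hF : ∀ (X : Over S) (x y : X ⟶ Red.Ga S), IsUnit (1 + Red.gaFn x * Red.gaFn y) →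
      ∃ (x' y' : X ⟶ Red.Ga S) (z : X ⟶ Red.Gm S), Red.gmFn z = 1 + Red.gaFn x * Red.gaFn y ∧
        Red.gaFn x' * Red.gmFn z = Red.gaFn x ∧ Red.gaFn y' * Red.gmFn z = Red.gaFn y ∧
        (x ≫ pp) * (y ≫ pm) = (y' ≫ pm) * (z ≫ av ≫ i) * (x' ≫ pp))
    {X : Over S}

include hpp hpm h2 hF

/-- Conjugation of the positive root group element by `w`. -/
theorem w_conj_pp (x x' : X ⟶ Red.Ga S) (hx : Red.gaFn x' * Red.gaFn x = -1) :
    ((x ≫ pp) * (x' ≫ pm) * (x ≫ pp)) * (x ≫ pp) * ((x ≫ pp) * (x' ≫ pm) * (x ≫ pp))⁻¹ = x' ≫ pm := by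
  refine hom_ext_cover fun Y j c hc => ?_
  have hxY : Red.gaFn (j ≫ x') * Red.gaFn (j ≫ x) = -1 :=
    ((congrArg₂ (· * ·) (H27Witt.GaCoord.gaFn_comp j x') (H27Witt.GaCoord.gaFn_comp j x)).trans
      (map_mul j.left.appTop.hom _ _).symm).trans
      ((congrArg j.left.appTop.hom hx).trans ((map_neg j.left.appTop.hom 1).trans (congrArg Neg.neg (map_one j.left.appTop.hom))))
  obtain ⟨a, ha, ha'⟩ := exists_unit hxY
  have h := (data G T i α pp pm hpp hpm av h2 hF Y).w_conj_P_of_split a c hc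
  rw [data_w a ha ha', data_P ha, data_N ha'] at h
  rw [comp_conj, comp_mul3, ← Category.assoc j x pp, ← Category.assoc j x' pm]
  exact h

end Groth.Agent.H21Rank1
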