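import Groth.Agent.H21Rank1.Data

/-!
Endomorphisms of the additive group compatible with scaling.
-/

open CategoryTheory MonoidalCategory CartesianMonoidalCategory MonObj GrpObj AlgebraicGeometry
open Groth.Agent.H21Diag (gval gval_comp gval_injective)
open Groth.Agent.H27Witt.GaCoord (gval_eq gaFn_comp gaFn_one gaFn_injective gaFn_surjective)

universe u

set_option backward.isDefEq.respectTransparency false

namespace Groth.Agent.H21Rank1

variable {S : Scheme.{u}}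

theorem exists_gval {C : Type u} [CommRing C] (s : Spec (CommRingCat.of C) ⟶ S) (a : C) :
    ∃ g : Over.mk s ⟶ Red.Ga S, gval g = a := by
  obtain ⟨g, hg⟩ := gaFn_surjective (X := Over.mk s) ((Scheme.ΓSpecIso (CommRingCat.of C)).inv a)
  refine ⟨g, ((gval_eq g).trans (congrArg _ hg)).trans ?_⟩
  exact congrArg (fun ψ : CommRingCat.of C ⟶ CommRingCat.of C => ψ.hom a) (Scheme.ΓSpecIso (CommRingCat.of C)).inv_hom_id

/-- The coordinate of the image of the point with coordinate `a`. -/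
noncomputable def evFn (φ : Red.Ga S ⟶ Red.Ga S) {C : Type u} [CommRing C] (s : Spec (CommRingCat.of C) ⟶ S) (a : C) : C :=
  gval ((exists_gval s a).choose ≫ φ)

theorem evFn_eq (φ : Red.Ga S ⟶ Red.Ga S) {C : Type u} [CommRing C] (s : Spec (CommRingCat.of C) ⟶ S)
    (g : Over.mk s ⟶ Red.Ga S) : gval (g ≫ φ) = evFn φ s (gval g) :=
  congrArg (fun g => gval (g ≫ φ)) (gval_injective (exists_gval s (gval g)).choose_spec.symm)

theorem evFn_nat (φ : Red.Ga S ⟶ Red.Ga S) {C C' : Type u} [CommRing C] [CommRing C'] (ψ : C →+* C')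
    {s : Spec (CommRingCat.of C) ⟶ S} {s' : Spec (CommRingCat.of C') ⟶ S}
    (h : Spec.map (CommRingCat.ofHom ψ) ≫ s = s') (a : C) : evFn φ s' (ψ a) = ψ (evFn φ s a) := by
  obtain ⟨g, rfl⟩ := exists_gval s a
  let m : Over.mk s' ⟶ Over.mk s := Over.homMk (Spec.map (CommRingCat.ofHom ψ)) h
  rw [← evFn_eq, ← gval_comp ψ g (m ≫ g) rfl, ← evFn_eq]
  exact gval_comp ψ (g ≫ φ) _ rfl

theorem evFn_one_zero (φ : Red.Ga S ⟶ Red.Ga S) (h0 : (1 : 𝟙_ (Over S) ⟶ Red.Ga S) ≫ φ = 1) {C : Type u} [CommRing C]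
    (s : Spec (CommRingCat.of C) ⟶ S) : evFn φ s 0 = 0 := by
  have e : gval (1 : Over.mk s ⟶ Red.Ga S) = 0 := (gval_eq _).trans
    ((congrArg _ gaFn_one).trans (map_zero (Scheme.ΓSpecIso (CommRingCat.of C)).hom.hom))
  have h1 : (1 : Over.mk s ⟶ Red.Ga S) ≫ φ = 1 := by
    have h' : toUnit (Over.mk s) ≫ (1 : 𝟙_ (Over S) ⟶ Red.Ga S) ≫ φ = toUnit (Over.mk s) ≫ 1 := by rw [h0]
    rwa [← Category.assoc, MonObj.comp_one] at h'
  have h2 := evFn_eq φ s (1 : Over.mk s ⟶ Red.Ga S)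
  rw [h1, e] at h2
  exact h2.symm

/-- The scaling relation read on coordinates. -/
theorem evFn_scale (φ : Red.Ga S ⟶ Red.Ga S) (R : ∀ (A : Type u) [CommRing A], A → A → A → Prop)
    (hR : ∀ (A A' : Type u) [CommRing A] [CommRing A'] (ψ : A →+* A') (z a b : A), R A z a b → R A' (ψ z) (ψ a) (ψ b))
    (hφ : ∀ (Y : Over S) (z : Y ⟶ Red.Gm S) (x x' : Y ⟶ Red.Ga S), Red.gaFn x' = Red.gmFn z * Red.gaFn x →
      R Γ(Y.left, ⊤) (Red.gmFn z) (Red.gaFn (x ≫ φ)) (Red.gaFn (x' ≫ φ)))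
    {C : Type u} [CommRing C] (s : Spec (CommRingCat.of C) ⟶ S) (u : Cˣ) (a : C) :
    R C ↑u (evFn φ s a) (evFn φ s (↑u * a)) := by
  obtain ⟨g, rfl⟩ := exists_gval s a
  obtain ⟨g', hg'⟩ := exists_gval s ((u : C) * gval g)
  let u' : (Γ((Over.mk s).left, ⊤) : Type u)ˣ := Units.map (Scheme.ΓSpecIso (CommRingCat.of C)).inv.hom.toMonoidHom u
  have hg : Red.gaFn g' = Red.gmFn (gmPt u') * Red.gaFn g := by
    rw [gmFn_gmPt]
    apply (Scheme.ΓSpecIso (CommRingCat.of C)).commRingCatIsoToRingEquiv.injective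
    rw [map_mul]
    change (Scheme.ΓSpecIso (CommRingCat.of C)).hom _ = (Scheme.ΓSpecIso (CommRingCat.of C)).hom _ * (Scheme.ΓSpecIso (CommRingCat.of C)).hom _
    rw [← gval_eq, ← gval_eq, hg']
    exact congrArg (· * gval g) (Iso.inv_hom_id_apply (Scheme.ΓSpecIso (CommRingCat.of C)) (u : C)).symm
  have h := hR _ C (Scheme.ΓSpecIso (CommRingCat.of C)).hom.hom _ _ _ (hφ _ (gmPt u') g g' hg)
  rw [gmFn_gmPt] at h
  have e1 := evFn_eq φ s g
  have e2 := evFn_eq φ s g'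
  rw [gval_eq] at e1 e2
  rw [hg'] at e2
  rw [← e1, ← e2]
  rw [show (u : C) = (Scheme.ΓSpecIso (CommRingCat.of C)).hom.hom (u' : Γ((Over.mk s).left, ⊤)) from
    (Iso.inv_hom_id_apply (Scheme.ΓSpecIso (CommRingCat.of C)) (u : C)).symm]
  exact h

open Polynomial LaurentPolynomial in
theorem evFn_pow (φ : Red.Ga S ⟶ Red.Ga S) (q : ℕ)
    (hφ : ∀ (Y : Over S) (z : Y ⟶ Red.Gm S) (x x' : Y ⟶ Red.Ga S), Red.gaFn x' = Red.gmFn z * Red.gaFn x →
      Red.gaFn (x' ≫ φ) = Red.gmFn z ^ q * Red.gaFn (x ≫ φ))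
    {B : Type u} [CommRing B] (t : Spec (CommRingCat.of B) ⟶ S) (a : B) :
    evFn φ t a = evFn φ t 1 * a ^ q := by
  let ι₁ : B →+* B[X] := Polynomial.C
  let ι₂ : B[X] →+* B[T;T⁻¹] := Polynomial.toLaurent
  let sD := Spec.map (CommRingCat.ofHom ι₁) ≫ t
  let sE := Spec.map (CommRingCat.ofHom ι₂) ≫ sD
  have hE := evFn_scale φ (fun A _ z a b => b = z ^ q * a)
    (fun A A' _ _ ψ z a b h => by rw [h, map_mul, map_pow]) hφ sE (isUnit_T (R := B) 1).unit 1
  rw [_root_.mul_one, IsUnit.unit_spec, ← Polynomial.toLaurent_X] at hE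
  have h1 : evFn φ sE 1 = ι₂ (ι₁ (evFn φ t 1)) := by
    rw [← evFn_nat φ ι₁ (s' := sD) rfl, ← evFn_nat φ ι₂ (s' := sE) rfl, map_one, map_one]
  have hX : evFn φ sD Polynomial.X = Polynomial.X ^ q * Polynomial.C (evFn φ t 1) := by
    apply Polynomial.toLaurent_injective
    change ι₂ _ = _
    rw [← evFn_nat φ ι₂ (s' := sE) rfl, hE, h1, map_mul, map_pow]
  have hs : Spec.map (CommRingCat.ofHom (Polynomial.evalRingHom a)) ≫ sD = t := by
    rw [← Category.assoc, ← Spec.map_comp, ← CommRingCat.ofHom_comp,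
      show (Polynomial.evalRingHom a).comp ι₁ = RingHom.id B from RingHom.ext fun b => Polynomial.eval_C]
    exact (congrArg (· ≫ t) (Spec.map_id _)).trans (Category.id_comp _)
  have h := evFn_nat φ (Polynomial.evalRingHom a) hs Polynomial.X
  rw [hX, map_mul, map_pow, Polynomial.coe_evalRingHom, Polynomial.eval_X, Polynomial.eval_C] at h
  exact h.trans (_root_.mul_comm _ _)

open Polynomial LaurentPolynomial in
theorem evFn_zero (φ : Red.Ga S ⟶ Red.Ga S) (h0 : (1 : 𝟙_ (Over S) ⟶ Red.Ga S) ≫ φ = 1) (q : ℕ)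
    (hφ : ∀ (Y : Over S) (z : Y ⟶ Red.Gm S) (x x' : Y ⟶ Red.Ga S), Red.gaFn x' = Red.gmFn z * Red.gaFn x →
      Red.gaFn (x' ≫ φ) * Red.gmFn z ^ q = Red.gaFn (x ≫ φ))
    {B : Type u} [CommRing B] (t : Spec (CommRingCat.of B) ⟶ S) (a : B) : evFn φ t a = 0 := by
  let ι₁ : B →+* B[X] := Polynomial.C
  let ι₂ : B[X] →+* B[T;T⁻¹] := Polynomial.toLaurent
  let sD := Spec.map (CommRingCat.ofHom ι₁) ≫ t
  let sE := Spec.map (CommRingCat.ofHom ι₂) ≫ sD
  have hE := evFn_scale φ (fun A _ z a b => b * z ^ q = a)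
    (fun A A' _ _ ψ z a b h => by rw [← map_pow, ← map_mul, h]) hφ sE (isUnit_T (R := B) 1).unit 1
  rw [_root_.mul_one, IsUnit.unit_spec, ← Polynomial.toLaurent_X] at hE
  have h1 : evFn φ sE 1 = ι₂ (ι₁ (evFn φ t 1)) := by
    rw [← evFn_nat φ ι₁ (s' := sD) rfl, ← evFn_nat φ ι₂ (s' := sE) rfl, map_one, map_one]
  have hX : evFn φ sD Polynomial.X * Polynomial.X ^ q = Polynomial.C (evFn φ t 1) := by
    apply Polynomial.toLaurent_injective
    rw [map_mul, map_pow]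
    change ι₂ _ * _ = _
    rw [← evFn_nat φ ι₂ (s' := sE) rfl, hE, h1]
  have hs : ∀ b : B, Spec.map (CommRingCat.ofHom (Polynomial.evalRingHom b)) ≫ sD = t := fun b => by
    rw [← Category.assoc, ← Spec.map_comp, ← CommRingCat.ofHom_comp,
      show (Polynomial.evalRingHom b).comp ι₁ = RingHom.id B from RingHom.ext fun c => Polynomial.eval_C]
    exact (congrArg (· ≫ t) (Spec.map_id _)).trans (Category.id_comp _)
  have h00 : (evFn φ sD Polynomial.X).eval 0 = 0 := by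
    have h := evFn_nat φ (Polynomial.evalRingHom (0 : B)) (hs 0) Polynomial.X
    rw [Polynomial.coe_evalRingHom] at h
    have h' : evFn φ t (Polynomial.eval (0 : B) Polynomial.X) = (evFn φ sD Polynomial.X).eval 0 := h
    rw [Polynomial.eval_X] at h'
    exact h'.symm.trans (evFn_one_zero φ h0 t)
  have hc : evFn φ t 1 = 0 := by
    have := congrArg (fun P => Polynomial.eval 0 P) hX
    simp only [Polynomial.eval_mul, Polynomial.eval_C, h00, zero_mul] at this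
    exact this.symm
  rw [hc, map_zero] at hX
  have hz : evFn φ sD Polynomial.X = 0 := (Polynomial.monic_X_pow q).mul_left_eq_zero_iff.mp hX
  have h := evFn_nat φ (Polynomial.evalRingHom a) (hs a) Polynomial.X
  rw [hz, map_zero, Polynomial.coe_evalRingHom, Polynomial.eval_X] at h
  exact h

/-- An endomorphism of degree `q` for scaling is `ν x ^ q`. -/
theorem gaFn_comp_pow (φ : Red.Ga S ⟶ Red.Ga S) (q : ℕ)
    (hφ : ∀ (Y : Over S) (z : Y ⟶ Red.Gm S) (x x' : Y ⟶ Red.Ga S), Red.gaFn x' = Red.gmFn z * Red.gaFn x →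
      Red.gaFn (x' ≫ φ) = Red.gmFn z ^ q * Red.gaFn (x ≫ φ))
    {X : Over S} (x o : X ⟶ Red.Ga S) (ho : Red.gaFn o = 1) :
    Red.gaFn (x ≫ φ) = Red.gaFn (o ≫ φ) * Red.gaFn x ^ q := by
  obtain ⟨y, hy⟩ := gaFn_surjective (X := X) (Red.gaFn (o ≫ φ) * Red.gaFn x ^ q)
  rw [← hy]
  refine congrArg Red.gaFn (hom_ext_chart fun B _ t j => gval_injective ?_)
  have e1 : gval (j ≫ o) = 1 := by
    rw [gval_eq, gaFn_comp, ho, map_one]; exact map_one _
  rw [← Category.assoc, evFn_eq, evFn_pow φ q hφ, ← e1, ← evFn_eq, gval_eq, gval_eq, gval_eq,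
    Category.assoc, gaFn_comp j (o ≫ φ), gaFn_comp j x, gaFn_comp j y, hy, map_mul, map_pow, map_mul, map_pow]

/-- An endomorphism of negative degree for scaling fixing zero is zero. -/
theorem comp_eq_one (φ : Red.Ga S ⟶ Red.Ga S) (h0 : (1 : 𝟙_ (Over S) ⟶ Red.Ga S) ≫ φ = 1) (q : ℕ)
    (hφ : ∀ (Y : Over S) (z : Y ⟶ Red.Gm S) (x x' : Y ⟶ Red.Ga S), Red.gaFn x' = Red.gmFn z * Red.gaFn x →
      Red.gaFn (x' ≫ φ) * Red.gmFn z ^ q = Red.gaFn (x ≫ φ))
    {X : Over S} (x : X ⟶ Red.Ga S) : x ≫ φ = 1 := by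
  refine hom_ext_chart fun B _ t j => gval_injective ?_
  rw [← Category.assoc, evFn_eq, evFn_zero φ h0 q hφ, MonObj.comp_one, gval_eq, gaFn_one]
  exact (map_zero (Scheme.ΓSpecIso (CommRingCat.of B)).hom.hom).symm

end Groth.Agent.H21Rank1
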