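import Groth.Agent.H21Rank1.Centralizer

/-!
Elements inverting the coroot in rank one.
-/

open CategoryTheory MonoidalCategory CartesianMonoidalCategory MonObj GrpObj AlgebraicGeometry

universe u

set_option backward.isDefEq.respectTransparency false
set_option linter.unusedSectionVars false
set_option linter.unusedVariables false

namespace Groth.Agent.H21Rank1

namespace R1

variable {H A Tp : Type*} [Group H] [CommRing A] [Group Tp] (r : R1 H A Tp)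

theorem w_inv_coroot_pow (z : Aˣ) (n : ℤ) :
    r.w 1 * r.C (r.V z ^ n) * (r.w 1)⁻¹ = (r.C (r.V z ^ n))⁻¹ := by
  rw [r.w_conj, map_zpow r.χ, r.hV, map_zpow r.V, map_zpow, map_zpow, map_mul r.V, map_mul r.C,
    (Commute.refl (r.C (r.V z))).mul_zpow, _root_.mul_inv_rev, inv_mul_cancel_right]

theorem centralizes_of_inverts {u : H} (z : Aˣ) (n : ℤ)
    (hu : u * r.C (r.V z ^ n) * u⁻¹ = (r.C (r.V z ^ n))⁻¹) :
    ((r.w 1)⁻¹ * u) * r.C (r.V z ^ n) = r.C (r.V z ^ n) * ((r.w 1)⁻¹ * u) := by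
  have h := r.w_inv_coroot_pow z n
  rw [← h] at hu
  calc (r.w 1)⁻¹ * u * r.C (r.V z ^ n) = (r.w 1)⁻¹ * (u * r.C (r.V z ^ n) * u⁻¹) * u := by group
    _ = _ := by rw [hu]; group

theorem conj_of_w_mul (hcomm : ∀ s t : Tp, s * t = t * s) (s t : Tp) :
    (r.w 1 * r.C s) * r.C t * (r.w 1 * r.C s)⁻¹ = (r.C (r.V (r.χ t)))⁻¹ * r.C t := by
  have h : r.C s * r.C t * (r.C s)⁻¹ = r.C t := by rw [← map_mul, hcomm, map_mul, mul_inv_cancel_right]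
  rw [← r.w_conj 1 t]
  conv_rhs => rw [← h]
  group

theorem eq_w_of_conj (hc : r.Conj) (hi : r.CellInj) (t : Tp)
    (h : (r.w 1 * r.C t) * r.P 1 * (r.w 1 * r.C t)⁻¹ = (r.P 1)⁻¹ * (r.w 1 * r.C t) * (r.P 1)⁻¹) :
    r.C t = 1 := by
  have hu : (r.w 1 * r.C t) * r.P 1 = r.N (-↑(r.χ t)) * (r.w 1 * r.C t) := by
    have h1 := w_one_conj_P hc (r.χ t)
    have h2 := r.CP t 1
    rw [_root_.mul_one] at h2
    rw [_root_.mul_assoc, h2, ← _root_.mul_assoc, h1, _root_.mul_assoc]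
  have e : r.w 1 = r.P 1 * r.N (-1) * r.P 1 := by simp [w]
  rw [mul_inv_eq_iff_eq_mul.mpr hu] at h
  -- `h : N (-χ t) = P(-1) * (w C t) * P(-1)`
  have h3 : r.N (-↑(r.χ t)) = r.N (-1) * r.C t * r.P (↑(r.χ t)⁻¹ - 1) := by
    rw [h, e, r.P_neg 1 |>.symm]
    calc r.P (-1) * (r.P 1 * r.N (-1) * r.P 1 * r.C t) * r.P (-1)
        = r.P (-1 + 1) * r.N (-1) * (r.P 1 * r.C t) * r.P (-1) := by rw [r.P_add]; group
      _ = r.N (-1) * r.C t * r.P (↑(r.χ t)⁻¹ * 1 + -1) := by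
        rw [neg_add_cancel, r.P_zero, r.PC, r.P_add, _root_.one_mul]; group
      _ = _ := by rw [_root_.mul_one, sub_eq_add_neg]
  obtain ⟨-, ht, -⟩ := hi (-↑(r.χ t)) (-1) 1 t 0 (↑(r.χ t)⁻¹ - 1) (by
    rw [map_one, r.P_zero, _root_.mul_one, _root_.mul_one]; exact h3)
  rw [← ht, map_one]

end R1

variable {S : Scheme.{u}} {G T : Over S} [GrpObj G] [GrpObj T] {i : T ⟶ G} [IsMonHom i]
    {α : T ⟶ Red.Gm S} [IsMonHom α] {pp pm : Red.Ga S ⟶ G} [IsMonHom pp] [IsMonHom pm]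
variable (hT : Red.IsTorus T) (hG : Red.IsReductive G)
    (hpp : ∀ (X : Over S) (t : X ⟶ T) (x : X ⟶ Red.Ga S), ∃ x' : X ⟶ Red.Ga S,
      x' ≫ pp = (t ≫ i) * (x ≫ pp) * (t ≫ i)⁻¹ ∧ Red.gaFn x' = Red.gmFn (t ≫ α) * Red.gaFn x)
    (hpm : ∀ (X : Over S) (t : X ⟶ T) (y : X ⟶ Red.Ga S), ∃ y' : X ⟶ Red.Ga S,
      y' ≫ pm = (t ≫ i) * (y ≫ pm) * (t ≫ i)⁻¹ ∧ Red.gaFn y' * Red.gmFn (t ≫ α) = Red.gaFn y)
    (hΩ : IsOpenImmersion (((pm ⊗ₘ i) ⊗ₘ pp) ≫ (μ[G] ▷ G) ≫ μ[G]).left)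
    {av : Red.Gm S ⟶ T} [IsMonHom av] (h2 : av ≫ α = (𝟙 (Red.Gm S)) ^ 2)
    (hF : ∀ (X : Over S) (x y : X ⟶ Red.Ga S), IsUnit (1 + Red.gaFn x * Red.gaFn y) →
      ∃ (x' y' : X ⟶ Red.Ga S) (z : X ⟶ Red.Gm S), Red.gmFn z = 1 + Red.gaFn x * Red.gaFn y ∧
        Red.gaFn x' * Red.gmFn z = Red.gaFn x ∧ Red.gaFn y' * Red.gmFn z = Red.gaFn y ∧
        (x ≫ pp) * (y ≫ pm) = (y' ≫ pm) * (z ≫ av ≫ i) * (x' ≫ pp))
    [Mono i] (n : ℤ) (hn : n ≠ 0)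


include hT hG hpp hpm hΩ h2 hF hn

theorem centralizer_iff {X : Over S} (g : X ⟶ G) :
    (∀ (X' : Over S) (y : X' ⟶ X) (z : X' ⟶ Red.Gm S),
        (y ≫ g) * (((z ≫ av) ^ n) ≫ i) = (((z ≫ av) ^ n) ≫ i) * (y ≫ g)) ↔ ∃ t : X ⟶ T, t ≫ i = g := by
  refine ⟨exists_torus_point hT hG hpp hpm hΩ h2 hF n hn g, ?_⟩
  rintro ⟨t, rfl⟩ X' y z
  rw [← Category.assoc, ← MonObj.mul_comp, ← MonObj.mul_comp, isTorus_comm hT]

/-- An element inverting a power of the coroot is the Weyl element times a point of the torus. -/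
theorem exists_eq_w_mul {X : Over S} (u : X ⟶ G) (x x' : X ⟶ Red.Ga S) (hx : Red.gaFn x = 1) (hx' : Red.gaFn x' = -1)
    (hu : ∀ (X' : Over S) (y : X' ⟶ X) (z : X' ⟶ Red.Gm S),
      (y ≫ u) * (((z ≫ av) ^ n) ≫ i) * (y ≫ u)⁻¹ = (((z ≫ av) ^ n) ≫ i)⁻¹) :
    ∃ t : X ⟶ T, u = ((x ≫ pp) * (x' ≫ pm) * (x ≫ pp)) * (t ≫ i) := by
  suffices h : ∀ (X' : Over S) (y : X' ⟶ X) (z : X' ⟶ Red.Gm S),
      (y ≫ (((x ≫ pp) * (x' ≫ pm) * (x ≫ pp))⁻¹ * u)) * (((z ≫ av) ^ n) ≫ i) =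
        (((z ≫ av) ^ n) ≫ i) * (y ≫ (((x ≫ pp) * (x' ≫ pm) * (x ≫ pp))⁻¹ * u)) by
    obtain ⟨t, ht⟩ := exists_torus_point hT hG hpp hpm hΩ h2 hF n hn _ h
    exact ⟨t, by rw [ht, mul_inv_cancel_left]⟩
  intro X' y z
  have hY : Red.gaFn (y ≫ x) = ((1 : (Γ(X'.left, ⊤) : Type u)ˣ) : Γ(X'.left, ⊤)) := by
    rw [H27Witt.GaCoord.gaFn_comp, hx, map_one, Units.val_one]
  have hY' : Red.gaFn (y ≫ x') = -(((1 : (Γ(X'.left, ⊤) : Type u)ˣ))⁻¹ : (Γ(X'.left, ⊤) : Type u)ˣ).val := by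
    rw [H27Witt.GaCoord.gaFn_comp, hx', map_neg, map_one, inv_one, Units.val_one]
  have h := hu X' y z
  rw [← data_pow hpp hpm h2 hF n X' z] at h ⊢
  have h' := (data G T i α pp pm hpp hpm av h2 hF X').centralizes_of_inverts (gmU z) n h
  rw [data_w 1 hY hY', Category.assoc, Category.assoc, ← comp_mul3] at h'
  rw [MonObj.comp_mul, GrpObj.comp_inv]
  exact h'

/-- An element inverting a power of the coroot normalises the torus. -/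
theorem conj_torus_of_inverts {X : Over S} (u : X ⟶ G)
    (hu : ∀ (X' : Over S) (y : X' ⟶ X) (z : X' ⟶ Red.Gm S),
      (y ≫ u) * (((z ≫ av) ^ n) ≫ i) * (y ≫ u)⁻¹ = (((z ≫ av) ^ n) ≫ i)⁻¹) (t : X ⟶ T) :
    u * (t ≫ i) * u⁻¹ = (t ≫ α ≫ av ≫ i)⁻¹ * (t ≫ i) := by
  obtain ⟨s, hs⟩ := exists_eq_w_mul hT hG hpp hpm hΩ h2 hF n hn u (gaPt 1) (gaPt (-1)) (gaFn_gaPt _)
    (gaFn_gaPt _) hu
  have h := (data G T i α pp pm hpp hpm av h2 hF X).conj_of_w_mul (isTorus_comm hT) s t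
  rw [data_w (x := gaPt 1) (x' := gaPt (-1)) 1 ((gaFn_gaPt _).trans Units.val_one.symm)
    ((gaFn_gaPt _).trans (by rw [inv_one, Units.val_one])), data_C, data_C, ← hs, data_χ,
    data_V (z := t ≫ α) rfl, Category.assoc] at h
  exact h

/-- An element inverting a power of the coroot is not in the torus at a geometric point. -/
theorem not_torus_of_inverts {X : Over S} {L : Type u} [Field L] [IsAlgClosed L]
    (e : Γ(X.left, ⊤) ≅ CommRingCat.of L) (u : X ⟶ G)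
    (hu : ∀ (X' : Over S) (y : X' ⟶ X) (z : X' ⟶ Red.Gm S),
      (y ≫ u) * (((z ≫ av) ^ n) ≫ i) * (y ≫ u)⁻¹ = (((z ≫ av) ^ n) ≫ i)⁻¹) : ¬ ∃ t : X ⟶ T, t ≫ i = u := by
  rintro ⟨t, rfl⟩
  obtain ⟨z, hz⟩ := exists_root_unit e n hn
  have h := hu X (𝟙 X) (gmPt z)
  have hcm : (t * ((gmPt z ≫ av) ^ n) * t⁻¹) = (gmPt z ≫ av) ^ n := by
    rw [isTorus_comm hT, inv_mul_cancel_left]
  rw [Category.id_comp, ← GrpObj.inv_comp, ← MonObj.mul_comp, ← MonObj.mul_comp, hcm, ← GrpObj.inv_comp,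
    cancel_mono] at h
  have h' : (data G T i α pp pm hpp hpm av h2 hF X).V z ^ n = ((data G T i α pp pm hpp hpm av h2 hF X).V z ^ n)⁻¹ := h
  have h'' := congrArg (data G T i α pp pm hpp hpm av h2 hF X).χ h'
  rw [map_inv, map_zpow, R1.hV] at h''
  exact hz (mul_eq_one_iff_eq_inv.mpr h'')

/-- The Weyl element is determined by inverting the coroot and the braid relation. -/
theorem eq_weyl {X : Over S} (u : X ⟶ G) (x x' : X ⟶ Red.Ga S) (hx : Red.gaFn x = 1) (hx' : Red.gaFn x' = -1)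
    (hu : ∀ (X' : Over S) (y : X' ⟶ X) (z : X' ⟶ Red.Gm S),
      (y ≫ u) * (((z ≫ av) ^ n) ≫ i) * (y ≫ u)⁻¹ = (((z ≫ av) ^ n) ≫ i)⁻¹)
    (hconj : u * (x ≫ pp) * u⁻¹ = (x ≫ pp)⁻¹ * u * (x ≫ pp)⁻¹) :
    u = (x ≫ pp) * (x' ≫ pm) * (x ≫ pp) := by
  obtain ⟨t, ht⟩ := exists_eq_w_mul hT hG hpp hpm hΩ h2 hF n hn u x x' hx hx' hu
  have hw := data_w (hpp := hpp) (hpm := hpm) (h2 := h2) (hF := hF) (x := x) (x' := x') 1
    (hx.trans Units.val_one.symm) (hx'.trans (by rw [inv_one, Units.val_one]))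
  have h := (data G T i α pp pm hpp hpm av h2 hF X).eq_w_of_conj (data_conj hpp hpm h2 hF)
    (cell_inj hpp hpm hΩ h2 hF) t (by
      rw [hw, data_C, data_P hx, ← ht]; exact hconj)
  rw [data_C] at h
  rw [ht, h, _root_.mul_one]

end Groth.Agent.H21Rank1
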