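import Groth.Agent.H21Rank1.Big
import Groth.Agent.H21Rank1.Compat

/-!
The isomorphism theorem in semisimple rank one.
-/

open CategoryTheory MonoidalCategory CartesianMonoidalCategory MonObj GrpObj AlgebraicGeometry
open Groth.Agent.H27Witt.GaCoord (gaFn_comp gaFn_one gaFn_mul gaFn_injective)

universe u

set_option backward.isDefEq.respectTransparency false
set_option linter.unusedSectionVars false
set_option linter.unusedVariables false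

namespace Groth.Agent.H21Rank1

variable {S : Scheme.{u}}

/-- The endomorphism `x ↦ c x ^ q` of the additive group as a morphism. -/
noncomputable def powScale (q : ℕ) (c : 𝟙_ (Over S) ⟶ Red.Gm S) : Red.Ga S ⟶ Red.Ga S :=
  gaPt (Red.gmFn (toUnit (Red.Ga S) ≫ c) * Red.gaFn (𝟙 (Red.Ga S)) ^ q)

theorem comp_powScale (q : ℕ) (c : 𝟙_ (Over S) ⟶ Red.Gm S) {X : Over S} (x : X ⟶ Red.Ga S) :
    Red.gaFn (x ≫ powScale q c) = Red.gmFn (toUnit X ≫ c) * Red.gaFn x ^ q := by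
  have e1 : x.left.appTop (Red.gmFn (toUnit (Red.Ga S) ≫ c)) = Red.gmFn (toUnit X ≫ c) := by
    rw [← gmFn_comp, comp_toUnit_comp]
  have e2 : x.left.appTop (Red.gaFn (𝟙 (Red.Ga S))) = Red.gaFn x := by
    rw [← gaFn_comp, Category.comp_id]
  rw [powScale, gaFn_comp, gaFn_gaPt]
  refine (map_mul x.left.appTop.hom _ _).trans ?_
  exact congrArg₂ (· * ·) e1 ((map_pow x.left.appTop.hom _ q).trans (congrArg (· ^ q) e2))

theorem powScale_isMonHom (q : ℕ) (hq : ∀ (X : Over S) (a b : Γ(X.left, ⊤)), (a + b) ^ q = a ^ q + b ^ q)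
    (c : 𝟙_ (Over S) ⟶ Red.Gm S) : IsMonHom (powScale q c) :=
  H21Diag.isMonHom_of_mul _ fun {Z} a b => gaFn_injective (by
    rw [gaFn_mul, comp_powScale, comp_powScale, comp_powScale, gaFn_mul, hq, mul_add])

theorem comp_inv_mul_self {C : Type*} [Category C] [CartesianMonoidalCategory C] {X Y M : C} [GrpObj M]
    (t : X ⟶ Y) (c : Y ⟶ M) : (t ≫ c⁻¹) * (t ≫ c) = 1 := by
  rw [← MonObj.comp_mul, inv_mul_cancel, MonObj.comp_one]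

theorem gmFn_inv_val {X : Over S} (c : 𝟙_ (Over S) ⟶ Red.Gm S) :
    Red.gmFn (toUnit X ≫ c⁻¹) * Red.gmFn (toUnit X ≫ c) = 1 := by
  exact ((gmFn_mul _ _).symm.trans (congrArg Red.gmFn (@comp_inv_mul_self _ _ _ _ _ (Red.Gm S) _ (toUnit X) c))).trans gmFn_one

variable {G T : Over S} [GrpObj G] [GrpObj T] {i : T ⟶ G} [IsMonHom i]
    {α : T ⟶ Red.Gm S} [IsMonHom α] {pp pm : Red.Ga S ⟶ G} [IsMonHom pp] [IsMonHom pm]
variable (hpp : ∀ (X : Over S) (t : X ⟶ T) (x : X ⟶ Red.Ga S), ∃ x' : X ⟶ Red.Ga S,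
      x' ≫ pp = (t ≫ i) * (x ≫ pp) * (t ≫ i)⁻¹ ∧ Red.gaFn x' = Red.gmFn (t ≫ α) * Red.gaFn x)
    (hpm : ∀ (X : Over S) (t : X ⟶ T) (y : X ⟶ Red.Ga S), ∃ y' : X ⟶ Red.Ga S,
      y' ≫ pm = (t ≫ i) * (y ≫ pm) * (t ≫ i)⁻¹ ∧ Red.gaFn y' * Red.gmFn (t ≫ α) = Red.gaFn y)
    {av : Red.Gm S ⟶ T} [IsMonHom av] (h2 : av ≫ α = (𝟙 (Red.Gm S)) ^ 2)
    (hF : ∀ (X : Over S) (x y : X ⟶ Red.Ga S), IsUnit (1 + Red.gaFn x * Red.gaFn y) →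
      ∃ (x' y' : X ⟶ Red.Ga S) (z : X ⟶ Red.Gm S), Red.gmFn z = 1 + Red.gaFn x * Red.gaFn y ∧
        Red.gaFn x' * Red.gmFn z = Red.gaFn x ∧ Red.gaFn y' * Red.gmFn z = Red.gaFn y ∧
        (x ≫ pp) * (y ≫ pm) = (y' ≫ pm) * (z ≫ av ≫ i) * (x' ≫ pp))
variable {G' T' : Over S} [GrpObj G'] [GrpObj T'] {i' : T' ⟶ G'} [IsMonHom i'] [Mono i']
    {α' : T' ⟶ Red.Gm S} [IsMonHom α'] {pp' pm' : Red.Ga S ⟶ G'} [IsMonHom pp'] [IsMonHom pm']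
variable (hpp' : ∀ (X : Over S) (t : X ⟶ T') (x : X ⟶ Red.Ga S), ∃ x' : X ⟶ Red.Ga S,
      x' ≫ pp' = (t ≫ i') * (x ≫ pp') * (t ≫ i')⁻¹ ∧ Red.gaFn x' = Red.gmFn (t ≫ α') * Red.gaFn x)
    (hpm' : ∀ (X : Over S) (t : X ⟶ T') (y : X ⟶ Red.Ga S), ∃ y' : X ⟶ Red.Ga S,
      y' ≫ pm' = (t ≫ i') * (y ≫ pm') * (t ≫ i')⁻¹ ∧ Red.gaFn y' * Red.gmFn (t ≫ α') = Red.gaFn y)
    (hΩ : IsOpenImmersion (((pm ⊗ₘ i) ⊗ₘ pp) ≫ (μ[G] ▷ G) ≫ μ[G]).left)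
    (hT : Red.IsTorus T) (hG : Red.IsReductive G)
    (hΩ' : IsOpenImmersion (((pm' ⊗ₘ i') ⊗ₘ pp') ≫ (μ[G'] ▷ G') ≫ μ[G']).left)
    (hT' : Red.IsTorus T') (hG' : Red.IsReductive G')
    {av' : Red.Gm S ⟶ T'} [IsMonHom av'] (h2' : av' ≫ α' = (𝟙 (Red.Gm S)) ^ 2)
    (hF' : ∀ (X : Over S) (x y : X ⟶ Red.Ga S), IsUnit (1 + Red.gaFn x * Red.gaFn y) →
      ∃ (x' y' : X ⟶ Red.Ga S) (z : X ⟶ Red.Gm S), Red.gmFn z = 1 + Red.gaFn x * Red.gaFn y ∧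
        Red.gaFn x' * Red.gmFn z = Red.gaFn x ∧ Red.gaFn y' * Red.gmFn z = Red.gaFn y ∧
        (x ≫ pp') * (y ≫ pm') = (y' ≫ pm') * (z ≫ av' ≫ i') * (x' ≫ pp'))
    (q : ℕ) (hq0 : 0 < q) (hq : ∀ (X : Over S) (a b : Γ(X.left, ⊤)), (a + b) ^ q = a ^ q + b ^ q)

include hq in
theorem relations_torus {pr : Red.Ga S ⟶ G'} {u : T ⟶ T'} (hu : ∀ (X : Over S) (t : X ⟶ T), Red.gmFn ((t ≫ u) ≫ α') = Red.gmFn (t ≫ α) ^ q)
    (hpr : ∀ (X : Over S) (t : X ⟶ T') (x : X ⟶ Red.Ga S), ∃ x' : X ⟶ Red.Ga S,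
      x' ≫ pr = (t ≫ i') * (x ≫ pr) * (t ≫ i')⁻¹ ∧ Red.gaFn x' = Red.gmFn (t ≫ α') * Red.gaFn x)
    (c : 𝟙_ (Over S) ⟶ Red.Gm S) (X : Over S) (t : X ⟶ T) (x : X ⟶ Red.Ga S) :
    ∃ x' : X ⟶ Red.Ga S, x' ≫ powScale q c ≫ pr = (t ≫ u ≫ i') * (x ≫ powScale q c ≫ pr) * (t ≫ u ≫ i')⁻¹ ∧
      Red.gaFn x' = Red.gmFn (t ≫ α) * Red.gaFn x := by
  obtain ⟨x₁, h1, h3⟩ := hpr X (t ≫ u) (x ≫ powScale q c)
  refine ⟨gaPt (Red.gmFn (t ≫ α) * Red.gaFn x), ?_, gaFn_gaPt _⟩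
  rw [Category.assoc] at h1
  rw [← Category.assoc x, ← h1, ← Category.assoc]
  refine congrArg (· ≫ pr) (gaFn_injective ?_)
  rw [h3, comp_powScale, comp_powScale, gaFn_gaPt, hu, mul_pow]
  ring

include hq in
theorem relations_torus_neg {pr : Red.Ga S ⟶ G'} {u : T ⟶ T'} (hu : ∀ (X : Over S) (t : X ⟶ T), Red.gmFn ((t ≫ u) ≫ α') = Red.gmFn (t ≫ α) ^ q)
    (hpr : ∀ (X : Over S) (t : X ⟶ T') (y : X ⟶ Red.Ga S), ∃ y' : X ⟶ Red.Ga S,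
      y' ≫ pr = (t ≫ i') * (y ≫ pr) * (t ≫ i')⁻¹ ∧ Red.gaFn y' * Red.gmFn (t ≫ α') = Red.gaFn y)
    (c : 𝟙_ (Over S) ⟶ Red.Gm S) (X : Over S) (t : X ⟶ T) (y : X ⟶ Red.Ga S) :
    ∃ y' : X ⟶ Red.Ga S, y' ≫ powScale q c ≫ pr = (t ≫ u ≫ i') * (y ≫ powScale q c ≫ pr) * (t ≫ u ≫ i')⁻¹ ∧
      Red.gaFn y' * Red.gmFn (t ≫ α) = Red.gaFn y := by
  obtain ⟨y₁, h1, h3⟩ := hpr X (t ≫ u) (y ≫ powScale q c)
  have hy : Red.gaFn (gaPt ((gmU (t ≫ α))⁻¹.val * Red.gaFn y)) * Red.gmFn (t ≫ α) = Red.gaFn y := by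
    rw [gaFn_gaPt, ← val_gmU, _root_.mul_comm ((gmU (t ≫ α))⁻¹.val), Units.inv_mul_cancel_right]
  refine ⟨gaPt ((gmU (t ≫ α))⁻¹.val * Red.gaFn y), ?_, hy⟩
  rw [Category.assoc] at h1
  rw [← Category.assoc y, ← h1, ← Category.assoc]
  refine congrArg (· ≫ pr) (gaFn_injective ((isUnit_gmFn ((t ≫ u) ≫ α')).mul_right_cancel ?_))
  rw [h3, comp_powScale, comp_powScale, hu, _root_.mul_assoc, ← mul_pow, hy]

include hpp hpm h2 hF hpp' hpm' h2' hF' hΩ hT hG hΩ' hT' hG' hq0 hq in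
/-- The isomorphism theorem. -/
theorem existsUnique_hom (c : 𝟙_ (Over S) ⟶ Red.Gm S) (fT : T ⟶ T') [IsMonHom fT] (hfTα : fT ≫ α' = α ^ q)
    (hfTav : av ≫ fT = av' ^ q) :
    (∃! f : G ⟶ G', IsMonHom f ∧ i ≫ f = fT ≫ i' ∧
        ∀ (X : Over S) (x y : X ⟶ Red.Ga S), Red.gaFn y = Red.gmFn (toUnit X ≫ c) * Red.gaFn x ^ q →
          (x ≫ pp) ≫ f = y ≫ pp') ∧
      ∀ f : G ⟶ G', IsMonHom f → i ≫ f = fT ≫ i' →
        (∀ (X : Over S) (x y : X ⟶ Red.Ga S), Red.gaFn y = Red.gmFn (toUnit X ≫ c) * Red.gaFn x ^ q →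
          (x ≫ pp) ≫ f = y ≫ pp') →
        ∀ (X : Over S) (x y : X ⟶ Red.Ga S), Red.gaFn y * Red.gmFn (toUnit X ≫ c) = Red.gaFn x ^ q →
          (x ≫ pm) ≫ f = y ≫ pm' := by
  have := powScale_isMonHom q hq c
  have := powScale_isMonHom q hq c⁻¹
  have hu : ∀ (X : Over S) (t : X ⟶ T), Red.gmFn ((t ≫ fT) ≫ α') = Red.gmFn (t ≫ α) ^ q := fun X t => by
    rw [Category.assoc, hfTα, gmFn_comp_pow]
  have hav : ∀ {X : Over S} (z : X ⟶ Red.Gm S), z ≫ av ≫ fT = (z ≫ av') ^ q := fun z => by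
    rw [hfTav, comp_pow_hom]
  have hneg : ∀ f : G ⟶ G', IsMonHom f → i ≫ f = fT ≫ i' →
      (∀ (X : Over S) (x y : X ⟶ Red.Ga S), Red.gaFn y = Red.gmFn (toUnit X ≫ c) * Red.gaFn x ^ q →
          (x ≫ pp) ≫ f = y ≫ pp') →
      ∀ (X : Over S) (x y : X ⟶ Red.Ga S), Red.gaFn y * Red.gmFn (toUnit X ≫ c) = Red.gaFn x ^ q →
          (x ≫ pm) ≫ f = y ≫ pm' := by
    intro f hfm hfi hfp X x y hy
    have h1 : ∀ (X : Over S) (z : X ⟶ Red.Gm S), (z ≫ av ≫ i) ≫ f = ((z ≫ av') ^ q) ≫ i' := fun X z => by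
      rw [← hav, Category.assoc, Category.assoc, hfi, Category.assoc, Category.assoc]
    exact ii_to_iii hpp hpm h2 hF hpp' hpm' h2' hF' q hq0 hq c f hfp
      (fun X x x' y y' hx hy hy' => i_to_ii hpp hpm h2 hF hpp' hpm' hΩ' hT' hG' h2' hF' q hq0 hq c f hfp h1 X x x' y y' hx hy hy')
      X x y hy
  refine ⟨?_, hneg⟩
  obtain ⟨f, ⟨hfm, hfi, hfp, hfn⟩, huniq⟩ := exists_hom hpp hpm h2 hF hΩ hG hT
    (fT := fT ≫ i') (fP := powScale q c ≫ pp') (fN := powScale q c⁻¹ ≫ pm')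
    (relations_torus q hq hu hpp' c) (relations_torus_neg q hq hu hpm' c⁻¹) (fun X x y hxy => by
      let u := hxy.unit
      let r' := data G' T' i' α' pp' pm' hpp' hpm' av' h2' hF' X
      refine ⟨gaPt (u⁻¹.val * Red.gaFn x), gaPt (u⁻¹.val * Red.gaFn y), gmPt u, gmFn_gmPt u, ?_, ?_, ?_⟩
      · rw [gaFn_gaPt, gmFn_gmPt, _root_.mul_comm u⁻¹.val, Units.inv_mul_cancel_right]
      · rw [gaFn_gaPt, gmFn_gmPt, _root_.mul_comm u⁻¹.val, Units.inv_mul_cancel_right]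
      · have h := r'.F (Red.gmFn (toUnit X ≫ c) * Red.gaFn x ^ q) (Red.gmFn (toUnit X ≫ c⁻¹) * Red.gaFn y ^ q) (u ^ q) (by
          rw [Units.val_pow_eq_pow_val, show u.val = 1 + Red.gaFn x * Red.gaFn y from hxy.unit_spec, hq, one_pow]
          linear_combination -(Red.gaFn x ^ q * Red.gaFn y ^ q) * gmFn_inv_val (X := X) c)
        rw [data_P (x := x ≫ powScale q c) (comp_powScale q c x), data_N (x := y ≫ powScale q c⁻¹) (comp_powScale q c⁻¹ y),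
          data_P (x := gaPt (u⁻¹.val * Red.gaFn x) ≫ powScale q c) (by
            rw [comp_powScale, gaFn_gaPt, mul_pow, ← inv_pow, Units.val_pow_eq_pow_val]; ring),
          data_N (x := gaPt (u⁻¹.val * Red.gaFn y) ≫ powScale q c⁻¹) (by
            rw [comp_powScale, gaFn_gaPt, mul_pow, ← inv_pow, Units.val_pow_eq_pow_val]; ring),
          map_pow] at h
        rw [← Category.assoc x, ← Category.assoc y, ← Category.assoc (gaPt (u⁻¹.val * Red.gaFn y)),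
          ← Category.assoc (gaPt (u⁻¹.val * Red.gaFn x)), ← Category.assoc av, ← Category.assoc (gmPt u), hav]
        exact h)
  refine ⟨f, ⟨hfm, hfi, fun X x y hy => ?_⟩, fun f' hf' => ?_⟩
  · rw [Category.assoc, hfp, ← Category.assoc]
    exact congrArg (· ≫ pp') (gaFn_injective ((comp_powScale q c x).trans hy.symm))
  · refine huniq f' ⟨hf'.1, hf'.2.1, ?_, ?_⟩
    · have h := hf'.2.2 (Red.Ga S) (𝟙 _) (powScale q c) (by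
        rw [← comp_powScale q c (𝟙 _), Category.id_comp])
      rwa [Category.id_comp] at h
    · have h := hneg f' hf'.1 hf'.2.1 hf'.2.2 (Red.Ga S) (𝟙 _) (powScale q c⁻¹) (by
        rw [show powScale q c⁻¹ = 𝟙 _ ≫ powScale q c⁻¹ from (Category.id_comp _).symm, comp_powScale]
        linear_combination (Red.gaFn (𝟙 (Red.Ga S)) ^ q) * gmFn_inv_val (X := Red.Ga S) c)
      rwa [Category.id_comp] at h

end Groth.Agent.H21Rank1
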