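import Groth.Agent.H21Rank1.Iso

/-!
Homomorphisms of rank-one systems inducing an isomorphism on tori.
-/

open CategoryTheory MonoidalCategory CartesianMonoidalCategory MonObj GrpObj AlgebraicGeometry
open Groth.Agent.H27Witt.GaCoord (gaFn_comp gaFn_one gaFn_mul gaFn_injective)

universe u

set_option backward.isDefEq.respectTransparency false
set_option linter.unusedSectionVars false
set_option linter.unusedVariables false

namespace Groth.Agent.H21Rank1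

theorem pow_one_hom {C : Type*} [Category C] [CartesianMonoidalCategory C] {X M : C} [GrpObj M] (f : X ⟶ M) :
    f ^ 1 = f := pow_one f

theorem comp_one_gm {S : Scheme.{u}} {X : Over S} :
    Red.gmFn (toUnit X ≫ (1 : 𝟙_ (Over S) ⟶ Red.Gm S)) = 1 :=
  (congrArg Red.gmFn (@MonObj.comp_one _ _ _ (Red.Gm S) _ _ _ (toUnit X))).trans gmFn_one

variable {S : Scheme.{u}}

variable {G T : Over S} [GrpObj G] [GrpObj T] {i : T ⟶ G} [IsMonHom i]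
    {α : T ⟶ Red.Gm S} [IsMonHom α] {pp pm : Red.Ga S ⟶ G} [IsMonHom pp] [IsMonHom pm]
variable (hpp : ∀ (X : Over S) (t : X ⟶ T) (x : X ⟶ Red.Ga S), ∃ x' : X ⟶ Red.Ga S,
      x' ≫ pp = (t ≫ i) * (x ≫ pp) * (t ≫ i)⁻¹ ∧ Red.gaFn x' = Red.gmFn (t ≫ α) * Red.gaFn x)
    (hpm : ∀ (X : Over S) (t : X ⟶ T) (y : X ⟶ Red.Ga S), ∃ y' : X ⟶ Red.Ga S,
      y' ≫ pm = (t ≫ i) * (y ≫ pm) * (t ≫ i)⁻¹ ∧ Red.gaFn y' * Red.gmFn (t ≫ α) = Red.gaFn y)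
    {av : Red.Gm S ⟶ T} [IsMonHom av] (h2 : av ≫ α = (𝟙 (Red.Gm S)) ^ 2)
    (hF : ∀ (X : Over S) (x y : X ⟶ Red.Ga S), IsUnit (1 + Red.gaFn x * Red.gaFn y) →
      ∃ (x' y' : X ⟶ Red.Ga S) (z : X ⟶ Red.Gm S), Red.gmFn z = 1 + Red.gaFn x * Red.gaFn y ∧
        Red.gaFn x' * Red.gmFn z = Red.gaFn x ∧ Red.gaFn y' * Red.gmFn z = Red.gaFn y ∧
        (x ≫ pp) * (y ≫ pm) = (y' ≫ pm) * (z ≫ av ≫ i) * (x' ≫ pp))
variable {G' T' : Over S} [GrpObj G'] [GrpObj T'] {i' : T' ⟶ G'} [IsMonHom i'] [Mono i']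
    {α' : T' ⟶ Red.Gm S} [IsMonHom α'] {pp' pm' : Red.Ga S ⟶ G'} [IsMonHom pp'] [IsMonHom pm']
variable (hpp' : ∀ (X : Over S) (t : X ⟶ T') (x : X ⟶ Red.Ga S), ∃ x' : X ⟶ Red.Ga S,
      x' ≫ pp' = (t ≫ i') * (x ≫ pp') * (t ≫ i')⁻¹ ∧ Red.gaFn x' = Red.gmFn (t ≫ α') * Red.gaFn x)
    (hpm' : ∀ (X : Over S) (t : X ⟶ T') (y : X ⟶ Red.Ga S), ∃ y' : X ⟶ Red.Ga S,
      y' ≫ pm' = (t ≫ i') * (y ≫ pm') * (t ≫ i')⁻¹ ∧ Red.gaFn y' * Red.gmFn (t ≫ α') = Red.gaFn y)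
    (hΩ : IsOpenImmersion (((pm ⊗ₘ i) ⊗ₘ pp) ≫ (μ[G] ▷ G) ≫ μ[G]).left)
    (hT : Red.IsTorus T) (hG : Red.IsReductive G)
    (hΩ' : IsOpenImmersion (((pm' ⊗ₘ i') ⊗ₘ pp') ≫ (μ[G'] ▷ G') ≫ μ[G']).left)
    (hT' : Red.IsTorus T') (hG' : Red.IsReductive G')
    {av' : Red.Gm S ⟶ T'} [IsMonHom av'] (h2' : av' ≫ α' = (𝟙 (Red.Gm S)) ^ 2)
    (hF' : ∀ (X : Over S) (x y : X ⟶ Red.Ga S), IsUnit (1 + Red.gaFn x * Red.gaFn y) →
      ∃ (x' y' : X ⟶ Red.Ga S) (z : X ⟶ Red.Gm S), Red.gmFn z = 1 + Red.gaFn x * Red.gaFn y ∧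
        Red.gaFn x' * Red.gmFn z = Red.gaFn x ∧ Red.gaFn y' * Red.gmFn z = Red.gaFn y ∧
        (x ≫ pp') * (y ≫ pm') = (y' ≫ pm') * (z ≫ av' ≫ i') * (x' ≫ pp'))

include hpp hpm h2 hF hpp' hpm' h2' hF' hΩ hT hG hΩ' hT' hG' in
theorem isIso_of_torus_iso [Mono i] (c : 𝟙_ (Over S) ⟶ Red.Gm S) (fT : T ⟶ T') [IsMonHom fT] [IsIso fT]
    (hfTα : fT ≫ α' = α) (hfTav : av ≫ fT = av') (f : G ⟶ G') [IsMonHom f] (hfT : i ≫ f = fT ≫ i')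
    (hf : ∀ (X : Over S) (x y : X ⟶ Red.Ga S), Red.gaFn y = Red.gmFn (toUnit X ≫ c) * Red.gaFn x →
      (x ≫ pp) ≫ f = y ≫ pp') : IsIso f := by
  have h11 : ∀ (X : Over S) (a b : Γ(X.left, ⊤)), (a + b) ^ 1 = a ^ 1 + b ^ 1 := fun X a b => by
    rw [pow_one, pow_one, pow_one]
  have : IsMonHom (inv fT) := H21Diag.isMonHom_of_mul (inv fT) fun {Z} a b => by
    rw [← cancel_mono fT, MonObj.mul_comp (a ≫ inv fT) (b ≫ inv fT) fT]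
    simp
  obtain ⟨⟨g, ⟨hgm, hgi, hgp⟩, -⟩, -⟩ := existsUnique_hom hpp' hpm' h2' hF' hpp hpm hΩ' hT' hG' hΩ hT hG h2 hF 1
    one_pos h11 c⁻¹ (inv fT) (((IsIso.inv_comp_eq fT).mpr hfTα.symm).trans (@pow_one_hom _ _ _ _ (Red.Gm S) _ α').symm) (((IsIso.comp_inv_eq fT).mpr hfTav.symm).trans (pow_one_hom av).symm)
  have hgf : g ≫ f = 𝟙 G' := by
    obtain ⟨⟨e, -, huniq⟩, -⟩ := existsUnique_hom hpp' hpm' h2' hF' hpp' hpm' hΩ' hT' hG' hΩ' hT' hG' h2' hF' 1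
      one_pos h11 1 (𝟙 T') ((Category.id_comp _).trans (@pow_one_hom _ _ _ _ (Red.Gm S) _ _).symm) ((Category.comp_id _).trans (pow_one_hom _).symm)
    refine (huniq (g ≫ f) ⟨inferInstance, ?_, fun X x y h => ?_⟩).trans (huniq (𝟙 G') ⟨inferInstance, by simp, fun X x y h => ?_⟩).symm
    · rw [← Category.assoc, hgi, Category.assoc, hfT, ← Category.assoc, IsIso.inv_hom_id]
    · rw [← Category.assoc, hgp X x (gaPt (Red.gmFn (toUnit X ≫ c⁻¹) * Red.gaFn x)) (by rw [gaFn_gaPt, pow_one])]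
      exact hf X _ y (by
        rw [h, pow_one, comp_one_gm, gaFn_gaPt]
        linear_combination -(Red.gaFn x) * gmFn_inv_val (X := X) c)
    · rw [Category.comp_id, gaFn_injective (show Red.gaFn y = Red.gaFn x by
        rw [h, comp_one_gm, pow_one, _root_.one_mul])]
  have hfg : f ≫ g = 𝟙 G := by
    obtain ⟨⟨e, -, huniq⟩, -⟩ := existsUnique_hom hpp hpm h2 hF hpp hpm hΩ hT hG hΩ hT hG h2 hF 1
      one_pos h11 1 (𝟙 T) ((Category.id_comp _).trans (@pow_one_hom _ _ _ _ (Red.Gm S) _ _).symm) ((Category.comp_id _).trans (pow_one_hom _).symm)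
    refine (huniq (f ≫ g) ⟨inferInstance, ?_, fun X x y h => ?_⟩).trans (huniq (𝟙 G) ⟨inferInstance, by simp, fun X x y h => ?_⟩).symm
    · rw [← Category.assoc, hfT, Category.assoc, hgi, ← Category.assoc, IsIso.hom_inv_id]
    · rw [← Category.assoc, hf X x (gaPt (Red.gmFn (toUnit X ≫ c) * Red.gaFn x)) (gaFn_gaPt _)]
      exact hgp X _ y (by
        rw [h, pow_one, pow_one, comp_one_gm, gaFn_gaPt]
        linear_combination -(Red.gaFn x) * gmFn_inv_val (X := X) c)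
    · rw [Category.comp_id, gaFn_injective (show Red.gaFn y = Red.gaFn x by
        rw [h, comp_one_gm, pow_one, _root_.one_mul])]
  exact ⟨g, hfg, hgf⟩

end Groth.Agent.H21Rank1
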