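import Groth.Agent.H21Rank1.Big
import Groth.Agent.H21Rank1.GaProps

/-!
In a group of semisimple rank one the two root groups commute on no geometric fibre.
-/

open CategoryTheory MonoidalCategory CartesianMonoidalCategory MonObj GrpObj AlgebraicGeometry
open Groth.Agent.H27Witt.GaCoord (gaFn_injective)

universe u

set_option backward.isDefEq.respectTransparency false
set_option linter.unusedSectionVars false
set_option linter.unusedVariables false

namespace Groth.Agent.H21Rank1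

variable {S S' : Scheme.{u}} (f : S' ⟶ S)

theorem bcEquiv_post {A B : Over S} (g : A ⟶ B) {Z : Over S'} (x : (Over.map f).obj Z ⟶ A) :
    H21Diag.bcEquiv f B Z (x ≫ g) = H21Diag.bcEquiv f A Z x ≫ (Over.pullback f).map g :=
  (Over.mapPullbackAdj f).homEquiv_naturality_right x g

theorem bcEquiv_symm_post {A B : Over S} (g : A ⟶ B) {Z : Over S'} (x : Z ⟶ Red.bc f A) :
    (H21Diag.bcEquiv f B Z).symm (x ≫ (Over.pullback f).map g) = (H21Diag.bcEquiv f A Z).symm x ≫ g :=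
  (Over.mapPullbackAdj f).homEquiv_naturality_right_symm x g

theorem bcEquiv_symm_inv {A : Over S} [GrpObj A] {Z : Over S'} (x : Z ⟶ Red.bc f A) :
    (H21Diag.bcEquiv f A Z).symm x⁻¹ = ((H21Diag.bcEquiv f A Z).symm x)⁻¹ := by
  refine eq_inv_of_mul_eq_one_left ?_
  rw [← H21Diag.bcEquiv_symm_mul, inv_mul_cancel]
  have h := H21Diag.bcEquiv_symm_mul f A Z 1 1
  rw [_root_.one_mul] at h
  exact left_eq_mul.mp h

theorem comm_pullback {G : Over S} [GrpObj G] {A : Over S} {pp pm : A ⟶ G}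
    (hcom : ∀ (Z : Over S') (x y : Z ⟶ Red.bc f A),
      (x ≫ (Over.pullback f).map pp) * (y ≫ (Over.pullback f).map pm) =
        (y ≫ (Over.pullback f).map pm) * (x ≫ (Over.pullback f).map pp))
    (Y : Over S) (r : Y.left ⟶ S') (hr : r ≫ f = Y.hom) (x y : Y ⟶ A) :
    (x ≫ pp) * (y ≫ pm) = (y ≫ pm) * (x ≫ pp) := by
  let e : (Over.map f).obj (Over.mk r) ⟶ Y := Over.homMk (𝟙 Y.left) ((Category.id_comp _).trans hr.symm)
  have : IsIso e.left := inferInstanceAs (IsIso (𝟙 Y.left))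
  have : Epi e := ⟨fun u v h => Over.OverMorphism.ext ((cancel_epi e.left).mp (congrArg (fun q => q.left) h))⟩
  rw [← cancel_epi e, MonObj.comp_mul, MonObj.comp_mul, ← Category.assoc e x pp, ← Category.assoc e y pm]
  apply (H21Diag.bcEquiv f G (Over.mk r)).injective
  rw [H21Diag.bcEquiv_mul, H21Diag.bcEquiv_mul, bcEquiv_post f pp (e ≫ x), bcEquiv_post f pm (e ≫ y)]
  exact hcom _ _ _

theorem conj_aux {H : Type*} [Group H] {a c x n n' : H} (hn : n' = c * (x * n * x⁻¹) * c⁻¹) (hc : n' * a = a * n') :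
    a * c * x * n * (a * c * x)⁻¹ = n' := by
  calc a * c * x * n * (a * c * x)⁻¹ = a * n' * a⁻¹ := by rw [hn]; group
    _ = n' := by rw [← hc]; group

variable {f}
variable {G T : Over S} [GrpObj G] [GrpObj T] {i : T ⟶ G} [IsMonHom i]
    {α : T ⟶ Red.Gm S} [IsMonHom α] {pp pm : Red.Ga S ⟶ G} [IsMonHom pp] [IsMonHom pm]
variable (hpp : ∀ (X : Over S) (t : X ⟶ T) (x : X ⟶ Red.Ga S), ∃ x' : X ⟶ Red.Ga S,
      x' ≫ pp = (t ≫ i) * (x ≫ pp) * (t ≫ i)⁻¹ ∧ Red.gaFn x' = Red.gmFn (t ≫ α) * Red.gaFn x)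
    (hpm : ∀ (X : Over S) (t : X ⟶ T) (y : X ⟶ Red.Ga S), ∃ y' : X ⟶ Red.Ga S,
      y' ≫ pm = (t ≫ i) * (y ≫ pm) * (t ≫ i)⁻¹ ∧ Red.gaFn y' * Red.gmFn (t ≫ α) = Red.gaFn y)
    (hΩ : IsOpenImmersion (((pm ⊗ₘ i) ⊗ₘ pp) ≫ (μ[G] ▷ G) ≫ μ[G]).left)
    (hG : Red.IsReductive G)
    (hcom : ∀ (Z : Over S') (x y : Z ⟶ Red.bc f (Red.Ga S)),
      (x ≫ (Over.pullback f).map pp) * (y ≫ (Over.pullback f).map pm) =
        (y ≫ (Over.pullback f).map pm) * (x ≫ (Over.pullback f).map pp))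

theorem mul_cells {H : Type*} [Group H] {y t x y' t' x' y'' x'' : H} (hy : y'' = t * y' * t⁻¹)
    (hx : x'' = t'⁻¹ * x * t') (hc : x * y' = y' * x) :
    y * t * x * (y' * t' * x') = (y * y'') * (t * t') * (x'' * x') := by
  rw [hy, hx]
  calc y * t * x * (y' * t' * x') = y * t * (x * y') * t' * x' := by group
    _ = _ := by rw [hc]; group

include hpp hpm hΩ hG hcom in
theorem exists_cell_of_comm (Z : Over S') (g : (Over.map f).obj Z ⟶ G) :
    ∃ z, z ≫ ((pm ⊗ₘ i) ⊗ₘ pp) ≫ (μ[G] ▷ G) ≫ μ[G] = g := by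
  have := hΩ
  have := geometricallyIrreducible_of_isReductive hG
  have := hG.2.1
  obtain ⟨Y, p, a, b, hpf, hps, ha, hb, hab⟩ :=
    exists_split (((pm ⊗ₘ i) ⊗ₘ pp) ≫ (μ[G] ▷ G) ≫ μ[G]).left.opensRange (eta_mem_cell hΩ) g
  obtain ⟨a', rfl⟩ := exists_lift_of_range_subset (((pm ⊗ₘ i) ⊗ₘ pp) ≫ (μ[G] ▷ G) ≫ μ[G]) a ha
  obtain ⟨b', rfl⟩ := exists_lift_of_range_subset (((pm ⊗ₘ i) ⊗ₘ pp) ≫ (μ[G] ▷ G) ≫ μ[G]) b hb
  rw [cell_point_surjective a', cell_point_surjective b'] at hab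
  obtain ⟨y'', hy, -⟩ := hpm Y (a' ≫ fst _ _ ≫ snd _ _) (b' ≫ fst _ _ ≫ fst _ _)
  obtain ⟨x'', hx, -⟩ := hpp Y (b' ≫ fst _ _ ≫ snd _ _)⁻¹ (a' ≫ snd _ _)
  rw [GrpObj.inv_comp, _root_.inv_inv] at hx
  rw [mul_cells hy hx (comm_pullback f hcom Y (p.left ≫ Z.hom) ((Category.assoc _ _ _).trans (Over.w p)) _ _),
    ← MonObj.mul_comp _ _ pm, ← MonObj.mul_comp _ _ i, ← MonObj.mul_comp _ _ pp, ← lift_cell] at hab
  exact exists_lift_of_range_subset _ g (range_subset_of_cover _ g p _ hab.symm)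

include hpp hpm hΩ hG hcom in
/-- If the root groups commute on a fibre the positive one is a normal closed subgroup there. -/
theorem normal_of_comm [IsSeparated (Red.bc f (Red.Ga S)).hom] [IsSeparated (Red.bc f G).hom] :
    IsClosedImmersion ((Over.pullback f).map pp).left ∧ AlgGrp.IsNormalHom ((Over.pullback f).map pp) := by
  have := hΩ
  have hmono := mono_cell (i := i) (pp := pp) (pm := pm) hΩ
  constructor
  · obtain ⟨z, hz⟩ := exists_cell_of_comm hpp hpm hΩ hG hcom (Red.bc f G) ((H21Diag.bcEquiv f G _).symm (𝟙 _))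
    let r : Red.bc f G ⟶ Red.bc f (Red.Ga S) := H21Diag.bcEquiv f (Red.Ga S) _ (z ≫ snd _ _)
    let c := (H21Diag.bcEquiv f (Red.Ga S) _).symm (𝟙 (Red.bc f (Red.Ga S)))
    have e1 : ((Over.map f).map ((Over.pullback f).map pp) ≫ z) ≫ ((pm ⊗ₘ i) ⊗ₘ pp) ≫ (μ[G] ▷ G) ≫ μ[G] =
        lift (lift 1 1) c ≫ ((pm ⊗ₘ i) ⊗ₘ pp) ≫ (μ[G] ▷ G) ≫ μ[G] := by
      rw [Category.assoc, hz, lift_cell, MonObj.one_comp, MonObj.one_comp, _root_.one_mul, _root_.one_mul]
      refine ((Over.mapPullbackAdj f).homEquiv_naturality_left_symm ((Over.pullback f).map pp) (𝟙 _)).symm.trans ?_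
      rw [Category.comp_id]
      exact (congrArg _ (Category.id_comp _).symm).trans (bcEquiv_symm_post f pp (𝟙 _))
    rw [cancel_mono] at e1
    have e2 : (Over.map f).map ((Over.pullback f).map pp) ≫ z ≫ snd _ _ = c := by
      rw [← Category.assoc, e1, lift_snd]
    have hr : (Over.pullback f).map pp ≫ r = 𝟙 _ :=
      ((Over.mapPullbackAdj f).homEquiv_naturality_left _ _).symm.trans
        ((congrArg _ e2).trans ((H21Diag.bcEquiv f (Red.Ga S) _).apply_symm_apply _))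
    have : IsClosedImmersion (((Over.pullback f).map pp).left ≫ r.left) := by
      rw [← Over.comp_left, hr]; exact inferInstanceAs (IsClosedImmersion (𝟙 _))
    have : IsSeparated r.left := by
      have : IsSeparated (r.left ≫ (Red.bc f (Red.Ga S)).hom) := by rw [Over.w r]; infer_instance
      exact IsSeparated.of_comp r.left (Red.bc f (Red.Ga S)).hom
    exact IsClosedImmersion.of_comp _ r.left
  · intro Z g n
    obtain ⟨z, hz⟩ := exists_cell_of_comm hpp hpm hΩ hG hcom Z ((H21Diag.bcEquiv f G Z).symm g)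
    rw [cell_point_surjective] at hz
    obtain ⟨n', hn', -⟩ := hpp _ (z ≫ fst _ _ ≫ snd _ _)
      (z ≫ snd _ _ * (H21Diag.bcEquiv f (Red.Ga S) Z).symm n * (z ≫ snd _ _)⁻¹)
    refine ⟨H21Diag.bcEquiv f (Red.Ga S) Z n', (H21Diag.bcEquiv f G Z).symm.injective ?_⟩
    rw [H21Diag.bcEquiv_symm_mul, H21Diag.bcEquiv_symm_mul, bcEquiv_symm_inv, bcEquiv_symm_post, bcEquiv_symm_post,
      Equiv.symm_apply_apply, ← hz]
    have hn'' := hn'
    rw [MonObj.mul_comp, MonObj.mul_comp, GrpObj.inv_comp] at hn''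
    exact conj_aux hn'' (comm_pullback f hcom ((Over.map f).obj Z) Z.hom rfl n' (z ≫ fst _ _ ≫ fst _ _))

end Groth.Agent.H21Rank1
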