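import Groth.Agent.H21Rank1.Alg

/-!
A torus, one root group and an element inverting the torus: deriving the rank-one rule.
-/

namespace Groth.Agent.H21Rank1

variable (H A Tp : Type*) [Group H] [CommRing A] [Group Tp]

/-- The data of the presentation of a group of semisimple rank one. -/
structure R0 where
  P : A → H
  C : Tp →* H
  χ : Tp →* Aˣ
  V : Aˣ →* Tp
  h : H
  comm : ∀ s t : Tp, s * t = t * s
  P_add : ∀ a b, P (a + b) = P a * P b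
  hV : ∀ z : Aˣ, χ (V z) = z * z
  hP : ∀ t x, C t * P x = P (↑(χ t) * x) * C t
  hh : ∀ t, h * C t * h⁻¹ = C (t * (V (χ t))⁻¹)
  sq : h * h = C (V (-1))
  cube : (h * P 1) ^ 3 = 1

namespace R0

variable {H A Tp} (r : R0 H A Tp)

theorem P_zero : r.P 0 = 1 := by simpa using r.P_add 0 0
theorem P_neg (a : A) : r.P (-a) = (r.P a)⁻¹ :=
  eq_inv_of_mul_eq_one_left (by rw [← r.P_add, neg_add_cancel, r.P_zero])

/-- The negative root group. -/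
def N (y : A) : H := r.h * r.P (-y) * r.h⁻¹

theorem N_add (a b : A) : r.N (a + b) = r.N a * r.N b := by
  rw [N, N, N, neg_add, r.P_add]; group

theorem PC (t : Tp) (x : A) : r.P x * r.C t = r.C t * r.P (↑(r.χ t)⁻¹ * x) := by
  rw [r.hP, ← mul_assoc, Units.mul_inv, one_mul]

theorem χ_conj (t : Tp) : r.χ (t * (r.V (r.χ t))⁻¹) = (r.χ t)⁻¹ := by
  rw [map_mul, map_inv, r.hV, mul_inv, ← mul_assoc, mul_inv_cancel, one_mul]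

theorem hC (t : Tp) : r.h * r.C t = r.C (t * (r.V (r.χ t))⁻¹) * r.h := by
  rw [← r.hh]; group

theorem Ch (t : Tp) : r.C t * r.h = r.h * r.C (t * (r.V (r.χ t))⁻¹) := by
  rw [r.hC, r.χ_conj, map_inv, inv_inv, inv_mul_cancel_right]

theorem CN (t : Tp) (y : A) : r.C t * r.N (↑(r.χ t) * y) = r.N y * r.C t := by
  have e2 : r.h⁻¹ * r.C t = r.C (t * (r.V (r.χ t))⁻¹) * r.h⁻¹ := by
    rw [eq_mul_inv_iff_mul_eq, mul_assoc, r.Ch]; group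
  calc r.C t * r.N (↑(r.χ t) * y)
      = (r.C t * r.h) * r.P (-(↑(r.χ t) * y)) * r.h⁻¹ := by rw [N]; group
    _ = r.h * (r.C (t * (r.V (r.χ t))⁻¹) * r.P (-(↑(r.χ t) * y))) * r.h⁻¹ := by rw [r.Ch]; group
    _ = r.h * r.P (-y) * (r.h⁻¹ * r.C t) := by
        rw [r.hP, r.χ_conj, e2, mul_neg, ← mul_assoc (↑(r.χ t)⁻¹ : A), Units.inv_mul, one_mul]; group
    _ = r.N y * r.C t := by rw [N]; group

theorem eps_sq : r.C (r.V (-1)) * r.C (r.V (-1)) = 1 := by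
  rw [← map_mul, ← map_mul]; simp

theorem h_inv : r.h⁻¹ = r.C (r.V (-1)) * r.h :=
  inv_eq_of_mul_eq_one_right (by rw [← r.sq, ← mul_assoc, ← mul_assoc, r.sq, mul_assoc, r.sq, r.eps_sq])

theorem eps_P (x : A) : r.C (r.V (-1)) * r.P x = r.P x * r.C (r.V (-1)) := by
  rw [r.hP, r.hV]; simp

theorem conj_P_one : r.h * r.P 1 * r.h⁻¹ = r.P (-1) * r.h * r.P (-1) := by
  have hc := r.cube
  rw [pow_succ, pow_two] at hc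
  have e : r.h * r.P 1 * r.h = r.P (-1) * r.h⁻¹ * r.P (-1) := by
    rw [r.P_neg]
    calc r.h * r.P 1 * r.h = (r.h * r.P 1 * (r.h * r.P 1) * (r.h * r.P 1)) * ((r.P 1)⁻¹ * r.h⁻¹ * (r.P 1)⁻¹) := by
          group
      _ = _ := by rw [hc, one_mul]
  have e' : r.C (r.V (-1)) * r.h = r.h * r.C (r.V (-1)) := by rw [← r.sq, mul_assoc]
  calc r.h * r.P 1 * r.h⁻¹ = r.h * (r.C (r.V (-1)) * r.P 1) * r.h := by rw [r.eps_P, r.h_inv]; group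
    _ = r.C (r.V (-1)) * (r.h * r.P 1 * r.h) := by rw [← mul_assoc r.h, ← e']; group
    _ = r.P (-1) * (r.C (r.V (-1)) * r.C (r.V (-1))) * r.h * r.P (-1) := by
        rw [e, r.h_inv, ← mul_assoc, ← mul_assoc, r.eps_P]; group
    _ = _ := by rw [r.eps_sq, mul_one]

/-- A unit value of the negative root group, given a point of the torus lifting it. -/
theorem N_of_lift (s : Tp) (v : Aˣ) (hs : r.χ s = -v) :
    r.N ↑v = r.P ↑v⁻¹ * r.C (r.V (-v⁻¹)) * r.h * r.P ↑v⁻¹ := by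
  have hP : r.P (-(v : A)) = r.C s * r.P 1 * (r.C s)⁻¹ := by
    rw [eq_mul_inv_iff_mul_eq, r.hP, hs, mul_one, Units.val_neg]
  have h1 := r.hC s
  have hχ' := r.χ_conj s
  have h2 := r.hC (s * (r.V (r.χ s))⁻¹)
  rw [hχ', map_inv, inv_inv, inv_mul_cancel_right] at h2
  have hVs : r.C (r.V (-v⁻¹)) = r.C (s * (r.V (r.χ s))⁻¹) * (r.C s)⁻¹ := by
    rw [← map_inv r.C, ← map_mul r.C, r.comm s, mul_inv_cancel_right, hs, ← map_inv r.V, inv_neg]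
  rw [hVs]
  generalize s * (r.V (r.χ s))⁻¹ = s' at h1 hχ' h2 ⊢
  have hp' : r.C s' * r.P (-1) = r.P ↑v⁻¹ * r.C s' := by
    rw [r.hP, hχ', hs]
    simp [inv_neg]
  have h2' : r.h * (r.C s')⁻¹ = (r.C s)⁻¹ * r.h := by
    rw [mul_inv_eq_iff_eq_mul, mul_assoc, h2]; group
  calc r.N ↑v = (r.h * r.C s) * r.P 1 * ((r.C s)⁻¹ * r.h⁻¹) := by rw [N, hP]; group
    _ = r.C s' * (r.h * r.P 1 * r.h⁻¹) * (r.C s')⁻¹ := by
        have e : (r.C s)⁻¹ * r.h⁻¹ = r.h⁻¹ * (r.C s')⁻¹ := by rw [← mul_inv_rev, ← mul_inv_rev, h1]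
        rw [h1, e]; group
    _ = r.C s' * r.P (-1) * r.h * (r.C s' * (r.P (-1))⁻¹)⁻¹ := by rw [r.conj_P_one]; group
    _ = r.P ↑v⁻¹ * r.C s' * r.h * (r.C s')⁻¹ * r.P ↑v⁻¹ := by
        have e : r.C s' * (r.P (-1))⁻¹ = (r.P ↑v⁻¹)⁻¹ * r.C s' := by
          rw [mul_inv_eq_iff_eq_mul, mul_assoc, hp']; group
        rw [hp', e]; group
    _ = _ := by rw [mul_assoc _ r.h, h2']; group

/-- The rule for a unit of the negative root group. -/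
theorem F_unit (x : A) (v z : Aˣ) (hz : (z : A) = 1 + x * ↑v)
    (hv : r.N ↑v = r.P ↑v⁻¹ * r.C (r.V (-v⁻¹)) * r.h * r.P ↑v⁻¹)
    (hw : r.N ↑(z⁻¹ * v) = r.P ↑(z⁻¹ * v)⁻¹ * r.C (r.V (-(z⁻¹ * v)⁻¹)) * r.h * r.P ↑(z⁻¹ * v)⁻¹) :
    r.P x * r.N ↑v = r.N (↑z⁻¹ * ↑v) * r.C (r.V z) * r.P (↑z⁻¹ * x) := by
  have eh : r.h * r.C (r.V z) = r.C (r.V z)⁻¹ * r.h := by
    rw [r.hC, r.hV, map_mul r.V]
    congr 2
    group
  have ex : x + ↑v⁻¹ = ↑(z⁻¹ * v)⁻¹ := by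
    rw [mul_inv, inv_inv, Units.val_mul, hz, add_mul, one_mul, mul_assoc, Units.mul_inv, mul_one, add_comm]
  have ey : ↑(r.χ (r.V z))⁻¹ * ↑(z⁻¹ * v)⁻¹ + ↑z⁻¹ * x = (↑v⁻¹ : A) := by
    rw [r.hV, mul_inv, mul_inv z⁻¹ v, inv_inv]
    push_cast
    linear_combination (↑z⁻¹ * ↑v⁻¹ + ↑v⁻¹ : A) * z.inv_mul - (↑z⁻¹ * ↑v⁻¹ : A) * hz - (↑z⁻¹ * x : A) * v.mul_inv
  have eV : r.V (-(z⁻¹ * v)⁻¹) * (r.V z)⁻¹ = r.V (-v⁻¹) := by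
    rw [← map_inv, ← map_mul]
    congr 1
    ext
    simp only [mul_inv, inv_inv, Units.val_neg, Units.val_mul]
    linear_combination -(↑v⁻¹ : A) * z.mul_inv
  rw [← Units.val_mul, hw, hv]
  calc r.P x * (r.P ↑v⁻¹ * r.C (r.V (-v⁻¹)) * r.h * r.P ↑v⁻¹)
      = r.P ↑(z⁻¹ * v)⁻¹ * r.C (r.V (-v⁻¹)) * r.h * r.P ↑v⁻¹ := by rw [← ex, r.P_add]; group
    _ = r.P ↑(z⁻¹ * v)⁻¹ * (r.C (r.V (-(z⁻¹ * v)⁻¹)) * r.C (r.V z)⁻¹) * r.h *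
          r.P (↑(r.χ (r.V z))⁻¹ * ↑(z⁻¹ * v)⁻¹ + ↑z⁻¹ * x) := by rw [ey, ← map_mul, eV]
    _ = r.P ↑(z⁻¹ * v)⁻¹ * r.C (r.V (-(z⁻¹ * v)⁻¹)) * r.h * r.C (r.V z) *
          r.P (↑(r.χ (r.V z))⁻¹ * ↑(z⁻¹ * v)⁻¹) * r.P (↑z⁻¹ * x) := by
        rw [r.P_add, mul_assoc _ r.h (r.C (r.V z)), eh]; group
    _ = _ := by
        rw [mul_assoc _ (r.C (r.V z)) (r.P _), ← r.PC]; group

/-- The rule for a sum. -/
theorem F_add (x a b : A) (z₁ z : Aˣ) (h1 : (z₁ : A) = 1 + x * a) (h : (z : A) = 1 + x * (a + b))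
    (ha : r.P x * r.N a = r.N (↑z₁⁻¹ * a) * r.C (r.V z₁) * r.P (↑z₁⁻¹ * x))
    (hb : r.P (↑z₁⁻¹ * x) * r.N b =
      r.N (↑(z₁⁻¹ * z)⁻¹ * b) * r.C (r.V (z₁⁻¹ * z)) * r.P (↑(z₁⁻¹ * z)⁻¹ * (↑z₁⁻¹ * x))) :
    r.P x * r.N (a + b) = r.N (↑z⁻¹ * (a + b)) * r.C (r.V z) * r.P (↑z⁻¹ * x) := by
  have e1 : ↑z₁⁻¹ * a + ↑(r.χ (r.V z₁))⁻¹ * (↑(z₁⁻¹ * z)⁻¹ * b) = ↑z⁻¹ * (a + b) := by
    rw [r.hV, mul_inv, mul_inv z₁⁻¹ z, inv_inv]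
    push_cast
    linear_combination (↑z⁻¹ * ↑z₁⁻¹ * b + ↑z⁻¹ * (a + b) : A) * z₁.mul_inv - (↑z₁⁻¹ * a : A) * z.mul_inv +
      (↑z⁻¹ * ↑z₁⁻¹ * a : A) * h - (↑z⁻¹ * ↑z₁⁻¹ * (a + b) : A) * h1
  have e2 : (↑(z₁⁻¹ * z)⁻¹ : A) * (↑z₁⁻¹ * x) = ↑z⁻¹ * x := by
    rw [← mul_assoc, ← Units.val_mul]
    congr 2
    simp [mul_comm]
  calc r.P x * r.N (a + b) = (r.P x * r.N a) * r.N b := by rw [r.N_add]; group
    _ = r.N (↑z₁⁻¹ * a) * r.C (r.V z₁) * (r.P (↑z₁⁻¹ * x) * r.N b) := by rw [ha]; group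
    _ = r.N (↑z₁⁻¹ * a) * (r.C (r.V z₁) * r.N (↑(z₁⁻¹ * z)⁻¹ * b)) * r.C (r.V (z₁⁻¹ * z)) * r.P (↑z⁻¹ * x) := by
        rw [hb, e2]; group
    _ = _ := by
        have e := r.CN (r.V z₁) (↑(r.χ (r.V z₁))⁻¹ * (↑(z₁⁻¹ * z)⁻¹ * b))
        rw [← mul_assoc (r.χ (r.V z₁) : A), Units.mul_inv, one_mul] at e
        rw [e, ← e1, r.N_add, map_mul r.V, map_mul r.C, map_inv, map_inv]
        group

end R0

end Groth.Agent.H21Rank1
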