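import Groth.Agent.H21Rank1.Big
import Groth.Agent.H21Rank1.Braid
import Groth.Agent.H21Rank1.PresAlg

/-!
Generators and relations for a group of semisimple rank one.
-/

open CategoryTheory MonoidalCategory CartesianMonoidalCategory MonObj GrpObj AlgebraicGeometry
open Groth.Agent.H27Witt.GaCoord (gaFn_comp gaFn_one gaFn_injective gaFn_mul)

universe u

set_option backward.isDefEq.respectTransparency false
set_option linter.unusedSectionVars false
set_option linter.unusedVariables false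

namespace Groth.Agent.H21Rank1

variable {S : Scheme.{u}}

theorem appTop_comp {A B C : Over S} (f : A ⟶ B) (g : B ⟶ C) (w : Γ(C.left, ⊤)) :
    (f ≫ g).left.appTop w = f.left.appTop (g.left.appTop w) := rfl

theorem isUnit_parts {R R' : Type*} [CommRing R] [CommRing R'] (φ : R →+* R') (y x a : R)
    (h : IsUnit (φ ((y - a) * (1 + x * a)))) : IsUnit (φ y - φ a) ∧ IsUnit (1 + φ x * φ a) := by
  rwa [map_mul, map_sub, map_add, map_one, map_mul, IsUnit.mul_iff] at h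

theorem local_split {R : Type*} [CommRing R] [IsLocalRing R] (x y c : R) (hc : IsUnit (1 - c)) (hxy : IsUnit (1 + x * y))
    (hy : ¬ IsUnit y) (hc' : IsUnit c) :
    (IsUnit (y - 1) ∧ IsUnit (1 + x)) ∨ (IsUnit (y - c) ∧ IsUnit (1 + x * c)) := by
  have hy1 : ∀ d : R, IsUnit d → IsUnit (y - d) := fun d hd => by
    have h' := IsLocalRing.isUnit_or_isUnit_of_isUnit_add (a := y) (b := d - y) (by simpa using hd)
    rcases h' with h' | h'
    · exact absurd h' hy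
    · simpa using h'.neg
  by_cases hx : IsUnit (1 + x)
  · exact .inl ⟨hy1 1 isUnit_one, hx⟩
  refine .inr ⟨hy1 c hc', ?_⟩
  rcases IsLocalRing.isUnit_or_isUnit_of_isUnit_add (a := 1 + x * c) (b := -(c * (1 + x)))
    (by convert hc using 1; ring) with h | h
  · exact h
  · exact absurd (IsUnit.mul_iff.mp (by simpa using h.neg : IsUnit (c * (1 + x)))).2 hx

theorem split_step {X Z : Over S} {u v : X ⟶ Z} (x y : Γ(X.left, ⊤))
    (h0 : ∀ (Y : Over S) (j : Y ⟶ X), IsUnit (j.left.appTop y) → j ≫ u = j ≫ v)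
    (h1 : ∀ (Y : Over S) (j : Y ⟶ X) (a : Γ(Y.left, ⊤)), IsUnit a → IsUnit (j.left.appTop y - a) →
      IsUnit (1 + j.left.appTop x * a) → j ≫ u = j ≫ v)
    {W Y : Over S} (j : Y ⟶ X) (k : W ⟶ Y) (f : Γ(Y.left, ⊤)) (hkf : IsUnit (k.left.appTop f))
    (hf : f = j.left.appTop y ∨ ∃ a : Γ(Y.left, ⊤), IsUnit a ∧
      f = (j.left.appTop y - a) * (1 + j.left.appTop x * a)) : k ≫ j ≫ u = k ≫ j ≫ v := by
  rw [← Category.assoc, ← Category.assoc]
  rcases hf with rfl | ⟨a, ha, rfl⟩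
  · exact h0 _ _ (by rw [appTop_comp]; exact hkf)
  · obtain ⟨hk1, hk2⟩ := isUnit_parts k.left.appTop.hom (j.left.appTop y) (j.left.appTop x) a hkf
    refine h1 _ _ (k.left.appTop a) (ha.map k.left.appTop.hom) ?_ ?_
    · rw [appTop_comp]; exact hk1
    · rw [appTop_comp]; exact hk2

/-- Morphisms agree if they agree where one coordinate is a unit or a sum of two suitable units. -/
theorem hom_ext_split {X Z : Over S} {u v : X ⟶ Z} (x y : Γ(X.left, ⊤)) (hxy : IsUnit (1 + x * y))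
    (h0 : ∀ (Y : Over S) (j : Y ⟶ X), IsUnit (j.left.appTop y) → j ≫ u = j ≫ v)
    (h1 : ∀ (Y : Over S) (j : Y ⟶ X) (a : Γ(Y.left, ⊤)), IsUnit a → IsUnit (j.left.appTop y - a) →
      IsUnit (1 + j.left.appTop x * a) → j ≫ u = j ≫ v) : u = v := by
  refine hom_ext_cover fun Y j c hc => ?_
  ext : 1
  refine Scheme.hom_ext_of_forall _ _ fun p => ?_
  have hu : ∀ f : Γ(Y.left, ⊤), IsUnit ((Y.left.basicOpen f).ι.appTop f) := fun f => by
    refine RingedSpace.isUnit_of_isUnit_germ (Y.left.basicOpen f).toScheme.toRingedSpace ⊤ _ fun q hq => ?_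
    refine ((Y.left.basicOpen f).toScheme.toRingedSpace.mem_basicOpen (U := ⊤) _ q hq).mp ?_
    show q ∈ (Y.left.basicOpen f).toScheme.basicOpen ((Y.left.basicOpen f).ι.appTop f)
    rw [← Scheme.preimage_basicOpen_top, Scheme.Opens.ι_preimage_self]
    trivial
  let g := (Y.left.presheaf.germ ⊤ p trivial).hom
  have hcu : IsUnit c := IsUnit.of_mul_eq_one _ hc
  have hcu' : IsUnit (1 - c) := IsUnit.of_mul_eq_one c ((_root_.mul_comm _ _).trans hc)
  have hxy' : IsUnit (1 + g (j.left.appTop x) * g (j.left.appTop y)) := by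
    have := (hxy.map j.left.appTop.hom).map g
    rwa [map_add, map_one, map_mul, map_add, map_one, map_mul] at this
  have key : ∃ f : Γ(Y.left, ⊤), p ∈ Y.left.basicOpen f ∧ (f = j.left.appTop y ∨ ∃ a : Γ(Y.left, ⊤), IsUnit a ∧
      f = (j.left.appTop y - a) * (1 + j.left.appTop x * a)) := by
    by_cases hy : IsUnit (g (j.left.appTop y))
    · exact ⟨_, (Y.left.mem_basicOpen (U := ⊤) _ p trivial).mpr hy, .inl rfl⟩
    rcases local_split (g (j.left.appTop x)) (g (j.left.appTop y)) (g c) (by simpa using hcu'.map g) hxy' hy (hcu.map g) with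
      ⟨h, h'⟩ | ⟨h, h'⟩
    · refine ⟨_, (Y.left.mem_basicOpen (U := ⊤) _ p trivial).mpr ?_, .inr ⟨1, isUnit_one, rfl⟩⟩
      have := h.mul h'
      simpa [g] using this
    · refine ⟨_, (Y.left.mem_basicOpen (U := ⊤) _ p trivial).mpr ?_, .inr ⟨c, hcu, rfl⟩⟩
      have := h.mul h'
      simpa [g] using this
  obtain ⟨f, hp, hf⟩ := key
  refine ⟨_, hp, ?_⟩
  exact congrArg (fun r => r.left)
    (split_step x y h0 h1 j (Over.homMk (Y.left.basicOpen f).ι rfl :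
      Over.mk ((Y.left.basicOpen f).ι ≫ Y.hom) ⟶ Y) f (hu f) hf)

theorem gmPt_comp {X Y : Over S} (f : Y ⟶ X) (a : (Γ(X.left, ⊤) : Type u)ˣ) :
    f ≫ gmPt a = gmPt (Units.map f.left.appTop.hom.toMonoidHom a) :=
  eq_gmPt ((gmFn_comp f _).trans (congrArg _ (gmFn_gmPt a)))

variable {T H : Over S} [GrpObj T] [GrpObj H] {α : T ⟶ Red.Gm S} [IsMonHom α]
    {av : Red.Gm S ⟶ T} [IsMonHom av] {fT : T ⟶ H} [IsMonHom fT] {fα : Red.Ga S ⟶ H} [IsMonHom fα]
    (h : 𝟙_ (Over S) ⟶ H) {e₁ : 𝟙_ (Over S) ⟶ Red.Ga S} (he₁ : Red.gaFn e₁ = 1)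
    {m : 𝟙_ (Over S) ⟶ Red.Gm S} (hm : Red.gmFn m = -1)
    (hT : Red.IsTorus T) (h2 : av ≫ α = (𝟙 (Red.Gm S)) ^ 2)
    (hP : ∀ (X : Over S) (t : X ⟶ T) (x : X ⟶ Red.Ga S), ∃ x' : X ⟶ Red.Ga S,
      x' ≫ fα = (t ≫ fT) * (x ≫ fα) * (t ≫ fT)⁻¹ ∧ Red.gaFn x' = Red.gmFn (t ≫ α) * Red.gaFn x)
    (hh : ∀ (X : Over S) (t : X ⟶ T), (toUnit X ≫ h) * (t ≫ fT) * (toUnit X ≫ h)⁻¹ = (t * (t ≫ α ≫ av)⁻¹) ≫ fT)
    (hsq : h ^ 2 = m ≫ av ≫ fT) (hcube : (h * (e₁ ≫ fα)) ^ 3 = 1)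

theorem const_comp {M : Over S} {X : Over S} (e : 𝟙_ (Over S) ⟶ M) {Y : Over S} (j : Y ⟶ X) :
    j ≫ toUnit X ≫ e = toUnit Y ≫ e := by
  rw [← Category.assoc, comp_toUnit]

include hm in
theorem const_m (X : Over S) : toUnit X ≫ m = gmPt (-1) := by
  refine eq_gmPt ((gmFn_comp _ _).trans ?_)
  rw [hm]
  exact ((map_neg (toUnit X).left.appTop.hom 1).trans (congrArg Neg.neg (map_one _))).trans (Units.val_neg 1).symm

include he₁ in
theorem const_e₁ (X : Over S) : toUnit X ≫ e₁ = gaPt 1 := by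
  refine eq_gaPt ((gaFn_comp _ _).trans ?_)
  rw [he₁]
  exact map_one (toUnit X).left.appTop.hom

/-- The presentation data on points with values in `X`. -/
noncomputable def presData (X : Over S) : R0 (X ⟶ H) Γ(X.left, ⊤) (X ⟶ T) where
  P a := gaPt a ≫ fα
  C := postHom fT X
  χ := chiHom T α
  V := avHom T av
  h := toUnit X ≫ h
  comm := isTorus_comm hT
  P_add a b := (congrArg (· ≫ fα) (gaPt_add a b)).trans (MonObj.mul_comp _ _ fα)
  hV a := hV_aux h2 a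
  hP t a := hP_aux hP t a
  hh t := (hh X t).trans (congrArg (fun q => (t * q⁻¹) ≫ fT)
    ((congrArg (· ≫ av) (gmPt_gmU (t ≫ α))).trans (Category.assoc t α av)).symm)
  sq := by
    have e : (toUnit X ≫ h) * (toUnit X ≫ h) = (toUnit X ≫ m) ≫ av ≫ fT := by
      rw [← MonObj.comp_mul, ← pow_two, hsq, Category.assoc]
    exact e.trans ((congrArg (· ≫ av ≫ fT) (const_m hm X)).trans (Category.assoc _ av fT).symm)
  cube := by
    show ((toUnit X ≫ h) * (gaPt 1 ≫ fα)) ^ 3 = 1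
    rw [← const_e₁ he₁ X, Category.assoc, ← MonObj.comp_mul, ← MonObj.comp_pow, hcube, MonObj.comp_one]

variable (fα) in
/-- The negative root group of the presentation. -/
noncomputable def negRoot : Red.Ga S ⟶ H :=
  (toUnit (Red.Ga S) ≫ h) * (gaPt (-Red.gaFn (𝟙 (Red.Ga S))) ≫ fα) * (toUnit (Red.Ga S) ≫ h)⁻¹

theorem comp_negRoot {X : Over S} (x : X ⟶ Red.Ga S) :
    x ≫ negRoot fα h = (toUnit X ≫ h) * (gaPt (-Red.gaFn x) ≫ fα) * (toUnit X ≫ h)⁻¹ := by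
  have e : x ≫ gaPt (-Red.gaFn (𝟙 (Red.Ga S))) = gaPt (-Red.gaFn x) := by
    refine (gaPt_comp _ _).trans (congrArg gaPt ((map_neg x.left.appTop.hom _).trans (congrArg Neg.neg ?_)))
    exact (gaFn_comp x (𝟙 _)).symm.trans (congrArg Red.gaFn (Category.comp_id x))
  rw [negRoot, MonObj.comp_mul, MonObj.comp_mul, GrpObj.comp_inv, const_comp, ← Category.assoc x, e]

include hT h2 hP hh hsq hcube he₁ hm in
theorem presData_N {X : Over S} (a : Γ(X.left, ⊤)) :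
    (presData h he₁ hm hT h2 hP hh hsq hcube X).N a = gaPt a ≫ negRoot fα h :=
  ((comp_negRoot h (gaPt a)).trans (congrArg (fun q => (toUnit X ≫ h) * (gaPt q ≫ fα) * (toUnit X ≫ h)⁻¹)
    (congrArg Neg.neg (gaFn_gaPt a)))).symm

include hT h2 hP hh hsq hcube he₁ hm in
theorem negRoot_isMonHom : IsMonHom (negRoot fα h) :=
  H21Diag.isMonHom_of_mul _ fun {Z} a b => by
    have ea : a = gaPt (Red.gaFn a) := eq_gaPt rfl
    have eb : b = gaPt (Red.gaFn b) := eq_gaPt rfl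
    have eab : a * b = gaPt (Red.gaFn a + Red.gaFn b) := eq_gaPt (H27Witt.GaCoord.gaFn_mul a b)
    rw [eab, ← presData_N h he₁ hm hT h2 hP hh hsq hcube, R0.N_add,
      presData_N h he₁ hm hT h2 hP hh hsq hcube, presData_N h he₁ hm hT h2 hP hh hsq hcube, ← ea, ← eb]

/-- The formula for a unit value of the negative root group. -/
def UnitRule (r : ∀ X : Over S, R0 (X ⟶ H) Γ(X.left, ⊤) (X ⟶ T)) : Prop :=
  ∀ (X : Over S) (v : (Γ(X.left, ⊤) : Type u)ˣ),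
    (r X).N ↑v = (r X).P ↑v⁻¹ * (r X).C ((r X).V (-v⁻¹)) * (r X).h * (r X).P ↑v⁻¹

variable (hα : ∀ s : S, (Over.pullback (Red.geomPt s)).map α ≠ 1)

include hT h2 hP hh hsq hcube he₁ hm hα in
theorem unitRule : UnitRule (presData h he₁ hm hT h2 hP hh hsq hcube) := by
  intro X v
  obtain ⟨Y, p, s, hfl, hsu, hs⟩ := exists_lift_char hT α hα (gmPt (-v))
  refine eq_of_flat_surjective p ?_
  let v' : (Γ(Y.left, ⊤) : Type u)ˣ := Units.map p.left.appTop.hom.toMonoidHom v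
  have hv1 : p ≫ gaPt v.val = gaPt v'.val := gaPt_comp _ _
  have hv2 : p ≫ gaPt (v⁻¹).val = gaPt (v'⁻¹).val := (gaPt_comp _ _).trans (congrArg gaPt (Units.coe_map_inv _ v).symm)
  have hs' : gmU (s ≫ α) = -v' := by
    rw [hs, gmPt_comp, gmU_gmPt]
    exact Units.ext (map_neg p.left.appTop.hom _)
  have h' := (presData h he₁ hm hT h2 hP hh hsq hcube Y).N_of_lift s v' hs'
  rw [presData_N h he₁ hm hT h2 hP hh hsq hcube] at h' ⊢
  show p ≫ gaPt v.val ≫ negRoot fα h =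
    p ≫ ((gaPt (v⁻¹).val ≫ fα) * ((gmPt (-v⁻¹) ≫ av) ≫ fT) * (toUnit X ≫ h) * (gaPt (v⁻¹).val ≫ fα))
  rw [MonObj.comp_mul, MonObj.comp_mul, MonObj.comp_mul, const_comp, ← Category.assoc, hv1,
    ← Category.assoc p (gaPt _) fα, hv2, ← Category.assoc p _ fT, ← Category.assoc p _ av, gmPt_comp]
  refine h'.trans ?_
  have e : Units.map p.left.appTop.hom.toMonoidHom (-v⁻¹) = -v'⁻¹ := Units.ext ((map_neg p.left.appTop.hom _).trans
    (congrArg Neg.neg (Units.coe_map_inv p.left.appTop.hom.toMonoidHom v).symm))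
  rw [e]
  rfl

include hT h2 hP hh hsq hcube he₁ hm hα in
theorem rule_aux {X : Over S} (a b : Γ(X.left, ⊤)) (z : (Γ(X.left, ⊤) : Type u)ˣ) (hz : z.val = 1 + a * b) :
    (gaPt a ≫ fα) * (gaPt b ≫ negRoot fα h) =
      (gaPt ((z⁻¹).val * b) ≫ negRoot fα h) * ((gmPt z ≫ av) ≫ fT) * (gaPt ((z⁻¹).val * a) ≫ fα) := by
  have hU := unitRule h he₁ hm hT h2 hP hh hsq hcube hα
  have unit : ∀ {Y : Over S} (x : Γ(Y.left, ⊤)) (v w : (Γ(Y.left, ⊤) : Type u)ˣ), w.val = 1 + x * v.val →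
      (presData h he₁ hm hT h2 hP hh hsq hcube Y).P x * (presData h he₁ hm hT h2 hP hh hsq hcube Y).N v.val =
        (presData h he₁ hm hT h2 hP hh hsq hcube Y).N ((w⁻¹).val * v.val) *
          (presData h he₁ hm hT h2 hP hh hsq hcube Y).C ((presData h he₁ hm hT h2 hP hh hsq hcube Y).V w) *
          (presData h he₁ hm hT h2 hP hh hsq hcube Y).P ((w⁻¹).val * x) :=
    fun {Y} x v w hw => (presData h he₁ hm hT h2 hP hh hsq hcube Y).F_unit x v w hw (hU Y v) (hU Y _)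
  have pull : ∀ {Y : Over S} (j : Y ⟶ X) (z' : (Γ(Y.left, ⊤) : Type u)ˣ), z'.val = j.left.appTop z.val →
      (presData h he₁ hm hT h2 hP hh hsq hcube Y).P (j.left.appTop a) *
          (presData h he₁ hm hT h2 hP hh hsq hcube Y).N (j.left.appTop b) =
        (presData h he₁ hm hT h2 hP hh hsq hcube Y).N ((z'⁻¹).val * j.left.appTop b) *
          (presData h he₁ hm hT h2 hP hh hsq hcube Y).C ((presData h he₁ hm hT h2 hP hh hsq hcube Y).V z') *
          (presData h he₁ hm hT h2 hP hh hsq hcube Y).P ((z'⁻¹).val * j.left.appTop a) →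
      j ≫ ((gaPt a ≫ fα) * (gaPt b ≫ negRoot fα h)) =
        j ≫ ((gaPt ((z⁻¹).val * b) ≫ negRoot fα h) * ((gmPt z ≫ av) ≫ fT) * (gaPt ((z⁻¹).val * a) ≫ fα)) := by
    intro Y j z' hz' e
    rw [presData_N h he₁ hm hT h2 hP hh hsq hcube, presData_N h he₁ hm hT h2 hP hh hsq hcube] at e
    have ez : Units.map j.left.appTop.hom.toMonoidHom z = z' := Units.ext hz'.symm
    have hn : ∀ w : Γ(X.left, ⊤), j.left.appTop ((z⁻¹).val * w) = (z'⁻¹).val * j.left.appTop w := fun w => by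
      rw [← ez]
      exact (map_mul j.left.appTop.hom _ _).trans
        (congrArg (· * _) (Units.coe_map_inv j.left.appTop.hom.toMonoidHom z).symm)
    rw [MonObj.comp_mul, MonObj.comp_mul, MonObj.comp_mul, ← Category.assoc j (gaPt a), ← Category.assoc j (gaPt b),
      ← Category.assoc j _ (negRoot fα h), ← Category.assoc j _ fα, ← Category.assoc j _ fT,
      ← Category.assoc j _ av, gaPt_comp, gaPt_comp, gaPt_comp, gaPt_comp, gmPt_comp, ez, hn, hn]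
    exact e
  refine hom_ext_split a b (hz ▸ z.isUnit) (fun Y j hb => ?_) (fun Y j c hc hbc hac => ?_)
  · obtain ⟨v, hv⟩ := hb
    refine pull j (Units.map j.left.appTop.hom.toMonoidHom z) rfl ?_
    rw [← hv]
    refine unit _ v _ ?_
    show j.left.appTop z.val = _
    rw [hz, hv, map_add, map_one, map_mul]
  · obtain ⟨v, hv⟩ := hc
    obtain ⟨w, hw⟩ := hbc
    obtain ⟨z₁, hz₁⟩ := hac
    refine pull j (Units.map j.left.appTop.hom.toMonoidHom z) rfl ?_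
    have hz' : (Units.map j.left.appTop.hom.toMonoidHom z).val = 1 + j.left.appTop a * j.left.appTop b := by
      show j.left.appTop z.val = _
      rw [hz, map_add, map_one, map_mul]
    generalize Units.map j.left.appTop.hom.toMonoidHom z = z' at hz' ⊢
    have eb : j.left.appTop b = v.val + w.val := by rw [hv, hw]; ring
    rw [← hv] at hz₁
    rw [eb] at hz' ⊢
    refine (presData h he₁ hm hT h2 hP hh hsq hcube Y).F_add _ v.val w.val z₁ z' hz₁ hz' (unit _ v z₁ hz₁)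
      (unit _ w (z₁⁻¹ * z') ?_)
    rw [Units.val_mul]
    linear_combination ((z₁⁻¹).val) * hz' - ((z₁⁻¹).val) * hz₁ + z₁.inv_mul

variable {G : Over S} [GrpObj G] {i : T ⟶ G} [IsMonHom i] {pp pm : Red.Ga S ⟶ G} [IsMonHom pp] [IsMonHom pm]
    (hpp : ∀ (X : Over S) (t : X ⟶ T) (x : X ⟶ Red.Ga S), ∃ x' : X ⟶ Red.Ga S,
      x' ≫ pp = (t ≫ i) * (x ≫ pp) * (t ≫ i)⁻¹ ∧ Red.gaFn x' = Red.gmFn (t ≫ α) * Red.gaFn x)
    (hpm : ∀ (X : Over S) (t : X ⟶ T) (y : X ⟶ Red.Ga S), ∃ y' : X ⟶ Red.Ga S,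
      y' ≫ pm = (t ≫ i) * (y ≫ pm) * (t ≫ i)⁻¹ ∧ Red.gaFn y' * Red.gmFn (t ≫ α) = Red.gaFn y)
    (hF : ∀ (X : Over S) (x y : X ⟶ Red.Ga S), IsUnit (1 + Red.gaFn x * Red.gaFn y) →
      ∃ (x' y' : X ⟶ Red.Ga S) (z : X ⟶ Red.Gm S), Red.gmFn z = 1 + Red.gaFn x * Red.gaFn y ∧
        Red.gaFn x' * Red.gmFn z = Red.gaFn x ∧ Red.gaFn y' * Red.gmFn z = Red.gaFn y ∧
        (x ≫ pp) * (y ≫ pm) = (y' ≫ pm) * (z ≫ av ≫ i) * (x' ≫ pp))
    {em : 𝟙_ (Over S) ⟶ Red.Ga S} (hem : Red.gaFn em = -1)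

theorem gaFn_gaPt_mul {X : Over S} (a : Γ(X.left, ⊤)) (z : (Γ(X.left, ⊤) : Type u)ˣ) :
    Red.gaFn (gaPt (X := X) ((z⁻¹).val * a)) * Red.gmFn (gmPt z) = a := by
  rw [gaFn_gaPt, gmFn_gmPt, _root_.mul_comm, ← _root_.mul_assoc, Units.mul_inv, _root_.one_mul]

theorem conj_eq_of {M : Type*} [Group M] {a k : M} (h : k * a * k⁻¹ = a⁻¹ * k * a⁻¹) :
    a * (k * a * k⁻¹) * a = k := by rw [h]; group

include he₁ hem in
theorem data_w_one (X : Over S) : toUnit X ≫ ((e₁ ≫ pp) * (em ≫ pm) * (e₁ ≫ pp)) =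
    (data G T i α pp pm hpp hpm av h2 hF X).w 1 := by
  rw [comp_mul3, ← Category.assoc, ← Category.assoc]
  refine (data_w 1 ((gaFn_comp _ _).trans ?_) ((gaFn_comp _ _).trans ?_)).symm
  · rw [he₁, Units.val_one]; exact map_one (toUnit X).left.appTop.hom
  · rw [hem, inv_one, Units.val_one]
    exact (map_neg (toUnit X).left.appTop.hom 1).trans (congrArg Neg.neg (map_one _))

include he₁ hem hpp hpm h2 hF hT in
/-- The Weyl element acts on the torus through the coroot. -/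
theorem weyl_hh (X : Over S) (t : X ⟶ T) :
    (toUnit X ≫ ((e₁ ≫ pp) * (em ≫ pm) * (e₁ ≫ pp))) * (t ≫ i) *
      (toUnit X ≫ ((e₁ ≫ pp) * (em ≫ pm) * (e₁ ≫ pp)))⁻¹ = (t * (t ≫ α ≫ av)⁻¹) ≫ i := by
  rw [data_w_one he₁ h2 hpp hpm hF hem X]
  have e := (data G T i α pp pm hpp hpm av h2 hF X).w_conj 1 t
  have eV : (gmPt (gmU (t ≫ α)) ≫ av) ≫ i = (t ≫ α ≫ av) ≫ i :=
    congrArg (· ≫ i) ((congrArg (· ≫ av) (gmPt_gmU (t ≫ α))).trans (Category.assoc t α av))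
  refine e.trans ?_
  show ((gmPt (gmU (t ≫ α)) ≫ av) ≫ i)⁻¹ * (t ≫ i) = _
  rw [eV, MonObj.mul_comp, GrpObj.inv_comp]
  obtain ⟨z, hz⟩ : ∃ z, z = t ≫ α ≫ av := ⟨_, rfl⟩
  rw [← hz, ← GrpObj.inv_comp, ← MonObj.mul_comp, ← MonObj.mul_comp, isTorus_comm hT]

include he₁ hem hm hpp hpm h2 hF in
/-- The square of the Weyl element. -/
theorem weyl_sq : ((e₁ ≫ pp) * (em ≫ pm) * (e₁ ≫ pp)) ^ 2 = m ≫ av ≫ i := by
  have e := (data G T i α pp pm hpp hpm av h2 hF (𝟙_ (Over S))).w_sq 1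
  rw [← data_w_one he₁ h2 hpp hpm hF hem, toUnit_unique (toUnit _) (𝟙 _), Category.id_comp, ← pow_two] at e
  refine e.trans (data_V (hpp := hpp) (hpm := hpm) (h2 := h2) (hF := hF) ?_)
  rw [hm, Units.val_neg, Units.val_one]

include he₁ hem hpp hpm h2 hF in
/-- The cube relation of the Weyl element. -/
theorem weyl_cube : (((e₁ ≫ pp) * (em ≫ pm) * (e₁ ≫ pp)) * (e₁ ≫ pp)) ^ 3 = 1 :=
  (conj_and_cube hpp hpm h2 hF e₁ em (by rw [hem, he₁, _root_.mul_one])).2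

include hm hT h2 hα he₁ hem hpp hpm hF in
/-- The negative root group is conjugate to the positive one by the Weyl element. -/
theorem negRoot_weyl : negRoot pp ((e₁ ≫ pp) * (em ≫ pm) * (e₁ ≫ pp)) = pm := by
  let w := (e₁ ≫ pp) * (em ≫ pm) * (e₁ ≫ pp)
  have hh' := weyl_hh he₁ hT h2 hpp hpm hF hem
  have hsq' := weyl_sq he₁ hm h2 hpp hpm hF hem
  have hcube' := weyl_cube he₁ h2 hpp hpm hF hem
  have hU := unitRule (fT := i) (fα := pp) w he₁ hm hT h2 hpp hh' hsq' hcube' hα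
  have unit : ∀ (X : Over S) (v : (Γ(X.left, ⊤) : Type u)ˣ), gaPt v.val ≫ negRoot pp w = gaPt v.val ≫ pm := by
    intro X v
    let r := data G T i α pp pm hpp hpm av h2 hF X
    rw [← presData_N (fT := i) (fα := pp) w he₁ hm hT h2 hpp hh' hsq' hcube', hU X v]
    show r.P (v⁻¹).val * r.C (r.V (-v⁻¹)) * (toUnit X ≫ w) * r.P (v⁻¹).val = r.N v.val
    rw [data_w_one he₁ h2 hpp hpm hF hem X, _root_.mul_assoc (r.P _) (r.C _) (r.w 1), ← r.w_mul_left, _root_.mul_one, R1.w,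
      Units.val_neg, r.P_neg, inv_neg, _root_.inv_inv, Units.val_neg, neg_neg]
    group
  have hN := negRoot_isMonHom (fT := i) (fα := pp) w he₁ hm hT h2 hpp hh' hsq' hcube'
  refine (Category.id_comp _).symm.trans ((hom_ext_split (u := 𝟙 (Red.Ga S) ≫ negRoot pp w) (v := 𝟙 (Red.Ga S) ≫ pm)
    0 (Red.gaFn (𝟙 (Red.Ga S))) (by simp) (fun Y j hu => ?_) (fun Y j a ha hb _ => ?_)).trans (Category.id_comp _))
  all_goals
    rw [← Category.assoc, ← Category.assoc, Category.comp_id]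
    have ej : j.left.appTop (Red.gaFn (𝟙 (Red.Ga S))) = Red.gaFn j :=
      (gaFn_comp j (𝟙 _)).symm.trans (congrArg Red.gaFn (Category.comp_id j))
  · rw [ej] at hu
    obtain ⟨v, hv⟩ := hu
    rw [eq_gaPt hv.symm]
    exact unit Y v
  · rw [ej] at hb
    obtain ⟨v, rfl⟩ := ha
    obtain ⟨w', hw⟩ := hb
    rw [eq_gaPt (show Red.gaFn j = v.val + w'.val by rw [hw]; ring), gaPt_add, MonObj.mul_comp, MonObj.mul_comp,
      unit Y v, unit Y w']

include hpp hpm hF hT h2 hP hh hsq hcube he₁ hm hem hα in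
theorem exists_presented (hΩ : IsOpenImmersion (((pm ⊗ₘ i) ⊗ₘ pp) ≫ (μ[G] ▷ G) ≫ μ[G]).left)
    (hG : Red.IsReductive G) :
    ∃! f : G ⟶ H, IsMonHom f ∧ i ≫ f = fT ∧ pp ≫ f = fα ∧ ((e₁ ≫ pp) * (em ≫ pm) * (e₁ ≫ pp)) ≫ f = h := by
  have hN := negRoot_isMonHom h he₁ hm hT h2 hP hh hsq hcube
  have hNc : ∀ (X : Over S) (t : X ⟶ T) (y : X ⟶ Red.Ga S), ∃ y' : X ⟶ Red.Ga S,
      y' ≫ negRoot fα h = (t ≫ fT) * (y ≫ negRoot fα h) * (t ≫ fT)⁻¹ ∧ Red.gaFn y' * Red.gmFn (t ≫ α) = Red.gaFn y := by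
    intro X t y
    let r := presData h he₁ hm hT h2 hP hh hsq hcube X
    refine ⟨gaPt (((r.χ t)⁻¹).val * Red.gaFn y), ?_, ?_⟩
    · have e := r.CN t (((r.χ t)⁻¹).val * Red.gaFn y)
      rw [← _root_.mul_assoc, Units.mul_inv, _root_.one_mul, presData_N h he₁ hm hT h2 hP hh hsq hcube,
        presData_N h he₁ hm hT h2 hP hh hsq hcube, ← eq_gaPt (x := y) rfl] at e
      exact eq_mul_inv_iff_mul_eq.mpr e.symm
    · have e := gaFn_gaPt_mul (Red.gaFn y) (gmU (t ≫ α))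
      rw [gmPt_gmU] at e
      exact e
  have hR : ∀ (X : Over S) (x y : X ⟶ Red.Ga S), IsUnit (1 + Red.gaFn x * Red.gaFn y) →
      ∃ (x' y' : X ⟶ Red.Ga S) (z : X ⟶ Red.Gm S), Red.gmFn z = 1 + Red.gaFn x * Red.gaFn y ∧
        Red.gaFn x' * Red.gmFn z = Red.gaFn x ∧ Red.gaFn y' * Red.gmFn z = Red.gaFn y ∧
        (x ≫ fα) * (y ≫ negRoot fα h) = (y' ≫ negRoot fα h) * (z ≫ av ≫ fT) * (x' ≫ fα) := by
    rintro X x y ⟨z, hz⟩
    refine ⟨_, _, gmPt z, (gmFn_gmPt z).trans hz, gaFn_gaPt_mul _ z, gaFn_gaPt_mul _ z, ?_⟩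
    have e := rule_aux h he₁ hm hT h2 hP hh hsq hcube hα (Red.gaFn x) (Red.gaFn y) z hz
    rw [← eq_gaPt (x := x) rfl, ← eq_gaPt (x := y) rfl, Category.assoc (gmPt z) av fT] at e
    exact e
  obtain ⟨f, ⟨hfm, hfi, hfp, hfn⟩, huniq⟩ := exists_hom hpp hpm h2 hF hΩ hG hT hP hNc hR
  have e₁' : e₁ = gaPt 1 := eq_gaPt he₁
  have hw : ((e₁ ≫ pp) * (em ≫ pm) * (e₁ ≫ pp)) ≫ f = h := by
    have e := (presData h he₁ hm hT h2 hP hh hsq hcube (𝟙_ (Over S))).conj_P_one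
    rw [R0.P_neg] at e
    have e' := conj_eq_of e
    rw [MonObj.mul_comp, MonObj.mul_comp, Category.assoc, Category.assoc, hfp, hfn, comp_negRoot, hem, neg_neg, e₁']
    refine (?_ : _ = _).trans (e'.trans ?_)
    · rfl
    · show toUnit _ ≫ h = h
      rw [toUnit_unique (toUnit _) (𝟙 _), Category.id_comp]
  refine ⟨f, ⟨hfm, hfi, hfp, hw⟩, ?_⟩
  rintro g ⟨hgm, hgi, hgp, hgw⟩
  refine huniq g ⟨hgm, hgi, hgp, ?_⟩
  rw [← negRoot_weyl he₁ hm hT h2 hα hpp hpm hF hem, negRoot, negRoot, MonObj.mul_comp, MonObj.mul_comp, GrpObj.inv_comp,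
    Category.assoc, Category.assoc, hgp, hgw]

end Groth.Agent.H21Rank1
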