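import Groth.Agent.H21Rank1.Equivariant
import Groth.Agent.H21Rank1.Centre
import Groth.Agent.H21Rank1.Hom

/-!
Homomorphisms from the additive group with a torus weight land in a root group.
-/

open CategoryTheory MonoidalCategory CartesianMonoidalCategory MonObj GrpObj AlgebraicGeometry
open Groth.Agent.H21Diag (gval gval_comp gval_injective)
open Groth.Agent.H27Witt.GaCoord (gval_eq gaFn_comp gaFn_one gaFn_mul gaFn_injective)

universe u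

set_option backward.isDefEq.respectTransparency false
set_option linter.unusedSectionVars false
set_option linter.unusedVariables false

namespace Groth.Agent.H21Rank1

theorem pow_comp_hom {C : Type*} [Category C] [CartesianMonoidalCategory C] {X M N : C} [GrpObj M] [GrpObj N]
    (a : X ⟶ M) (f : M ⟶ N) [IsMonHom f] (q : ℕ) : (a ≫ f) ^ q = (a ^ q) ≫ f := by
  induction q with
  | zero => simp [MonObj.one_comp]
  | succ n ih => rw [pow_succ, pow_succ, MonObj.mul_comp, ih]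

variable {S : Scheme.{u}}

/-- A point of an affine line that specialises to the zero section. -/
theorem generic_specializes (κ : Type u) [Field κ] :
    (Spec.map (CommRingCat.ofHom (algebraMap (Polynomial κ) (RatFunc κ)))) (default : PrimeSpectrum (RatFunc κ)) ⤳
      (Spec.map (CommRingCat.ofHom (Polynomial.evalRingHom (0 : κ)))) (default : PrimeSpectrum κ) := by
  refine (PrimeSpectrum.le_iff_specializes _ _).mp ?_
  intro v hv
  have h0 : algebraMap (Polynomial κ) (RatFunc κ) v = 0 := by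
    by_contra hne
    exact (default : PrimeSpectrum (RatFunc κ)).isPrime.ne_top
      (Ideal.eq_top_of_isUnit_mem _ hv (isUnit_iff_ne_zero.mpr hne))
  rw [IsFractionRing.to_map_eq_zero_iff] at h0
  rw [h0]
  exact Ideal.zero_mem _

theorem range_fromResidue {Y : Scheme.{u}} (y : Y) (pt : Spec (Y.residueField y)) :
    Y.fromSpecResidueField y pt = y :=
  Scheme.fromSpecResidueField_apply _ _

theorem gval_one {B : Type u} [CommRing B] (s : Spec (CommRingCat.of B) ⟶ S) :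
    gval (1 : Over.mk s ⟶ Red.Ga S) = 0 := by
  rw [gval_eq, gaFn_one]; exact map_zero (Scheme.ΓSpecIso (CommRingCat.of B)).hom.hom

variable {G T : Over S} [GrpObj G] [GrpObj T] {i : T ⟶ G} [IsMonHom i] {α : T ⟶ Red.Gm S} [IsMonHom α]
    {pp pm : Red.Ga S ⟶ G} [IsMonHom pp] [IsMonHom pm]
    {Q : Over S} [GrpObj Q] {j : Q ⟶ T} [IsMonHom j]
    (hpp : ∀ (X : Over S) (t : X ⟶ T) (x : X ⟶ Red.Ga S), ∃ x' : X ⟶ Red.Ga S,
      x' ≫ pp = (t ≫ i) * (x ≫ pp) * (t ≫ i)⁻¹ ∧ Red.gaFn x' = Red.gmFn (t ≫ α) * Red.gaFn x)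
    (hpm : ∀ (X : Over S) (t : X ⟶ T) (y : X ⟶ Red.Ga S), ∃ y' : X ⟶ Red.Ga S,
      y' ≫ pm = (t ≫ i) * (y ≫ pm) * (t ≫ i)⁻¹ ∧ Red.gaFn y' * Red.gmFn (t ≫ α) = Red.gaFn y)
    (hΩ : IsOpenImmersion (((pm ⊗ₘ i) ⊗ₘ pp) ≫ (μ[G] ▷ G) ≫ μ[G]).left)
    (hT : Red.IsTorus T) (hQ : Red.IsTorus Q)
    (hα : ∀ s : S, (Over.pullback (Red.geomPt s)).map (j ≫ α) ≠ 1)
    (q : ℕ) (p : Red.Ga S ⟶ G) [IsMonHom p]
    (hp : ∀ (X : Over S) (t : X ⟶ Q) (x x' : X ⟶ Red.Ga S), Red.gaFn x' = Red.gmFn (t ≫ j ≫ α) * Red.gaFn x →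
      x' ≫ p = ((t ≫ j ≫ i) ^ q) * (x ≫ p) * ((t ≫ j ≫ i) ^ q)⁻¹)

include hpp hpm hT in
/-- Conjugating a cell point by a point of the torus. -/
theorem conj_cell {X : Over S} (s : X ⟶ T) (y x : X ⟶ Red.Ga S) (t : X ⟶ T) :
    ∃ y' x' : X ⟶ Red.Ga S, Red.gaFn y' * Red.gmFn (s ≫ α) = Red.gaFn y ∧
      Red.gaFn x' = Red.gmFn (s ≫ α) * Red.gaFn x ∧
      (s ≫ i) * ((y ≫ pm) * (t ≫ i) * (x ≫ pp)) * (s ≫ i)⁻¹ = (y' ≫ pm) * (t ≫ i) * (x' ≫ pp) := by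
  obtain ⟨x', hx1, hx2⟩ := hpp X s x
  obtain ⟨y', hy1, hy2⟩ := hpm X s y
  refine ⟨y', x', hy2, hx2, ?_⟩
  have hc : (s ≫ i) * (t ≫ i) = (t ≫ i) * (s ≫ i) := by
    rw [← MonObj.mul_comp, ← MonObj.mul_comp, isTorus_comm hT]
  rw [hy1, hx1]
  calc (s ≫ i) * ((y ≫ pm) * (t ≫ i) * (x ≫ pp)) * (s ≫ i)⁻¹
      = (s ≫ i) * (y ≫ pm) * (s ≫ i)⁻¹ * ((s ≫ i) * (t ≫ i)) * (x ≫ pp) * (s ≫ i)⁻¹ := by group
    _ = _ := by rw [hc]; group

include hp in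
theorem hp_pow {X : Over S} (t : X ⟶ Q) (x x' : X ⟶ Red.Ga S) (h : Red.gaFn x' = Red.gmFn (t ≫ j ≫ α) * Red.gaFn x) :
    x' ≫ p = (((t ≫ j) ^ q) ≫ i) * (x ≫ p) * (((t ≫ j) ^ q) ≫ i)⁻¹ := by
  rw [hp X t x x' h, ← pow_comp_hom, Category.assoc]

include hp hpp hpm hΩ hT hQ hα in
theorem range_p_subset : Set.range p.left ⊆ Set.range (((pm ⊗ₘ i) ⊗ₘ pp) ≫ (μ[G] ▷ G) ≫ μ[G]).left := by
  have := hΩ
  rintro _ ⟨w, rfl⟩
  let κ := (Red.Ga S).left.residueField w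
  let s₀ : Spec (CommRingCat.of κ) ⟶ S := (Red.Ga S).left.fromSpecResidueField w ≫ (Red.Ga S).hom
  let x : Over.mk s₀ ⟶ Red.Ga S := Over.homMk ((Red.Ga S).left.fromSpecResidueField w) rfl
  have hxw : x.left (default : PrimeSpectrum κ) = w := range_fromResidue w _
  by_cases ha : gval x = 0
  · have hx : x ≫ p = 1 := by
      rw [show x = 1 from gval_injective (ha.trans (gval_one s₀).symm), MonObj.one_comp]
    refine Set.mem_of_eq_of_mem ?_ (eta_mem_cell hΩ (s₀ (default : PrimeSpectrum κ)))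
    refine (congrArg p.left hxw).symm.trans ?_
    exact (congrArg (fun r : Over.mk s₀ ⟶ G => r.left (default : PrimeSpectrum κ)) hx).trans (one_left_apply _)
  let D := Polynomial κ
  let sD : Spec (CommRingCat.of D) ⟶ S := Spec.map (CommRingCat.ofHom (Polynomial.C : κ →+* D)) ≫ s₀
  obtain ⟨gX, hgX⟩ := exists_gval sD (Polynomial.X : D)
  let sL : Spec (CommRingCat.of (RatFunc κ)) ⟶ S := Spec.map (CommRingCat.ofHom (algebraMap D (RatFunc κ))) ≫ sD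
  let mL : Over.mk sL ⟶ Over.mk sD := Over.homMk (Spec.map (CommRingCat.ofHom (algebraMap D (RatFunc κ)))) rfl
  let m0 : Over.mk s₀ ⟶ Over.mk sD := Over.homMk (Spec.map (CommRingCat.ofHom (Polynomial.evalRingHom (0 : κ)))) (by
    change Spec.map _ ≫ Spec.map _ ≫ s₀ = s₀
    rw [← Category.assoc, ← Spec.map_comp, ← CommRingCat.ofHom_comp,
      show (Polynomial.evalRingHom (0 : κ)).comp Polynomial.C = RingHom.id κ from RingHom.ext fun c => Polynomial.eval_C]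
    exact (congrArg (· ≫ s₀) (Spec.map_id _)).trans (Category.id_comp _))
  have h0 : m0 ≫ gX = 1 := gval_injective (by
    rw [gval_comp (Polynomial.evalRingHom (0 : κ)) gX (m0 ≫ gX) rfl, hgX, gval_one]
    exact Polynomial.eval_X)
  have hgen : ((mL ≫ gX) ≫ p).left (default : PrimeSpectrum (RatFunc κ)) ∈
      (((pm ⊗ₘ i) ⊗ₘ pp) ≫ (μ[G] ▷ G) ≫ μ[G]).left.opensRange := by
    refine Specializes.mem_open (?_ : ((mL ≫ gX) ≫ p).left (default : PrimeSpectrum (RatFunc κ)) ⤳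
      ((m0 ≫ gX) ≫ p).left (default : PrimeSpectrum κ)) (Scheme.Hom.opensRange _).isOpen ?_
    · exact (generic_specializes κ).map ((gX ≫ p).left.continuous)
    · rw [h0, MonObj.one_comp, one_left_apply]
      exact eta_mem_cell hΩ _
  let mκ : Over.mk sL ⟶ Over.mk s₀ := Over.homMk
    (Spec.map (CommRingCat.ofHom (algebraMap D (RatFunc κ))) ≫ Spec.map (CommRingCat.ofHom (Polynomial.C : κ →+* D)))
    (Category.assoc _ _ _)
  have hxL : gval (mκ ≫ x) = algebraMap D (RatFunc κ) (Polynomial.C (gval x)) :=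
    gval_comp ((algebraMap D (RatFunc κ)).comp Polynomial.C) x (mκ ≫ x)
      (congrArg (· ≫ x.left) ((Spec.map_comp _ _).symm.trans (by rfl)))
  have hbL : gval (mL ≫ gX) = algebraMap D (RatFunc κ) Polynomial.X :=
    (gval_comp (algebraMap D (RatFunc κ)) gX (mL ≫ gX) rfl).trans (congrArg _ hgX)
  have hne1 : gval (mL ≫ gX) ≠ 0 := by
    rw [hbL, map_ne_zero_iff _ (IsFractionRing.injective D (RatFunc κ))]; exact Polynomial.X_ne_zero
  have hne2 : gval (mκ ≫ x) ≠ 0 := by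
    rw [hxL, map_ne_zero_iff _ (IsFractionRing.injective D (RatFunc κ))]; exact Polynomial.C_ne_zero.mpr ha
  let z : Over.mk sL ⟶ Red.Gm S := gmPt (Units.map (Scheme.ΓSpecIso (CommRingCat.of (RatFunc κ))).inv.hom.toMonoidHom
    (Units.mk0 _ (div_ne_zero hne1 hne2)))
  have hz : Red.gaFn (mL ≫ gX) = Red.gmFn z * Red.gaFn (mκ ≫ x) := by
    apply (Scheme.ΓSpecIso (CommRingCat.of (RatFunc κ))).commRingCatIsoToRingEquiv.injective
    rw [map_mul, gmFn_gmPt]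
    change (Scheme.ΓSpecIso (CommRingCat.of (RatFunc κ))).hom _ = (Scheme.ΓSpecIso (CommRingCat.of (RatFunc κ))).hom _ *
      (Scheme.ΓSpecIso (CommRingCat.of (RatFunc κ))).hom _
    rw [← gval_eq, ← gval_eq]
    refine ((div_mul_cancel₀ (gval (mL ≫ gX)) hne2).symm).trans (congrArg (· * gval (mκ ≫ x)) ?_)
    exact (Iso.inv_hom_id_apply (Scheme.ΓSpecIso (CommRingCat.of (RatFunc κ))) _).symm
  obtain ⟨Y, pY, s, hf, hs, hsz⟩ := exists_lift_char hQ (j ≫ α) hα z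
  have hb : Red.gaFn (pY ≫ mL ≫ gX) = Red.gmFn (s ≫ j ≫ α) * Red.gaFn (pY ≫ mκ ≫ x) := by
    rw [gaFn_comp pY (mκ ≫ x), gaFn_comp pY (mL ≫ gX), hsz, gmFn_comp, hz]
    exact map_mul pY.left.appTop.hom _ _
  have hrange : Set.range ((pY ≫ mL ≫ gX) ≫ p).left ⊆
      Set.range (((pm ⊗ₘ i) ⊗ₘ pp) ≫ (μ[G] ▷ G) ≫ μ[G]).left := by
    rintro _ ⟨y, rfl⟩
    have e : pY.left y = (default : PrimeSpectrum (RatFunc κ)) := Subsingleton.elim (α := PrimeSpectrum (RatFunc κ)) _ _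
    rw [show (pY ≫ mL ≫ gX) ≫ p = pY ≫ (mL ≫ gX) ≫ p from Category.assoc _ _ _]
    change ((mL ≫ gX) ≫ p).left (pY.left y) ∈ _
    rw [e]
    exact hgen
  obtain ⟨v, hv⟩ := exists_lift_of_range_subset (((pm ⊗ₘ i) ⊗ₘ pp) ≫ (μ[G] ▷ G) ≫ μ[G]) _ hrange
  rw [cell_point_surjective, hp_pow q p hp s _ _ hb] at hv
  obtain ⟨y', x', -, -, hc⟩ := conj_cell hpp hpm hT (((s ≫ j) ^ q)⁻¹) (v ≫ fst _ _ ≫ fst _ _) (v ≫ snd _ _)
    (v ≫ fst _ _ ≫ snd _ _)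
  rw [hv, GrpObj.inv_comp] at hc
  obtain ⟨y0, hy0⟩ := hs.surj (default : PrimeSpectrum (RatFunc κ))
  refine ⟨(lift (lift y' (v ≫ fst _ _ ≫ snd _ _)) x').left y0, ?_⟩
  have h : lift (lift y' (v ≫ fst _ _ ≫ snd _ _)) x' ≫ ((pm ⊗ₘ i) ⊗ₘ pp) ≫ (μ[G] ▷ G) ≫ μ[G] = (pY ≫ mκ ≫ x) ≫ p := by
    rw [lift_cell, ← hc]; group
  refine (congrArg (fun r : Y ⟶ G => r.left y0) h).trans ?_
  change p.left (x.left (mκ.left (pY.left y0))) = p.left w
  exact congrArg p.left ((congrArg x.left (Subsingleton.elim (α := PrimeSpectrum κ) (mκ.left (pY.left y0)) default)).trans hxw)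

theorem mono_cell (hΩ : IsOpenImmersion (((pm ⊗ₘ i) ⊗ₘ pp) ≫ (μ[G] ▷ G) ≫ μ[G]).left) :
    Mono (((pm ⊗ₘ i) ⊗ₘ pp) ≫ (μ[G] ▷ G) ≫ μ[G]) := by
  have := hΩ
  exact (Over.forget S).mono_of_mono_map (f := ((pm ⊗ₘ i) ⊗ₘ pp) ≫ (μ[G] ▷ G) ≫ μ[G])
    (inferInstanceAs (Mono (((pm ⊗ₘ i) ⊗ₘ pp) ≫ (μ[G] ▷ G) ≫ μ[G]).left))

include hΩ in
theorem cell_cancel {X : Over S} {y y' x x' : X ⟶ Red.Ga S} {t t' : X ⟶ T}
    (h : (y ≫ pm) * (t ≫ i) * (x ≫ pp) = (y' ≫ pm) * (t' ≫ i) * (x' ≫ pp)) : y = y' ∧ t = t' ∧ x = x' := by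
  have := mono_cell (i := i) (pp := pp) (pm := pm) hΩ
  rw [← lift_cell, ← lift_cell, cancel_mono] at h
  have h1 := congrArg (fun r => r ≫ fst _ _ ≫ fst _ _) h
  have h2 := congrArg (fun r => r ≫ fst _ _ ≫ snd _ _) h
  have h3 := congrArg (fun r => r ≫ snd _ _) h
  simp only [lift_snd, lift_fst_assoc, lift_fst] at h1 h2 h3
  exact ⟨h1, h2, h3⟩

theorem gmFn_pow_comp {X : Over S} (v : X ⟶ T) (n : ℕ) :
    Red.gmFn ((v ^ n) ≫ α) = Red.gmFn (v ≫ α) ^ n :=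
  (congrArg Units.val (map_pow (chiHom T α (X := X)) v n)).trans (Units.val_pow_eq_pow_val _ n)

theorem torus_idem {M : Type*} [Group M] {a : M} (h : a = a * a) : a = 1 := left_eq_mul.mp h

include hp hpp hpm hΩ hT hQ hα in
theorem exists_weight_form : ∃ f₀ : Red.Ga S ⟶ Red.Ga S, p = f₀ ≫ pp ∧
    ∀ (X : Over S) (x o : X ⟶ Red.Ga S), Red.gaFn o = 1 →
      Red.gaFn (x ≫ f₀) = Red.gaFn (o ≫ f₀) * Red.gaFn x ^ q := by
  have := hΩ
  obtain ⟨v, hv⟩ := exists_lift_of_range_subset (((pm ⊗ₘ i) ⊗ₘ pp) ≫ (μ[G] ▷ G) ≫ μ[G]) p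
    (range_p_subset hpp hpm hΩ hT hQ hα q p hp)
  obtain ⟨y₀, hy₀⟩ : ∃ y₀, y₀ = v ≫ fst _ _ ≫ fst _ _ := ⟨_, rfl⟩
  obtain ⟨τ₀, hτ₀⟩ : ∃ τ₀, τ₀ = v ≫ fst _ _ ≫ snd _ _ := ⟨_, rfl⟩
  obtain ⟨f₀, hf₀⟩ : ∃ f₀, f₀ = v ≫ snd _ _ := ⟨_, rfl⟩
  rw [cell_point_surjective, ← hy₀, ← hτ₀, ← hf₀] at hv
  have hform : ∀ {X : Over S} (x : X ⟶ Red.Ga S),
      x ≫ p = ((x ≫ y₀) ≫ pm) * ((x ≫ τ₀) ≫ i) * ((x ≫ f₀) ≫ pp) := fun x => by
    rw [← hv, comp_mul3, Category.assoc, Category.assoc, Category.assoc]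
  have hscale : ∀ (Y : Over S) (z : Y ⟶ Red.Gm S) (x x' : Y ⟶ Red.Ga S), Red.gaFn x' = Red.gmFn z * Red.gaFn x →
      Red.gaFn (x' ≫ y₀) * Red.gmFn z ^ q = Red.gaFn (x ≫ y₀) ∧ x' ≫ τ₀ = x ≫ τ₀ ∧
        Red.gaFn (x' ≫ f₀) = Red.gmFn z ^ q * Red.gaFn (x ≫ f₀) := by
    intro Y z x x' h
    obtain ⟨Y', r, s, hf', hs', hsz⟩ := exists_lift_char hQ (j ≫ α) hα z
    have hb : Red.gaFn (r ≫ x') = Red.gmFn (s ≫ j ≫ α) * Red.gaFn (r ≫ x) := by
      rw [gaFn_comp, gaFn_comp, hsz, gmFn_comp, h]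
      exact map_mul r.left.appTop.hom _ _
    obtain ⟨y', xx, hy, hx, hc⟩ := conj_cell hpp hpm hT ((s ≫ j) ^ q) ((r ≫ x) ≫ y₀) ((r ≫ x) ≫ f₀) ((r ≫ x) ≫ τ₀)
    rw [← hform, ← hp_pow q p hp s _ _ hb, hform] at hc
    obtain ⟨e1, e2, e3⟩ := cell_cancel hΩ hc
    have hz : Red.gmFn (((s ≫ j) ^ q) ≫ α) = r.left.appTop (Red.gmFn z ^ q) := by
      rw [gmFn_pow_comp, Category.assoc, hsz, gmFn_comp]
      exact (map_pow r.left.appTop.hom _ q).symm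
    rw [hz, ← e1] at hy
    rw [hz, ← e3] at hx
    refine ⟨?_, eq_of_flat_surjective r (by rw [← Category.assoc, e2, Category.assoc]), ?_⟩
    · rw [← gaFn_gaPt (X := Y) (Red.gaFn (x' ≫ y₀) * Red.gmFn z ^ q)]
      refine congrArg Red.gaFn (eq_of_flat_surjective r (gaFn_injective ?_))
      rw [gaFn_comp r (gaPt _), gaFn_gaPt]
      refine ((map_mul r.left.appTop.hom _ _).trans ?_).trans (congrArg Red.gaFn (Category.assoc r x y₀))
      exact (congrArg (· * r.left.appTop (Red.gmFn z ^ q)) ((gaFn_comp r (x' ≫ y₀)).symm.trans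
        (congrArg Red.gaFn (Category.assoc r x' y₀).symm))).trans hy
    · rw [← gaFn_gaPt (X := Y) (Red.gmFn z ^ q * Red.gaFn (x ≫ f₀))]
      refine congrArg Red.gaFn (eq_of_flat_surjective r (gaFn_injective ?_))
      rw [gaFn_comp r (gaPt _), gaFn_gaPt]
      refine ((congrArg Red.gaFn (Category.assoc r x' f₀).symm).trans hx).trans ?_
      exact ((congrArg (r.left.appTop (Red.gmFn z ^ q) * ·) ((congrArg Red.gaFn (Category.assoc r x f₀)).trans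
        (gaFn_comp r (x ≫ f₀)))).trans (map_mul r.left.appTop.hom _ _).symm)
  have h01 : (1 : 𝟙_ (Over S) ⟶ Red.Ga S) ≫ y₀ = 1 := by
    have h := hform (1 : 𝟙_ (Over S) ⟶ Red.Ga S)
    rw [MonObj.one_comp] at h
    refine (cell_cancel hΩ (y' := 1) (t' := 1) (x' := 1) (h.symm.trans ?_)).1
    rw [MonObj.one_comp, MonObj.one_comp, MonObj.one_comp, _root_.mul_one, _root_.mul_one]
  have hy1 : ∀ {X : Over S} (x : X ⟶ Red.Ga S), x ≫ y₀ = 1 := fun x =>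
    comp_eq_one y₀ h01 q (fun Y z x x' h => (hscale Y z x x' h).1) x
  have hform' : ∀ {X : Over S} (x : X ⟶ Red.Ga S), x ≫ p = ((x ≫ τ₀) ≫ i) * ((x ≫ f₀) ≫ pp) := fun x => by
    rw [hform, hy1, MonObj.one_comp, _root_.one_mul]
  have hτmul : ∀ {X : Over S} (a b : X ⟶ Red.Ga S), (a * b) ≫ τ₀ = (a ≫ τ₀) * (b ≫ τ₀) := by
    intro X a b
    have h := hform' (a * b)
    rw [MonObj.mul_comp, hform' a, hform' b] at h
    obtain ⟨x', hx1, -⟩ := hpp X (b ≫ τ₀)⁻¹ (a ≫ f₀)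
    refine ((cell_cancel hΩ (y := 1) (y' := 1) (t := (a ≫ τ₀) * (b ≫ τ₀)) (x := x' * (b ≫ f₀))
      (x' := (a * b) ≫ f₀) ?_).2.1).symm
    rw [MonObj.one_comp, _root_.one_mul, _root_.one_mul, ← h, MonObj.mul_comp, MonObj.mul_comp, hx1, GrpObj.inv_comp]
    group
  have hτunit : ∀ {X : Over S} (u : (Γ(X.left, ⊤) : Type u)ˣ), gaPt (X := X) u.val ≫ τ₀ = gaPt (X := X) 1 ≫ τ₀ :=
    fun {X} u => (hscale X (gmPt u) (gaPt 1) (gaPt u.val) (by rw [gaFn_gaPt, gaFn_gaPt, gmFn_gmPt, _root_.mul_one])).2.1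
  have hτ1 : ∀ {X : Over S}, gaPt (X := X) 1 ≫ τ₀ = 1 := by
    intro X
    refine hom_ext_cover fun Y k c hc => ?_
    rw [← Category.assoc, gaPt_comp, map_one, MonObj.comp_one]
    refine torus_idem ?_
    have hu : IsUnit c := .of_mul_eq_one _ hc
    have hu' : IsUnit (1 - c) := .of_mul_eq_one _ ((_root_.mul_comm _ _).trans hc)
    conv_lhs => rw [← add_sub_cancel c (1 : Γ(Y.left, ⊤)), gaPt_add, hτmul]
    exact congrArg₂ (· * ·) (hτunit hu.unit) (hτunit hu'.unit)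
  have hτ : ∀ {X : Over S} (x : X ⟶ Red.Ga S), x ≫ τ₀ = 1 := by
    intro X x
    refine hom_ext_cover_sum (Red.gaFn x) fun Y k c hc => ?_
    rw [← Category.assoc, eq_gaPt (gaFn_comp k x), MonObj.comp_one]
    have hu : IsUnit c := .of_mul_eq_one _ hc
    have hu' : IsUnit (k.left.appTop (Red.gaFn x) - c) := .of_mul_eq_one (-c) (by linear_combination hc)
    rw [← add_sub_cancel c (k.left.appTop (Red.gaFn x)), gaPt_add, hτmul]
    exact (congrArg₂ (· * ·) ((hτunit hu.unit).trans hτ1) ((hτunit hu'.unit).trans hτ1)).trans (_root_.one_mul _)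
  refine ⟨f₀, ?_, fun X x o ho => gaFn_comp_pow f₀ q (fun Y z x x' h => (hscale Y z x x' h).2.2) x o ho⟩
  have h := hform' (𝟙 (Red.Ga S))
  rw [hτ, MonObj.one_comp, _root_.one_mul, Category.id_comp, Category.id_comp] at h
  exact h

include hp hpp hpm hΩ hT hQ hα in
theorem existsUnique_weight (e₁ : 𝟙_ (Over S) ⟶ Red.Ga S) (he₁ : Red.gaFn e₁ = 1) :
    ∃! ν : 𝟙_ (Over S) ⟶ Red.Ga S, ∀ (X : Over S) (x y : X ⟶ Red.Ga S),
      Red.gaFn y = Red.gaFn (toUnit X ≫ ν) * Red.gaFn x ^ q → x ≫ p = y ≫ pp := by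
  obtain ⟨f₀, hf₀, hpow⟩ := exists_weight_form hpp hpm hΩ hT hQ hα q p hp
  refine ⟨e₁ ≫ f₀, fun X x y hy => ?_, fun ν hν => ?_⟩
  · rw [hf₀, ← Category.assoc]
    refine congrArg (· ≫ pp) (gaFn_injective ?_)
    rw [hy, ← Category.assoc, hpow X x (toUnit X ≫ e₁) (by rw [gaFn_comp, he₁, map_one])]
  · have h := hν _ e₁ ν (by rw [he₁, one_pow, _root_.mul_one, toUnit_unique (toUnit _) (𝟙 _), Category.id_comp])
    rw [hf₀, ← Category.assoc] at h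
    refine ((cell_cancel hΩ (y := 1) (y' := 1) (t := 1) (t' := 1) (x := e₁ ≫ f₀) (x' := ν) ?_).2.2).symm
    rw [h]

end Groth.Agent.H21Rank1
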